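import Cfsg.Agent.Lib.Sporadic.Fi23Out.Defs

/-!
Certificates for the normalisers of subgroups of prime order of Fi23: the checks evaluated by the kernel.
-/

set_option autoImplicit false

namespace CfsgLib.Sporadic.FiTransfer.Norm23

open CosetCert
open CosetCert.Fi23P.OutFi (rowsOf fullWord)
open CosetCert.Fi23P.Two (genPts)

/-- Run a word through the fast rows. -/
noncomputable def run (w : List ℕ) (v : ℕ) : ℕ := PTab.runL (rowsOf w) v

/-- All letters of a word are letters. -/
noncomputable def wordK (w : List ℕ) : Bool := w.all fun x => Nat.blt x 10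

/-- A power of a word. -/
def powW (i : ℕ) (w : List ℕ) : List ℕ := (List.replicate i w).flatten

/-- A word carries a point to the point of a generator. -/
noncomputable def halfR (v : ℕ) (h : List ℕ × ℕ) : Bool :=
  Nat.blt h.2 10 && wordK h.1 && Nat.blt v 31671 && Nat.beq (run h.1 v) (genPts.getD h.2 31671)

/-- The transposition given by half a word fixes a point. -/
noncomputable def comR (h : List ℕ × ℕ) (v : ℕ) : Bool := Nat.beq (run (fullWord h) v) v

/-- Two words act alike on the points of the generators. -/
noncomputable def sameR (A B : List ℕ) : Bool :=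
  genPts.all fun v => Nat.beq (run A v) (run B v)

/-- The data of a certificate for an element of prime order. -/
structure Cert where
  p : ℕ
  w : List ℕ
  fix : List ℕ
  fixHalf : List (List ℕ × ℕ)
  s : ℕ
  sHalf : List ℕ × ℕ
  orb : List ℕ
  prof : List Bool
  sigOrd : List ℕ
  sig : List Bool
  al : List (List ℕ)
  mask : ℕ
  reps : List (ℕ × ℕ × (List ℕ × ℕ))
  ders : List (ℕ × ℕ × ℕ × (List ℕ × ℕ))

namespace Cert

variable (C : Cert)

/-- The half word of a fixed point. -/
def fh (i : ℕ) : List ℕ × ℕ := C.fixHalf.getD i ([], 0)

/-- The small checks on the element and its fixed points. -/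
noncomputable def baseK : Bool :=
  wordK C.w && Nat.blt 1 C.p && sameR (powW C.p C.w) [] &&
    (List.range C.fix.length).all (fun i =>
      halfR (C.fix.getD i 31671) (C.fh i) && Nat.beq (run C.w (C.fix.getD i 31671)) (C.fix.getD i 31671)) &&
    halfR C.s C.sHalf && !(Nat.beq (run C.w C.s) C.s) &&
    (List.range C.p).all (fun j => Nat.beq (run (powW j C.w) C.s) (C.orb.getD j 31671) &&
      (comR C.sHalf (C.orb.getD j 31671) == C.prof.getD j false)) &&
    (List.range C.fix.length).all (fun i => comR (C.fh i) C.s == C.sig.getD i false) &&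
    C.al.all (fun a => wordK a && sameR (C.w ++ a) (a ++ C.w) &&
      C.fix.all fun f => Nat.beq (run a f) f) &&
    C.sigOrd.all (fun i => Nat.blt i C.fix.length)

/-- The fixed points are the listed ones. -/
noncomputable def fixScanK (t n : ℕ) : Bool :=
  (List.range n).all fun i => !(Nat.beq (run C.w (t + i)) (t + i)) || C.fix.contains (t + i)

/-- Every point is told apart by a fixed point, fixed itself, or marked. -/
noncomputable def scanK (t n : ℕ) : Bool :=
  (List.range n).all fun i =>
    C.sigOrd.any (fun j => bif C.sig.getD j false then !(comR (C.fh j) (t + i)) else comR (C.fh j) (t + i)) ||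
      Nat.testBit C.mask (t + i) || C.fix.contains (t + i)

/-- The orbit of a point under the element, in binary. -/
noncomputable def orbBits (r : ℕ) : ℕ :=
  Nat.rec (motive := fun _ => ℕ → ℕ) (fun _ => 0)
    (fun _ ih v => Nat.lor (Nat.shiftLeft 1 v)
      (Nat.rec (motive := fun _ => ℕ) (ih 0) (fun k _ => ih (Nat.succ k)) (run C.w v))) C.p r

/-- The marks are the orbits of the representatives. -/
noncomputable def maskK : Bool :=
  Nat.beq (C.reps.foldr (fun r acc => Nat.lor (C.orbBits r.1) acc) 0) C.mask

/-- The witness of a representative: an allowed image, a fixed point or a place of the orbit. -/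
noncomputable def repAt (r : ℕ × ℕ × (List ℕ × ℕ)) : Bool :=
  halfR r.1 r.2.2 &&
    bif Nat.ble 1000 r.2.1 then
      Nat.blt (r.2.1 - 1000) C.al.length && Nat.beq (run (C.al.getD (r.2.1 - 1000) []) C.s) r.1
    else bif Nat.ble 500 r.2.1 then
      Nat.blt (r.2.1 - 500) C.fix.length &&
        !(comR (C.fh (r.2.1 - 500)) r.1 == C.sig.getD (r.2.1 - 500) false)
    else
      Nat.blt r.2.1 C.p && !(comR r.2.2 (run (powW r.2.1 C.w) r.1) == C.prof.getD r.2.1 false)

/-- The witnesses of some representatives. -/
noncomputable def repsK (t n : ℕ) : Bool := ((C.reps.drop t).take n).all C.repAt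

/-- The seeds of the closure. -/
def seeds : List ℕ := C.fix ++ C.orb

/-- The points of the closure. -/
def pts : List ℕ := C.seeds ++ C.ders.map fun d => d.1

/-- The closure reaches the points of the generators. -/
noncomputable def closeK : Bool :=
  (List.range C.ders.length).all (fun m =>
    let d := C.ders.getD m (0, 31671, 31671, ([], 0))
    Nat.blt d.2.1 (C.seeds.length + m) && Nat.blt d.2.2.1 (C.seeds.length + m) &&
      halfR (C.pts.getD d.2.1 31671) d.2.2.2 && Nat.blt (C.pts.getD d.2.2.1 31671) 31671 &&
      Nat.beq (run (fullWord d.2.2.2) (C.pts.getD d.2.2.1 31671)) (C.pts.getD (C.seeds.length + m) 31671)) &&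
    genPts.all fun g => C.pts.contains g

end Cert

end CfsgLib.Sporadic.FiTransfer.Norm23
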