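import Cfsg.Agent.Lib.Sporadic.Fi23Out.Inj
import Cfsg.Agent.Lib.Sporadic.FiTransfer.Norm23.Defs

/-!
The action of Fi23 on the numbers of the 31671 transpositions.
-/

set_option autoImplicit false
set_option maxRecDepth 100000

open Cfsg.Spor

namespace CfsgLib.Sporadic.FiTransfer.Norm23

open CosetCert
open CosetCert.Fi23P (coding hom)
open CosetCert.Fi23P.Two (el el_img el_append el_nil el_reverse dp conj_dp comm_of_fix gen_eq_dp gpt gpt_val genPts
  eq_one_of_fix)
open CosetCert.Fi23P.OutFi (rowsOf fullWord dp_of_half dp_injective hom_inv_apply halfK)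
open CosetCert.Fi23Data (table)

attribute [local irreducible] PTab.img Forest.cls

theorem N_val : table.N = 31671 := rfl

/-- The image of the number of a point. -/
noncomputable def act (g : Fi23) (v : ℕ) : ℕ := if h : v < table.N then (hom g ⟨v, h⟩ : ℕ) else v

/-- The transposition with a number. -/
noncomputable def tp (v : ℕ) : Fi23 := if h : v < table.N then dp ⟨v, h⟩ else 1

/-- Two numbered transpositions commute. -/
def Com (a b : ℕ) : Prop := Commute (tp a) (tp b)

theorem act_fin (g : Fi23) (u : Fin table.N) : act g (u : ℕ) = (hom g u : ℕ) := by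
  rw [act, dif_pos u.2]

theorem tp_fin (u : Fin table.N) : tp (u : ℕ) = dp u := by rw [tp, dif_pos u.2]

theorem act_lt {g : Fi23} {v : ℕ} (h : v < 31671) : act g v < 31671 := by
  rw [← N_val] at h ⊢
  rw [act, dif_pos h]
  exact Fin.is_lt _

theorem act_one (v : ℕ) : act 1 v = v := by
  unfold act
  split
  · rw [map_one]; rfl
  · rfl

theorem act_mul (g h : Fi23) (v : ℕ) : act (g * h) v = act g (act h v) := by
  by_cases hv : v < table.N
  · rw [show act h v = (hom h ⟨v, hv⟩ : ℕ) from act_fin h ⟨v, hv⟩, act_fin,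
      show act (g * h) v = (hom (g * h) ⟨v, hv⟩ : ℕ) from act_fin (g * h) ⟨v, hv⟩, map_mul]
    rfl
  · simp only [act, dif_neg hv]

theorem act_inv_cancel (g : Fi23) (v : ℕ) : act g⁻¹ (act g v) = v := by
  rw [← act_mul, inv_mul_cancel, act_one]

theorem act_cancel_inv (g : Fi23) (v : ℕ) : act g (act g⁻¹ v) = v := by
  rw [← act_mul, mul_inv_cancel, act_one]

theorem act_injective (g : Fi23) : Function.Injective (act g) :=
  Function.LeftInverse.injective (act_inv_cancel g)

theorem act_inv_fix {g : Fi23} {v : ℕ} (h : act g v = v) : act g⁻¹ v = v := by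
  conv_lhs => rw [← h]
  exact act_inv_cancel g v

theorem lt_of_act_lt {g : Fi23} {v : ℕ} (h : act g v < 31671) : v < 31671 := by
  rw [← act_inv_cancel g v]
  exact act_lt h

theorem conj_tp (g : Fi23) (v : ℕ) : g * tp v * g⁻¹ = tp (act g v) := by
  by_cases hv : v < table.N
  · rw [tp, dif_pos hv, conj_dp, ← tp_fin, act, dif_pos hv]
  · rw [show act g v = v by rw [act, dif_neg hv], tp, dif_neg hv, mul_one, mul_inv_cancel]

theorem tp_injective {a b : ℕ} (ha : a < 31671) (hb : b < 31671) (h : tp a = tp b) : a = b := by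
  rw [← N_val] at ha hb
  rw [tp, dif_pos ha, tp, dif_pos hb] at h
  exact congrArg Fin.val (dp_injective h)

theorem commute_tp_iff {g : Fi23} {v : ℕ} (hv : v < 31671) : Commute g (tp v) ↔ act g v = v := by
  constructor
  · intro h
    refine tp_injective (act_lt hv) hv ?_
    rw [← conj_tp, h.eq, mul_inv_cancel_right]
  · intro h
    have := conj_tp g v
    rw [h, mul_inv_eq_iff_eq_mul] at this
    exact this

theorem com_iff {a b : ℕ} (hb : b < 31671) : Com a b ↔ act (tp a) b = b := commute_tp_iff hb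

theorem com_comm {a b : ℕ} : Com a b ↔ Com b a := ⟨Commute.symm, Commute.symm⟩

theorem com_act (g : Fi23) {a b : ℕ} : Com (act g a) (act g b) ↔ Com a b := by
  unfold Com
  rw [← conj_tp, ← conj_tp]
  constructor
  · intro h
    have := h.map (MulAut.conj g⁻¹).toMonoidHom
    simpa [mul_assoc] using this
  · intro h
    exact h.map (MulAut.conj g).toMonoidHom

theorem wordK_lt {w : List ℕ} (h : wordK w = true) : ∀ x ∈ w, x < 10 := fun x hx =>
  Nat.le_of_ble_eq_true (List.all_eq_true.1 h x hx)

theorem act_el {w : List ℕ} (hw : ∀ x ∈ w, x < 10) {v : ℕ} (hv : v < 31671) : act (el w) v = run w v := by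
  rw [← N_val] at hv
  rw [act, dif_pos hv, el_img hw, run]
  exact (Fi23Data.imgW_fast w (List.all_eq_true.2 fun x hx => Nat.ble_eq_true_of_le (hw x hx)) v hv).1

theorem powW_lt {w : List ℕ} (hw : ∀ x ∈ w, x < 10) (i : ℕ) : ∀ x ∈ powW i w, x < 10 := by
  intro x hx
  obtain ⟨l, hl, hx⟩ := List.mem_flatten.1 hx
  rw [List.eq_of_mem_replicate hl] at hx
  exact hw x hx

theorem el_powW (i : ℕ) (w : List ℕ) : el (powW i w) = el w ^ i := by
  induction i with
  | zero => rw [pow_zero]; exact el_nil
  | succ i ih =>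
    rw [powW, List.replicate_succ, List.flatten_cons, el_append]
    show el (powW i w) * el w = _
    rw [ih, pow_succ]

theorem act_pow {w : List ℕ} (hw : ∀ x ∈ w, x < 10) (i : ℕ) {v : ℕ} (hv : v < 31671) :
    act (el w ^ i) v = run (powW i w) v := by
  rw [← el_powW, act_el (powW_lt hw i) hv]

theorem halfR_spec {v : ℕ} {h : List ℕ × ℕ} (hK : halfR v h = true) :
    v < 31671 ∧ (∀ x ∈ fullWord h, x < 10) ∧ tp v = el (fullWord h) := by
  simp only [halfR, Bool.and_eq_true] at hK
  obtain ⟨⟨⟨h2, h1⟩, hv⟩, hp⟩ := hK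
  have hv' : v < 31671 := Nat.le_of_ble_eq_true hv
  have hL := wordK_lt h1
  have hT : halfK v h = true := by
    simp only [halfK, Bool.and_eq_true]
    refine ⟨⟨h2, h1⟩, ?_⟩
    have e : table.imgW h.1 v = run h.1 v :=
      (Fi23Data.imgW_fast h.1 (List.all_eq_true.2 fun x hx => Nat.ble_eq_true_of_le (hL x hx)) v hv').1
    rw [e]
    exact hp
  refine ⟨hv', CosetCert.Fi23P.OutFi.fullWord_lt hT, ?_⟩
  rw [tp, dif_pos (show v < table.N from hv')]
  exact dp_of_half (p := ⟨v, hv'⟩) hT

theorem comR_iff {a b : ℕ} {h : List ℕ × ℕ} (hK : halfR a h = true) (hb : b < 31671) :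
    comR h b = true ↔ Com a b := by
  obtain ⟨-, hl, he⟩ := halfR_spec hK
  rw [com_iff hb, he, act_el hl hb, comR, Nat.beq_eq]

theorem eq_one_of_gens_fix {g : Fi23} (h : ∀ v ∈ genPts, act g v = v) : g = 1 := by
  refine eq_one_of_fix fun x hx => Fin.ext ?_
  rw [← act_fin, gpt_val hx]
  refine h _ ?_
  rw [List.getD_eq_getElem _ _ (show x < genPts.length from hx)]
  exact List.getElem_mem _

theorem eq_of_sameR {A B : List ℕ} (hA : ∀ x ∈ A, x < 10) (hB : ∀ x ∈ B, x < 10) (h : sameR A B = true) :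
    el A = el B := by
  refine (inv_mul_eq_one.1 (eq_one_of_gens_fix fun v hv => ?_)).symm
  have hlt : v < 31671 := (show ∀ v ∈ genPts, v < 31671 by decide) v hv
  rw [act_mul, act_el hA hlt, Nat.eq_of_beq_eq_true (List.all_eq_true.1 h v hv), ← act_el hB hlt,
    act_inv_cancel]

theorem testBit_foldr {α : Type*} (f : α → ℕ) (L : List α) (v : ℕ) :
    Nat.testBit (L.foldr (fun a acc => Nat.lor (f a) acc) 0) v = true →
      ∃ a ∈ L, Nat.testBit (f a) v = true := by
  induction L with
  | nil => simp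
  | cons a L ih =>
    intro h
    rw [List.foldr_cons] at h
    change Nat.testBit (f a ||| _) v = true at h
    rw [Nat.testBit_or, Bool.or_eq_true] at h
    rcases h with h | h
    · exact ⟨a, List.mem_cons_self, h⟩
    · obtain ⟨b, hb, hb'⟩ := ih h
      exact ⟨b, List.mem_cons_of_mem _ hb, hb'⟩

end CfsgLib.Sporadic.FiTransfer.Norm23
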