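import Cfsg.Agent.Lib.Sporadic.FiTransfer.Norm23.Data17

/-!
The fixed points, order 17.
-/

set_option autoImplicit false
set_option maxRecDepth 100000
set_option maxHeartbeats 0

namespace CfsgLib.Sporadic.FiTransfer.Norm23

theorem fixScan17_0 : cert17.fixScanK 0 8000 = true := by decide +kernel
theorem fixScan17_1 : cert17.fixScanK 8000 8000 = true := by decide +kernel
theorem fixScan17_2 : cert17.fixScanK 16000 8000 = true := by decide +kernel
theorem fixScan17_3 : cert17.fixScanK 24000 7671 = true := by decide +kernel

end CfsgLib.Sporadic.FiTransfer.Norm23
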