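import Cfsg.Agent.Lib.Sporadic.FiTransfer.Norm23.Data23

/-!
The representatives, first part, order 23.
-/

set_option autoImplicit false
set_option maxRecDepth 100000
set_option maxHeartbeats 0

namespace CfsgLib.Sporadic.FiTransfer.Norm23

theorem reps23_ok0 : cert23.repsK 0 400 = true := by decide +kernel
theorem reps23_ok1 : cert23.repsK 400 400 = true := by decide +kernel

end CfsgLib.Sporadic.FiTransfer.Norm23
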