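import Cfsg.Agent.Lib.Sporadic.FiTransfer.Norm23.Data23

/-!
The marked points, order 23.
-/

set_option autoImplicit false
set_option maxRecDepth 100000
set_option maxHeartbeats 0

namespace CfsgLib.Sporadic.FiTransfer.Norm23

theorem scan23_0 : cert23.scanK 0 8000 = true := by decide +kernel
theorem scan23_1 : cert23.scanK 8000 8000 = true := by decide +kernel
theorem scan23_2 : cert23.scanK 16000 8000 = true := by decide +kernel
theorem scan23_3 : cert23.scanK 24000 7671 = true := by decide +kernel

end CfsgLib.Sporadic.FiTransfer.Norm23
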