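import Cfsg.Agent.Lib.Sporadic.FiTransfer.Norm23.Data23

/-!
Small checks, order 23.
-/

set_option autoImplicit false
set_option maxRecDepth 100000
set_option maxHeartbeats 0

namespace CfsgLib.Sporadic.FiTransfer.Norm23

theorem base23 : cert23.baseK = true := by decide +kernel
theorem close23 : cert23.closeK = true := by decide +kernel
theorem mask23_ok : cert23.maskK = true := by decide +kernel

end CfsgLib.Sporadic.FiTransfer.Norm23
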