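import Cfsg.Agent.Lib.Sporadic.FiTransfer.Norm23.Data5

/-!
Small checks, order 5.
-/

set_option autoImplicit false
set_option maxRecDepth 100000
set_option maxHeartbeats 0

namespace CfsgLib.Sporadic.FiTransfer.Norm23

theorem base5 : cert5.baseK = true := by decide +kernel
theorem close5 : cert5.closeK = true := by decide +kernel
theorem mask5_ok : cert5.maskK = true := by decide +kernel
theorem reps5_ok0 : cert5.repsK 0 400 = true := by decide +kernel

end CfsgLib.Sporadic.FiTransfer.Norm23
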