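import Cfsg.Agent.Lib.Sporadic.FiTransfer.Norm23.Defs

/-!
Certificate data for the normaliser of a subgroup of order 11 of Fi23.
-/

set_option autoImplicit false
set_option maxRecDepth 100000

namespace CfsgLib.Sporadic.FiTransfer.Norm23

/-- Representatives, part 0. -/
def reps11_0 : List (ℕ × ℕ × (List ℕ × ℕ)) := [(982, 500, ([1, 2, 3, 8, 9, 4, 2, 3, 8, 6, 5, 4, 3, 2], 1)),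
  (999, 500, ([9, 3, 8, 7, 6, 5, 4, 3], 2)),
  (2508, 1, ([6, 5, 4, 1, 2, 3, 8, 9, 3, 4, 2, 3, 8, 7, 6, 5, 4, 3, 2], 1)),
  (18, 1, ([1, 2, 3, 8, 5, 6, 4, 5, 3, 4, 2, 3, 8, 7, 6, 5, 4, 3, 2], 1)),
  (203, 500, ([5, 3, 4, 2, 3, 8, 7, 6, 5, 4, 3, 2], 1)),
  (345, 500, ([9, 6, 5, 4, 3, 8, 7, 6, 5, 4, 3], 2)),
  (164, 500, ([5, 4, 3, 8, 9, 6, 5, 4, 3, 8, 7, 6, 5, 4, 3, 2, 1], 0)),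
  (4534, 1, ([6, 5, 4, 3, 8, 9, 3, 4, 1, 2, 3, 8, 6, 5, 4, 3, 2, 1], 0)),
  (1368, 500, ([4, 1, 2, 3, 8, 9, 3, 4, 2, 3, 8, 7, 6, 5, 4, 3, 2], 1)),
  (294, 1, ([3, 4, 2, 3, 8, 7, 6, 5, 4, 3, 2], 1)),
  (77, 2, ([3, 4, 2, 3, 8, 9, 5, 4, 3, 8, 7, 6, 5, 4, 3], 2)),
  (706, 500, ([9, 5, 4, 3, 8, 6, 5, 4, 3], 2)),
  (387, 1, ([3, 4, 2, 3, 8, 7, 6, 5, 4, 3, 2, 1], 0)),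
  (3167, 500, ([8, 6, 5, 4], 3)),
  (900, 500, ([9, 5, 4, 3, 8, 6, 5, 4, 3, 2], 1)),
  (3157, 1, ([9, 3, 8, 4, 3, 2], 1)),
  (23, 1, ([2, 3, 8, 5, 6, 4, 5, 3, 4, 2, 3, 8, 7, 6, 5, 4, 3, 2], 1)),
  (494, 500, ([2, 3, 8, 9, 4, 3, 8, 5, 4, 3], 2)),
  (626, 1, ([2, 3, 8, 7, 6, 5, 4, 3, 2], 1)),
  (6538, 1, ([4, 3, 8, 9, 1, 2, 3, 8, 4, 3, 2, 1], 0)),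
  (1244, 1, ([9, 4, 3, 8, 6, 5, 4, 3, 2], 1)),
  (161, 2, ([2, 3, 8, 9, 5, 4, 3, 8, 7, 6, 5, 4, 3], 2)),
  (5270, 500, ([7, 6, 5, 4, 3, 8, 9, 2, 3, 8, 5, 4, 3, 2], 1)),
  (1448, 1, ([8, 9, 4, 1, 2, 3, 8, 7, 6, 5, 4, 3, 2, 1], 0)),
  (805, 1, ([2, 3, 8, 7, 6, 5, 4, 3, 2, 1], 0)),
  (1225, 1, ([0, 1, 2, 3, 8, 9, 5, 3, 4, 2, 3, 8, 6, 5, 4, 3, 2], 1)),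
  (393, 1, ([8, 9, 8, 5, 3, 4, 2, 3, 8, 7, 6, 5, 4, 3, 2, 1], 0)),
  (40, 500, ([3, 8, 5, 6, 4, 5, 3, 4, 2, 3, 8, 7, 6, 5, 4, 3, 2, 1], 0)),
  (234, 500, ([3, 8, 9, 5, 4, 3, 8, 7, 6, 5, 4, 3], 2)),
  (54, 501, ([3, 4, 2, 3, 8, 9, 6, 5, 4, 3, 8, 7, 6, 5, 4, 3], 2)),
  (5261, 1, ([9, 8, 3, 2], 1)),
  (46, 1, ([3, 8, 6, 4, 5, 3, 4, 2, 3, 8, 7, 6, 5, 4, 3, 2], 1)),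
  (239, 500, ([8, 6, 5, 2, 3, 4, 1, 2, 3, 8, 7, 6, 5, 4, 3, 2, 1], 0)),
  (331, 1, ([1, 2, 3, 8, 9, 5, 4, 3, 8, 7, 6, 5, 4, 3, 2], 1)),
  (710, 500, ([8, 9, 4, 3, 8, 7, 6, 5, 4, 3, 2], 1)),
  (1873, 500, ([8, 9, 3, 8, 4, 3], 2)),
  (51, 500, ([5, 3, 4, 1, 2, 3, 8, 9, 6, 5, 4, 3, 8, 7, 6, 5, 4, 3], 2)),
  (52, 500, ([1, 2, 3, 8, 4, 5, 3, 4, 2, 3, 8, 6, 5, 4, 3, 2], 1)),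
  (5260, 500, ([3, 2], 1)),
  (4515, 1, ([8, 9, 1, 2, 3, 8, 4, 3, 2, 1], 0)),
  (206, 500, ([9, 6, 5, 3, 4, 2, 3, 8, 7, 6, 5, 4, 3, 2], 1)),
  (2355, 1, ([9, 8, 6, 5, 4, 3, 2], 1)),
  (59, 1, ([3, 8, 6, 4, 5, 3, 4, 2, 3, 8, 7, 6, 5, 4, 3, 2, 1], 0)),
  (434, 1, ([8, 9, 8, 3, 4, 2, 3, 8, 7, 6, 5, 4, 3, 2], 1)),
  (1874, 500, ([9, 3, 8, 5, 4, 3], 2)),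
  (235, 500, ([2, 3, 8, 9, 4, 3, 8, 7, 6, 5, 4, 3], 2)),
  (6524, 500, ([5], 4)),
  (2345, 500, ([9, 2, 3, 8, 4, 3, 2], 1)),
  (503, 1, ([8, 2, 3, 4, 1, 2, 3, 8, 7, 6, 5, 4, 3, 2, 1], 0)),
  (68, 1, ([3, 8, 4, 5, 3, 4, 2, 3, 8, 7, 6, 5, 4, 3, 2], 1)),
  (168, 1, ([8, 6, 5, 3, 4, 1, 2, 3, 8, 7, 6, 5, 4, 3, 2, 1], 0)),
  (471, 1, ([3, 4, 2, 3, 8, 9, 6, 5, 4, 3, 8, 7, 6, 5, 4, 3, 2, 1], 0)),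
  (651, 1, ([8, 3, 4, 2, 3, 8, 9, 5, 4, 3, 8, 7, 6, 5, 4, 3, 2], 1)),
  (499, 500, ([9, 5, 4, 3, 8, 7, 6, 5, 4, 3], 2)),
  (6290, 500, ([3, 2, 1], 0)),
  (74, 1, ([3, 4, 1, 2, 3, 8, 9, 6, 5, 4, 3, 8, 7, 6, 5, 4, 3], 2)),
  (75, 1, ([5, 4, 1, 2, 3, 8, 9, 6, 5, 4, 3, 8, 7, 6, 5, 4, 3], 2)),
  (8005, 500, ([], 6)),
  (4136, 500, ([9, 8, 4, 3, 2], 1)),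
  (6525, 500, ([3], 2)),
  (1008, 1, ([9, 8, 2, 3, 4, 1, 2, 3, 8, 6, 5, 4, 3, 2, 1], 0)),
  (140, 1, ([9, 8, 6, 5, 3, 4, 2, 3, 8, 7, 6, 5, 4, 3, 2], 1)),
  (6543, 1, ([6, 5, 4, 3, 8, 9, 2, 3, 8, 4, 3, 2], 1)),
  (2354, 500, ([6, 5, 4, 3, 2], 1)),
  (85, 500, ([5, 6, 4, 5, 3, 4, 2, 3, 8, 7, 6, 5, 4, 3, 2, 1], 0)),
  (87, 1, ([3, 8, 4, 5, 3, 4, 2, 3, 8, 7, 6, 5, 4, 3, 2, 1], 0)),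
  (601, 1, ([3, 4, 1, 2, 3, 8, 9, 6, 5, 4, 3, 8, 7, 6, 5, 4, 3, 2, 1], 0)),
  (207, 1, ([8, 9, 8, 6, 5, 3, 4, 2, 3, 8, 7, 6, 5, 4, 3, 2], 1)),
  (342, 1, ([3, 8, 9, 4, 3, 8, 7, 6, 5, 4, 3], 2)),
  (113, 501, ([2, 3, 8, 9, 6, 5, 4, 3, 8, 7, 6, 5, 4, 3], 2)),
  (95, 1, ([8, 6, 5, 3, 4, 2, 3, 8, 7, 6, 5, 4, 3, 2], 1)),
  (1374, 500, ([9, 3, 8, 6, 5, 4, 3], 2)),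
  (97, 1, ([6, 4, 5, 3, 4, 2, 3, 8, 7, 6, 5, 4, 3, 2], 1)),
  (360, 500, ([8, 3, 4, 1, 2, 3, 8, 7, 6, 5, 4, 3, 2, 1], 0)),
  (99, 500, ([9, 5, 6, 4, 5, 3, 4, 2, 3, 8, 7, 6, 5, 4, 3, 2], 1)),
  (958, 1, ([3, 4, 2, 3, 8, 9, 5, 4, 3, 8, 6, 5, 4, 3, 2, 1], 0)),
  (712, 1, ([9, 4, 3, 8, 7, 6, 5, 4, 3], 2)),
  (1443, 1, ([1, 2, 3, 8, 6, 5, 4, 3, 2, 1], 0)),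
  (103, 1, ([8, 9, 3, 8, 6, 4, 5, 3, 4, 2, 3, 8, 7, 6, 5, 4, 3, 2], 1)),
  (1297, 1, ([8, 3, 4, 2, 3, 8, 9, 5, 3, 4, 2, 3, 8, 7, 6, 5, 4, 3, 2], 1)),
  (701, 1, ([2, 3, 8, 9, 6, 5, 4, 2, 3, 8, 7, 6, 5, 4, 3, 2, 1], 0)),
  (895, 1, ([8, 9, 4, 2, 3, 8, 7, 6, 5, 4, 3, 2], 1)),
  (436, 500, ([9, 5, 3, 4, 2, 3, 8, 6, 5, 4, 3, 2], 1)),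
  (109, 1, ([5, 4, 1, 2, 3, 8, 9, 6, 5, 4, 3, 8, 7, 6, 5, 4, 3, 2], 1)),
  (110, 1, ([3, 4, 2, 3, 8, 9, 5, 4, 3, 8, 6, 5, 4, 3], 2)),
  (1364, 500, ([1, 2, 3, 8, 9, 4, 2, 3, 8, 5, 4, 3, 2], 1)),
  (4135, 2, ([4, 3, 2], 1)),
  (114, 500, ([5, 4, 3, 8, 9, 6, 5, 4, 3, 8, 7, 6, 5, 4, 3, 2], 1)),
  (721, 500, ([9, 8, 5, 2, 3, 4, 1, 2, 3, 8, 6, 5, 4, 3, 2, 1], 0)),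
  (1864, 500, ([2, 3, 8, 9, 4, 2, 3, 8, 5, 4, 3, 2], 1)),
  (998, 1, ([8, 9, 3, 8, 7, 6, 5, 4, 3, 2], 1)),
  (121, 1, ([8, 9, 3, 8, 5, 6, 4, 5, 3, 4, 1, 2, 3, 8, 7, 6, 5, 4, 3, 2, 1], 0)),
  (269, 1, ([8, 9, 8, 6, 5, 3, 4, 2, 3, 8, 7, 6, 5, 4, 3, 2, 1], 0)),
  (123, 1, ([8, 6, 5, 3, 4, 2, 3, 8, 7, 6, 5, 4, 3, 2, 1], 0)),
  (1723, 500, ([9, 3, 8, 6, 5, 4, 3, 2], 1)),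
  (2349, 1, ([4, 3, 8, 9, 3, 4, 2, 3, 8, 5, 4, 3, 2], 1)),
  (3160, 1, ([4, 3, 8, 9, 4, 2, 3, 8, 5, 4, 3, 2], 1)),
  (893, 1, ([9, 4, 3, 8, 7, 6, 5, 4, 3, 2], 1)),
  (620, 1, ([3, 4, 2, 3, 8, 5, 4, 3, 2], 1)),
  (131, 1, ([8, 9, 3, 8, 6, 4, 5, 3, 4, 2, 3, 8, 7, 6, 5, 4, 3, 2, 1], 0)),
  (311, 1, ([4, 3, 8, 9, 8, 6, 4, 5, 3, 4, 2, 3, 8, 7, 6, 5, 4, 3, 2], 1)),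
  (1741, 1, ([6, 5, 4, 3, 8, 9, 8, 3, 4, 2, 3, 8, 7, 6, 5, 4, 3, 2], 1)),
  (2521, 1, ([9, 3, 8, 4, 3], 2)),
  (163, 500, ([3, 8, 9, 6, 5, 4, 3, 8, 7, 6, 5, 4, 3], 2)),
  (3184, 1, ([6, 5, 4, 2, 3, 8, 9, 3, 4, 2, 3, 8, 7, 6, 5, 4, 3, 2], 1)),
  (138, 1, ([8, 5, 3, 4, 2, 3, 8, 7, 6, 5, 4, 3, 2], 1)),
  (9592, 500, ([1], 0)),
  (142, 1, ([4, 5, 3, 4, 2, 3, 8, 7, 6, 5, 4, 3, 2], 1)),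
  (497, 1, ([3, 8, 9, 4, 3, 8, 7, 6, 5, 4, 3, 2], 1)),
  (305, 1, ([9, 4, 5, 3, 4, 2, 3, 8, 6, 5, 4, 3, 2], 1)),
  (2148, 1, ([8, 9, 2, 3, 8, 6, 5, 4, 3, 2, 1], 0)),
  (201, 500, ([8, 3, 4, 2, 3, 8, 7, 6, 5, 4, 3, 2], 1)),
  (364, 1, ([6, 5, 4, 1, 2, 3, 8, 7, 6, 5, 4, 3, 2, 1], 0)),
  (149, 1, ([8, 9, 3, 8, 4, 5, 3, 4, 2, 3, 8, 7, 6, 5, 4, 3, 2], 1)),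
  (150, 500, ([3, 8, 9, 3, 8, 6, 4, 5, 3, 4, 2, 3, 8, 7, 6, 5, 4, 3, 2], 1)),
  (151, 500, ([5, 3, 4, 1, 2, 3, 8, 9, 6, 5, 4, 3, 8, 7, 6, 5, 4, 3, 2], 1)),
  (469, 1, ([3, 4, 1, 2, 3, 8, 9, 5, 4, 2, 3, 8, 7, 6, 5, 4, 3, 2], 1)),
  (576, 1, ([2, 3, 8, 9, 8, 6, 5, 3, 4, 2, 3, 8, 7, 6, 5, 4, 3, 2, 1], 0)),
  (154, 1, ([3, 4, 1, 2, 3, 8, 9, 5, 4, 3, 8, 6, 5, 4, 3], 2)),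
  (156, 1, ([4, 1, 2, 3, 8, 9, 6, 5, 4, 3, 8, 7, 6, 5, 4, 3, 2], 1)),
  (157, 1, ([1, 2, 3, 8, 9, 6, 5, 4, 3, 8, 7, 6, 5, 4, 3], 2)),
  (158, 1, ([5, 4, 2, 3, 8, 9, 6, 5, 4, 3, 8, 7, 6, 5, 4, 3, 2], 1)),
  (4131, 500, ([8, 5, 4], 3)),
  (991, 1, ([3, 8, 9, 4, 3, 8, 6, 5, 4, 3, 2, 1], 0)),
  (162, 1, ([4, 3, 8, 9, 6, 5, 4, 3, 8, 7, 6, 5, 4, 3, 2], 1)),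
  (1011, 2, ([9, 5, 2, 3, 4, 1, 2, 3, 8, 6, 5, 4, 3, 2, 1], 0)),
  (623, 1, ([9, 3, 4, 2, 3, 8, 6, 5, 4, 3, 2], 1)),
  (362, 500, ([5, 3, 4, 1, 2, 3, 8, 7, 6, 5, 4, 3, 2, 1], 0)),
  (627, 500, ([9, 4, 2, 3, 8, 7, 6, 5, 4, 3, 2], 1)),
  (297, 1, ([9, 8, 5, 3, 4, 2, 3, 8, 6, 5, 4, 3, 2], 1)),
  (173, 2, ([8, 9, 8, 5, 6, 4, 5, 3, 4, 1, 2, 3, 8, 7, 6, 5, 4, 3, 2, 1], 0)),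
  (174, 1, ([3, 8, 4, 5, 3, 4, 1, 2, 3, 8, 6, 5, 4, 3, 2, 1], 0)),
  (799, 1, ([3, 4, 2, 3, 8, 5, 4, 3, 2, 1], 0)),
  (450, 1, ([3, 8, 9, 4, 5, 3, 4, 2, 3, 8, 7, 6, 5, 4, 3, 2], 1)),
  (404, 1, ([4, 3, 8, 9, 8, 6, 4, 5, 3, 4, 2, 3, 8, 7, 6, 5, 4, 3, 2, 1], 0)),
  (1879, 1, ([7, 6, 5, 3, 4, 2, 3, 8, 9, 1, 2, 3, 8, 4, 3, 2, 1], 0)),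
  (2166, 1, ([6, 5, 4, 3, 8, 9, 8, 3, 4, 2, 3, 8, 7, 6, 5, 4, 3, 2, 1], 0)),
  (180, 1, ([8, 5, 3, 4, 2, 3, 8, 7, 6, 5, 4, 3, 2, 1], 0)),
  (8004, 500, ([], 1)),
  (184, 1, ([4, 5, 3, 4, 2, 3, 8, 7, 6, 5, 4, 3, 2, 1], 0)),
  (296, 500, ([5, 3, 4, 2, 3, 8, 6, 5, 4, 3, 2], 1)),
  (187, 1, ([8, 9, 8, 6, 4, 5, 3, 4, 2, 3, 8, 7, 6, 5, 4, 3, 2, 1], 0)),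
  (2669, 1, ([8, 9, 1, 2, 3, 8, 6, 5, 4, 3, 2, 1], 0)),
  (189, 500, ([3, 8, 9, 8, 5, 6, 4, 5, 3, 4, 2, 3, 8, 7, 6, 5, 4, 3, 2, 1], 0)),
  (2361, 1, ([3, 4, 2, 3, 8, 9, 8, 3, 4, 2, 3, 8, 6, 5, 4, 3, 2], 1)),
  (192, 500, ([3, 8, 9, 3, 8, 6, 4, 5, 3, 4, 2, 3, 8, 7, 6, 5, 4, 3, 2, 1], 0)),
  (5294, 500, ([7, 6, 5, 4, 3, 8, 9, 2, 3, 8, 5, 4, 3, 2, 1], 0)),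
  (898, 1, ([4, 3, 8, 9, 8, 3, 4, 2, 3, 8, 7, 6, 5, 4, 3, 2], 1)),
  (2375, 1, ([6, 5, 4, 2, 3, 8, 9, 8, 3, 4, 2, 3, 8, 7, 6, 5, 4, 3, 2], 1)),
  (711, 1, ([8, 9, 3, 8, 7, 6, 5, 4, 3], 2)),
  (1377, 1, ([9, 8, 7, 6, 5, 4, 3], 2)),
  (744, 1, ([3, 4, 1, 2, 3, 8, 6, 5, 4, 3, 2, 1], 0)),
  (205, 1, ([6, 5, 4, 2, 3, 8, 7, 6, 5, 4, 3, 2], 1)),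
  (1375, 2, ([9, 4, 3, 8, 5, 4, 3], 2)),
  (1969, 1, ([1, 2, 3, 8, 5, 4, 3, 2, 1], 0)),
  (5288, 1, ([5, 4, 3, 8, 9, 1, 2, 3, 8, 4, 3, 2, 1], 0)),
  (1126, 1, ([2, 3, 8, 6, 5, 4, 3, 2, 1], 0)),
  (213, 1, ([3, 8, 9, 8, 6, 4, 5, 3, 4, 2, 3, 8, 7, 6, 5, 4, 3, 2], 1)),
  (2907, 500, ([5, 4, 3, 8, 9, 8, 3, 4, 2, 3, 8, 5, 4, 3, 2, 1], 0)),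
  (1363, 1, ([4, 1, 2, 3, 8, 9, 4, 2, 3, 8, 6, 5, 4, 3, 2], 1)),
  (1359, 1, ([2, 3, 8, 9, 5, 4, 2, 3, 8, 6, 5, 4, 3, 2, 1], 0)),
  (217, 1, ([8, 9, 3, 8, 4, 5, 3, 4, 2, 3, 8, 6, 5, 4, 3, 2], 1)),
  (1044, 500, ([4, 1, 2, 3, 8, 6, 5, 4, 3, 2, 1], 0)),
  (219, 1, ([3, 4, 1, 2, 3, 8, 9, 6, 5, 4, 3, 8, 7, 6, 5, 4, 3, 2], 1)),
  (220, 1, ([4, 3, 8, 9, 3, 8, 6, 4, 5, 3, 4, 2, 3, 8, 7, 6, 5, 4, 3, 2], 1)),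
  (221, 500, ([5, 3, 4, 2, 3, 8, 9, 6, 5, 4, 3, 8, 7, 6, 5, 4, 3, 2], 1)),
  (3865, 1, ([6, 5, 4, 2, 3, 8, 9, 8, 3, 4, 2, 3, 8, 6, 5, 4, 3, 2, 1], 0)),
  (5244, 500, ([6, 5, 4, 2, 3, 8, 9, 4, 2, 3, 8, 5, 4, 3, 2, 1], 0)),
  (487, 2, ([2, 3, 8, 9, 6, 5, 4, 3, 8, 7, 6, 5, 4, 3, 2, 1], 0)),
  (225, 500, ([4, 1, 2, 3, 8, 9, 5, 4, 3, 8, 6, 5, 4, 3], 2)),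
  (226, 1, ([4, 1, 2, 3, 8, 9, 5, 4, 3, 8, 7, 6, 5, 4, 3, 2], 1)),
  (2366, 1, ([4, 3, 8, 9, 2, 3, 8, 7, 6, 5, 4, 3, 2], 1)),
  (228, 1, ([4, 2, 3, 8, 9, 6, 5, 4, 3, 8, 7, 6, 5, 4, 3, 2], 1)),
  (6291, 1, ([9, 8, 3, 2, 1], 0)),
  (5256, 1, ([8, 4], 3)),
  (232, 1, ([2, 3, 8, 9, 5, 4, 3, 8, 6, 5, 4, 3], 2)),
  (237, 500, ([3, 8, 9, 6, 5, 4, 3, 8, 7, 6, 5, 4, 3, 2], 1)),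
  (6526, 2, ([2], 1)),
  (1890, 1, ([8, 9, 8, 2, 3, 4, 1, 2, 3, 8, 5, 4, 3, 2, 1], 0)),
  (2365, 500, ([7, 6, 5, 4, 3], 2)),
  (505, 2, ([5, 2, 3, 4, 1, 2, 3, 8, 7, 6, 5, 4, 3, 2, 1], 0)),
  (349, 500, ([9, 8, 6, 5, 2, 3, 4, 1, 2, 3, 8, 7, 6, 5, 4, 3, 2, 1], 0)),
  (523, 1, ([3, 4, 1, 2, 3, 8, 7, 6, 5, 4, 3, 2, 1], 0)),
  (4114, 1, ([0, 1, 2, 3, 8, 9, 2, 3, 4, 1, 2, 3, 8, 6, 5, 4, 3, 2, 1], 0)),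
  (631, 1, ([9, 5, 4, 2, 3, 8, 6, 5, 4, 3, 2], 1)),
  (389, 500, ([5, 3, 4, 2, 3, 8, 6, 5, 4, 3, 2, 1], 0)),
  (253, 1, ([8, 9, 8, 6, 4, 5, 3, 4, 1, 2, 3, 8, 7, 6, 5, 4, 3, 2, 1], 0)),
  (254, 1, ([8, 9, 5, 6, 4, 5, 3, 4, 1, 2, 3, 8, 7, 6, 5, 4, 3, 2, 1], 0)),
  (3177, 500, ([6, 5, 4, 1, 2, 3, 8, 9, 4, 2, 3, 8, 5, 4, 3, 2], 1)),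
  (2917, 1, ([3, 4, 2, 3, 8, 9, 8, 3, 4, 2, 3, 8, 6, 5, 4, 3, 2, 1], 0)),
  (259, 1, ([2, 3, 8, 9, 3, 8, 5, 6, 4, 5, 3, 4, 1, 2, 3, 8, 7, 6, 5, 4, 3, 2, 1], 0)),
  (5264, 1, ([6, 5, 4, 3, 8, 9, 4, 2, 3, 8, 5, 4, 3, 2], 1)),
  (2143, 500, ([3, 8, 9, 3, 4, 2, 3, 8, 5, 4, 3, 2, 1], 0)),
  (694, 1, ([1, 2, 3, 8, 9, 4, 3, 8, 6, 5, 4, 3, 2], 1)),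
  (263, 500, ([8, 3, 4, 2, 3, 8, 7, 6, 5, 4, 3, 2, 1], 0)),
  (1733, 1, ([9, 8, 7, 6, 5, 4, 3, 2], 1)),
  (1238, 1, ([2, 3, 8, 5, 4, 3, 2], 1)),
  (1240, 1, ([8, 9, 3, 4, 2, 3, 8, 5, 4, 3, 2], 1)),
  (1714, 1, ([9, 4, 3, 8, 5, 4, 3, 2], 1)),
  (430, 1, ([3, 4, 2, 3, 8, 6, 5, 4, 3, 2], 1))]

/-- Representatives, part 1. -/
def reps11_1 : List (ℕ × ℕ × (List ℕ × ℕ)) := [(2348, 1, ([2, 3, 8, 9, 3, 4, 2, 3, 8, 5, 4, 3, 2], 1)),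
  (275, 501, ([3, 8, 9, 8, 6, 4, 5, 3, 4, 2, 3, 8, 7, 6, 5, 4, 3, 2, 1], 0)),
  (4137, 500, ([3, 8, 9, 2, 3, 8, 4, 3, 2], 1)),
  (320, 1, ([3, 4, 2, 3, 8, 9, 6, 5, 4, 3, 8, 7, 6, 5, 4, 3, 2], 1)),
  (2346, 1, ([8, 9, 2, 3, 8, 5, 4, 3, 2], 1)),
  (279, 1, ([8, 9, 3, 8, 4, 5, 3, 4, 2, 3, 8, 6, 5, 4, 3, 2, 1], 0)),
  (1866, 500, ([4, 1, 2, 3, 8, 9, 3, 4, 2, 3, 8, 6, 5, 4, 3, 2], 1)),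
  (282, 1, ([4, 3, 8, 9, 3, 8, 6, 4, 5, 3, 4, 2, 3, 8, 7, 6, 5, 4, 3, 2, 1], 0)),
  (6531, 500, ([7], 6)),
  (4989, 1, ([6, 5, 4, 1, 2, 3, 8, 9, 8, 3, 4, 2, 3, 8, 6, 5, 4, 3, 2, 1], 0)),
  (1258, 500, ([4, 2, 3, 8, 9, 8, 3, 4, 2, 3, 8, 7, 6, 5, 4, 3, 2], 1)),
  (335, 1, ([1, 2, 3, 8, 9, 6, 5, 4, 2, 3, 8, 7, 6, 5, 4, 3, 2], 1)),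
  (4234, 1, ([9, 8, 3], 2)),
  (303, 1, ([8, 9, 6, 5, 3, 4, 2, 3, 8, 7, 6, 5, 4, 3, 2], 1)),
  (491, 500, ([3, 8, 9, 5, 4, 3, 8, 6, 5, 4, 3, 2], 1)),
  (298, 1, ([5, 4, 2, 3, 8, 7, 6, 5, 4, 3, 2], 1)),
  (299, 500, ([9, 5, 3, 4, 2, 3, 8, 7, 6, 5, 4, 3, 2], 1)),
  (301, 500, ([6, 5, 4, 3, 8, 7, 6, 5, 4, 3, 2], 1)),
  (304, 1, ([3, 8, 9, 8, 6, 5, 3, 4, 2, 3, 8, 7, 6, 5, 4, 3, 2], 1)),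
  (306, 501, ([8, 9, 8, 4, 5, 3, 4, 2, 3, 8, 6, 5, 4, 3, 2], 1)),
  (2910, 501, ([3, 8, 9, 2, 3, 8, 6, 5, 4, 3, 2, 1], 0)),
  (308, 1, ([3, 8, 9, 8, 4, 5, 3, 4, 2, 3, 8, 7, 6, 5, 4, 3, 2], 1)),
  (309, 501, ([3, 8, 9, 6, 4, 5, 3, 4, 2, 3, 8, 7, 6, 5, 4, 3, 2], 1)),
  (2918, 1, ([5, 4, 2, 3, 8, 9, 8, 3, 4, 2, 3, 8, 6, 5, 4, 3, 2, 1], 0)),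
  (312, 1, ([2, 3, 8, 9, 5, 6, 4, 5, 3, 4, 2, 3, 8, 7, 6, 5, 4, 3, 2], 1)),
  (2911, 1, ([4, 3, 8, 9, 4, 2, 3, 8, 6, 5, 4, 3, 2, 1], 0)),
  (1140, 1, ([2, 3, 8, 9, 8, 5, 3, 4, 2, 3, 8, 6, 5, 4, 3, 2, 1], 0)),
  (1974, 1, ([8, 9, 4, 1, 2, 3, 8, 6, 5, 4, 3, 2, 1], 0)),
  (970, 1, ([4, 2, 3, 8, 9, 6, 5, 4, 2, 3, 8, 7, 6, 5, 4, 3, 2, 1], 0)),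
  (2353, 1, ([8, 6, 5, 4, 3], 2)),
  (322, 1, ([5, 4, 3, 8, 9, 3, 8, 6, 4, 5, 3, 4, 2, 3, 8, 7, 6, 5, 4, 3, 2], 1)),
  (324, 1, ([4, 5, 3, 4, 2, 3, 8, 9, 6, 5, 4, 3, 8, 7, 6, 5, 4, 3, 2], 1)),
  (4229, 1, ([6, 5, 4, 2, 3, 8, 9, 4, 2, 3, 8, 6, 5, 4, 3, 2, 1], 0)),
  (2329, 500, ([4, 0, 1, 2, 3, 8, 9, 3, 4, 2, 3, 8, 6, 5, 4, 3, 2], 1)),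
  (402, 1, ([3, 8, 9, 6, 4, 5, 3, 4, 2, 3, 8, 7, 6, 5, 4, 3, 2, 1], 0)),
  (2904, 1, ([4, 3, 8, 9, 3, 4, 2, 3, 8, 5, 4, 3, 2, 1], 0)),
  (329, 1, ([1, 2, 3, 8, 9, 5, 4, 3, 8, 6, 5, 4, 3], 2)),
  (330, 1, ([4, 2, 3, 8, 9, 5, 4, 3, 8, 7, 6, 5, 4, 3, 2], 1)),
  (5263, 500, ([5, 4, 3, 8, 9, 2, 3, 8, 5, 4, 3, 2], 1)),
  (334, 2, ([2, 3, 8, 9, 6, 5, 4, 3, 8, 7, 6, 5, 4, 3, 2], 1)),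
  (6292, 3, ([4, 3, 8, 9, 2, 3, 8, 4, 3, 2, 1], 0)),
  (337, 500, ([3, 8, 9, 5, 4, 3, 8, 6, 5, 4, 3], 2)),
  (338, 500, ([2, 3, 8, 9, 4, 3, 8, 6, 5, 4, 3], 2)),
  (340, 500, ([3, 8, 9, 5, 4, 3, 8, 7, 6, 5, 4, 3, 2], 1)),
  (1870, 1, ([8, 9, 3, 8, 6, 5, 4, 3, 2, 1], 0)),
  (344, 1, ([8, 9, 6, 5, 4, 3, 8, 7, 6, 5, 4, 3, 2], 1)),
  (1018, 2, ([9, 3, 4, 5, 2, 3, 4, 1, 2, 3, 8, 6, 5, 4, 3, 2, 1], 0)),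
  (348, 3, ([6, 5, 2, 3, 4, 1, 2, 3, 8, 7, 6, 5, 4, 3, 2, 1], 0)),
  (1716, 1, ([9, 2, 3, 8, 5, 4, 3, 2], 1)),
  (888, 500, ([9, 4, 2, 3, 8, 6, 5, 4, 3, 2], 1)),
  (1877, 1, ([4, 3, 8, 2, 3, 4, 1, 2, 3, 8, 5, 4, 3, 2, 1], 0)),
  (507, 3, ([9, 6, 5, 2, 3, 4, 1, 2, 3, 8, 7, 6, 5, 4, 3, 2, 1], 0)),
  (718, 500, ([2, 3, 4, 1, 2, 3, 8, 7, 6, 5, 4, 3, 2, 1], 0)),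
  (355, 1, ([8, 9, 8, 6, 4, 5, 2, 3, 4, 1, 2, 3, 8, 7, 6, 5, 4, 3, 2, 1], 0)),
  (1245, 1, ([9, 2, 3, 8, 6, 5, 4, 3, 2], 1)),
  (358, 1, ([8, 9, 5, 6, 4, 5, 2, 3, 4, 1, 2, 3, 8, 7, 6, 5, 4, 3, 2, 1], 0)),
  (359, 500, ([3, 8, 9, 8, 5, 6, 4, 5, 2, 3, 4, 1, 2, 3, 8, 7, 6, 5, 4, 3, 2, 1], 0)),
  (361, 1, ([8, 5, 3, 4, 1, 2, 3, 8, 6, 5, 4, 3, 2, 1], 0)),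
  (1559, 1, ([2, 3, 8, 5, 4, 3, 2, 1], 0)),
  (367, 1, ([4, 5, 3, 4, 1, 2, 3, 8, 6, 5, 4, 3, 2, 1], 0)),
  (561, 1, ([3, 4, 2, 3, 8, 6, 5, 4, 3, 2, 1], 0)),
  (636, 1, ([8, 9, 5, 4, 2, 3, 8, 7, 6, 5, 4, 3, 2], 1)),
  (2347, 1, ([3, 8, 9, 4, 2, 3, 8, 5, 4, 3, 2], 1)),
  (373, 500, ([3, 8, 9, 5, 6, 4, 5, 3, 4, 1, 2, 3, 8, 7, 6, 5, 4, 3, 2, 1], 0)),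
  (374, 1, ([2, 3, 8, 9, 8, 5, 6, 4, 5, 3, 4, 1, 2, 3, 8, 7, 6, 5, 4, 3, 2, 1], 0)),
  (489, 2, ([1, 2, 3, 8, 9, 6, 5, 3, 4, 2, 3, 8, 7, 6, 5, 4, 3, 2], 1)),
  (5293, 1, ([7, 6, 5, 4, 3, 8, 9, 2, 3, 8, 4, 3, 2], 1)),
  (378, 1, ([2, 3, 8, 9, 3, 8, 6, 4, 5, 3, 4, 1, 2, 3, 8, 7, 6, 5, 4, 3, 2, 1], 0)),
  (637, 1, ([3, 8, 9, 5, 3, 4, 2, 3, 8, 7, 6, 5, 4, 3, 2], 1)),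
  (380, 1, ([5, 2, 3, 4, 0, 1, 2, 3, 8, 9, 6, 5, 4, 3, 8, 7, 6, 5, 4, 3, 2, 1], 0)),
  (4145, 500, ([6, 5, 4, 3, 8, 9, 4, 2, 3, 8, 6, 5, 4, 3, 2], 1)),
  (3166, 500, ([6, 5, 4, 3, 8, 9, 8, 3, 4, 2, 3, 8, 5, 4, 3, 2], 1)),
  (2531, 1, ([7, 6, 5, 3, 4, 2, 3, 8, 9, 1, 2, 3, 8, 5, 4, 3, 2, 1], 0)),
  (5311, 1, ([7, 6, 5, 3, 4, 2, 3, 8, 9, 4, 1, 2, 3, 8, 7, 6, 5, 4, 3, 2, 1], 0)),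
  (1713, 500, ([3, 8, 5, 4, 3, 2], 1)),
  (391, 1, ([5, 4, 2, 3, 8, 7, 6, 5, 4, 3, 2, 1], 0)),
  (1715, 500, ([2, 3, 8, 4, 3, 2], 1)),
  (396, 1, ([8, 9, 6, 5, 3, 4, 2, 3, 8, 7, 6, 5, 4, 3, 2, 1], 0)),
  (397, 501, ([3, 8, 9, 8, 6, 5, 3, 4, 2, 3, 8, 7, 6, 5, 4, 3, 2, 1], 0)),
  (399, 1, ([8, 9, 8, 4, 5, 3, 4, 2, 3, 8, 6, 5, 4, 3, 2, 1], 0)),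
  (3522, 1, ([3, 8, 9, 1, 2, 3, 8, 6, 5, 4, 3, 2, 1], 0)),
  (2350, 1, ([1, 2, 3, 8, 9, 8, 3, 4, 2, 3, 8, 5, 4, 3, 2], 1)),
  (403, 1, ([2, 3, 8, 9, 8, 6, 4, 5, 3, 4, 2, 3, 8, 7, 6, 5, 4, 3, 2, 1], 0)),
  (2369, 1, ([5, 4, 2, 3, 8, 9, 3, 4, 2, 3, 8, 7, 6, 5, 4, 3, 2], 1)),
  (3524, 1, ([4, 3, 8, 9, 4, 1, 2, 3, 8, 6, 5, 4, 3, 2, 1], 0)),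
  (1852, 1, ([7, 6, 5, 3, 4, 2, 3, 8, 9, 5, 4, 2, 3, 8, 7, 6, 5, 4, 3, 2], 1)),
  (2321, 500, ([1, 2, 3, 8, 9, 4, 2, 3, 8, 6, 5, 4, 3, 2, 1], 0)),
  (1582, 1, ([1, 2, 3, 8, 9, 8, 5, 3, 4, 2, 3, 8, 6, 5, 4, 3, 2, 1], 0)),
  (5262, 1, ([4, 3, 8, 9, 2, 3, 8, 4, 3, 2], 1)),
  (1248, 1, ([2, 3, 8, 9, 8, 3, 4, 2, 3, 8, 6, 5, 4, 3, 2], 1)),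
  (1575, 1, ([4, 3, 8, 9, 3, 4, 2, 3, 8, 7, 6, 5, 4, 3, 2, 1], 0)),
  (454, 1, ([4, 3, 8, 9, 6, 4, 5, 3, 4, 2, 3, 8, 7, 6, 5, 4, 3, 2], 1)),
  (415, 1, ([5, 4, 3, 8, 9, 3, 8, 6, 4, 5, 3, 4, 2, 3, 8, 7, 6, 5, 4, 3, 2, 1], 0)),
  (5204, 1, ([6, 5, 4, 1, 2, 3, 8, 9, 4, 2, 3, 8, 6, 5, 4, 3, 2, 1], 0)),
  (2507, 1, ([7, 6, 5, 4, 1, 2, 3, 8, 9, 4, 2, 3, 8, 7, 6, 5, 4, 3, 2], 1)),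
  (4151, 1, ([6, 5, 4, 3, 8, 9, 2, 3, 8, 7, 6, 5, 4, 3, 2], 1)),
  (5290, 1, ([6, 5, 4, 3, 8, 9, 2, 3, 8, 4, 3, 2, 1], 0)),
  (1724, 1, ([8, 9, 2, 3, 8, 6, 5, 4, 3, 2], 1)),
  (432, 500, ([4, 2, 3, 8, 7, 6, 5, 4, 3, 2], 1)),
  (433, 1, ([9, 3, 4, 2, 3, 8, 7, 6, 5, 4, 3, 2], 1)),
  (2522, 2, ([9, 8, 5, 4, 3], 2)),
  (437, 1, ([8, 9, 8, 5, 3, 4, 2, 3, 8, 6, 5, 4, 3, 2], 1)),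
  (438, 500, ([5, 4, 3, 8, 7, 6, 5, 4, 3, 2], 1)),
  (1042, 1, ([3, 4, 1, 2, 3, 8, 5, 4, 3, 2, 1], 0)),
  (440, 1, ([8, 9, 5, 3, 4, 2, 3, 8, 7, 6, 5, 4, 3, 2], 1)),
  (441, 1, ([3, 8, 9, 8, 5, 3, 4, 2, 3, 8, 7, 6, 5, 4, 3, 2], 1)),
  (5265, 500, ([6, 5], 4)),
  (444, 1, ([8, 9, 6, 5, 4, 2, 3, 8, 7, 6, 5, 4, 3, 2], 1)),
  (445, 501, ([3, 8, 9, 6, 5, 3, 4, 2, 3, 8, 7, 6, 5, 4, 3, 2], 1)),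
  (446, 1, ([2, 3, 8, 9, 8, 6, 5, 3, 4, 2, 3, 8, 7, 6, 5, 4, 3, 2], 1)),
  (5268, 2, ([7, 6], 5)),
  (449, 1, ([3, 8, 9, 8, 4, 5, 3, 4, 2, 3, 8, 6, 5, 4, 3, 2], 1)),
  (451, 501, ([2, 3, 8, 9, 8, 4, 5, 3, 4, 2, 3, 8, 7, 6, 5, 4, 3, 2], 1)),
  (453, 1, ([2, 3, 8, 9, 6, 4, 5, 3, 4, 2, 3, 8, 7, 6, 5, 4, 3, 2], 1)),
  (455, 1, ([8, 3, 4, 2, 3, 8, 9, 6, 5, 4, 3, 8, 7, 6, 5, 4, 3, 2], 1)),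
  (5704, 501, ([5, 4, 3, 8, 9, 1, 2, 3, 8, 6, 5, 4, 3, 2, 1], 0)),
  (3855, 500, ([5, 4, 3, 8, 9, 4, 2, 3, 8, 6, 5, 4, 3, 2, 1], 0)),
  (1569, 1, ([4, 3, 8, 9, 8, 3, 4, 2, 3, 8, 6, 5, 4, 3, 2, 1], 0)),
  (1253, 1, ([8, 9, 2, 3, 8, 7, 6, 5, 4, 3, 2], 1)),
  (8006, 500, ([], 7)),
  (1568, 1, ([2, 3, 8, 9, 8, 3, 4, 2, 3, 8, 6, 5, 4, 3, 2, 1], 0)),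
  (979, 1, ([2, 3, 8, 9, 5, 4, 3, 8, 6, 5, 4, 3, 2, 1], 0)),
  (467, 1, ([4, 3, 8, 9, 3, 8, 4, 5, 3, 4, 2, 3, 8, 6, 5, 4, 3, 2], 1)),
  (468, 2, ([3, 4, 2, 3, 8, 9, 5, 4, 3, 8, 7, 6, 5, 4, 3, 2], 1)),
  (1346, 500, ([5, 4, 2, 3, 8, 9, 5, 4, 2, 3, 8, 7, 6, 5, 4, 3, 2], 1)),
  (472, 2, ([3, 4, 2, 3, 8, 9, 6, 5, 4, 2, 3, 8, 7, 6, 5, 4, 3, 2], 1)),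
  (473, 1, ([4, 1, 2, 3, 8, 9, 6, 5, 4, 2, 3, 8, 7, 6, 5, 4, 3, 2], 1)),
  (474, 500, ([5, 3, 4, 1, 2, 3, 8, 9, 6, 5, 4, 2, 3, 8, 7, 6, 5, 4, 3, 2], 1)),
  (681, 2, ([3, 4, 2, 3, 8, 9, 6, 5, 4, 2, 3, 8, 7, 6, 5, 4, 3, 2, 1], 0)),
  (477, 1, ([4, 5, 3, 4, 2, 3, 8, 9, 6, 5, 4, 2, 3, 8, 7, 6, 5, 4, 3, 2], 1)),
  (761, 501, ([3, 8, 9, 4, 5, 3, 4, 1, 2, 3, 8, 7, 6, 5, 4, 3, 2, 1], 0)),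
  (6540, 2, ([5, 4, 3, 8, 9, 2, 3, 8, 4, 3, 2, 1], 0)),
  (481, 1, ([1, 2, 3, 8, 9, 5, 4, 3, 8, 6, 5, 4, 3, 2], 1)),
  (1243, 500, ([3, 8, 6, 5, 4, 3, 2], 1)),
  (885, 1, ([8, 9, 8, 3, 4, 2, 3, 8, 5, 4, 3, 2], 1)),
  (484, 1, ([2, 3, 8, 9, 5, 4, 3, 8, 7, 6, 5, 4, 3, 2], 1)),
  (4528, 1, ([4, 3, 8, 9, 1, 2, 3, 8, 6, 5, 4, 3, 2, 1], 0)),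
  (486, 1, ([1, 2, 3, 8, 9, 4, 3, 8, 7, 6, 5, 4, 3, 2], 1)),
  (488, 1, ([2, 3, 8, 9, 6, 5, 4, 2, 3, 8, 7, 6, 5, 4, 3, 2], 1)),
  (7999, 1, ([], 8)),
  (493, 1, ([3, 8, 9, 4, 3, 8, 6, 5, 4, 3], 2)),
  (1563, 500, ([3, 8, 6, 5, 4, 3, 2, 1], 0)),
  (501, 1, ([3, 8, 5, 2, 3, 4, 1, 2, 3, 8, 7, 6, 5, 4, 3, 2, 1], 0)),
  (511, 2, ([3, 4, 5, 2, 3, 4, 1, 2, 3, 8, 7, 6, 5, 4, 3, 2, 1], 0)),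
  (504, 500, ([8, 5, 2, 3, 4, 1, 2, 3, 8, 6, 5, 4, 3, 2, 1], 0)),
  (2322, 2, ([1, 2, 3, 8, 9, 4, 3, 8, 5, 4, 3, 2, 1], 0)),
  (509, 500, ([4, 5, 2, 3, 4, 1, 2, 3, 8, 6, 5, 4, 3, 2, 1], 0)),
  (2524, 500, ([5, 4, 3, 8, 2, 3, 4, 1, 2, 3, 8, 5, 4, 3, 2, 1], 0)),
  (3133, 2, ([0, 1, 2, 3, 8, 9, 3, 4, 1, 2, 3, 8, 6, 5, 4, 3, 2, 1], 0)),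
  (1695, 1, ([0, 1, 2, 3, 8, 9, 5, 4, 1, 2, 3, 8, 6, 5, 4, 3, 2, 1], 0)),
  (516, 1, ([3, 8, 9, 8, 6, 4, 5, 2, 3, 4, 1, 2, 3, 8, 7, 6, 5, 4, 3, 2, 1], 0)),
  (1047, 1, ([1, 2, 3, 8, 7, 6, 5, 4, 3, 2, 1], 0)),
  (518, 1, ([8, 9, 5, 6, 3, 4, 5, 2, 3, 4, 1, 2, 3, 8, 7, 6, 5, 4, 3, 2, 1], 0)),
  (519, 500, ([3, 8, 9, 5, 6, 4, 5, 2, 3, 4, 1, 2, 3, 8, 7, 6, 5, 4, 3, 2, 1], 0)),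
  (520, 501, ([2, 3, 8, 9, 8, 5, 6, 4, 5, 2, 3, 4, 1, 2, 3, 8, 7, 6, 5, 4, 3, 2, 1], 0)),
  (5239, 1, ([3, 4, 0, 1, 2, 3, 8, 9, 3, 4, 1, 2, 3, 8, 6, 5, 4, 3, 2, 1], 0)),
  (522, 500, ([8, 3, 4, 1, 2, 3, 8, 6, 5, 4, 3, 2, 1], 0)),
  (3319, 500, ([9, 8, 4, 3], 2)),
  (2140, 500, ([2, 3, 8, 4, 3, 2, 1], 0)),
  (529, 1, ([8, 9, 8, 5, 3, 4, 1, 2, 3, 8, 7, 6, 5, 4, 3, 2, 1], 0)),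
  (531, 1, ([8, 9, 6, 5, 3, 4, 1, 2, 3, 8, 7, 6, 5, 4, 3, 2, 1], 0)),
  (6527, 1, ([5, 4, 3, 8, 9, 2, 3, 8, 4, 3, 2], 1)),
  (535, 1, ([8, 9, 4, 5, 3, 4, 1, 2, 3, 8, 7, 6, 5, 4, 3, 2, 1], 0)),
  (3156, 1, ([9, 8, 5, 4, 3, 2], 1)),
  (537, 1, ([3, 8, 9, 6, 4, 5, 3, 4, 1, 2, 3, 8, 7, 6, 5, 4, 3, 2, 1], 0)),
  (538, 1, ([2, 3, 8, 9, 8, 6, 4, 5, 3, 4, 1, 2, 3, 8, 7, 6, 5, 4, 3, 2, 1], 0)),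
  (540, 2, ([2, 3, 8, 9, 5, 6, 4, 5, 3, 4, 1, 2, 3, 8, 7, 6, 5, 4, 3, 2, 1], 0)),
  (1578, 1, ([5, 4, 3, 8, 9, 8, 3, 4, 2, 3, 8, 7, 6, 5, 4, 3, 2, 1], 0)),
  (1396, 2, ([2, 3, 8, 9, 8, 5, 2, 3, 4, 1, 2, 3, 8, 7, 6, 5, 4, 3, 2, 1], 0)),
  (5211, 1, ([5, 3, 4, 0, 1, 2, 3, 8, 9, 5, 3, 4, 1, 2, 3, 8, 6, 5, 4, 3, 2, 1], 0)),
  (1734, 501, ([3, 8, 9, 2, 3, 8, 7, 6, 5, 4, 3, 2], 1)),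
  (2929, 1, ([5, 3, 4, 2, 3, 8, 9, 8, 3, 4, 2, 3, 8, 7, 6, 5, 4, 3, 2, 1], 0)),
  (549, 500, ([4, 2, 3, 8, 9, 3, 8, 6, 4, 5, 3, 4, 1, 2, 3, 8, 7, 6, 5, 4, 3, 2, 1], 0)),
  (553, 1, ([3, 4, 2, 3, 8, 9, 3, 8, 5, 6, 4, 5, 3, 4, 1, 2, 3, 8, 7, 6, 5, 4, 3, 2, 1], 0)),
  (2363, 1, ([6, 5, 4, 3, 8, 9, 8, 3, 4, 2, 3, 8, 6, 5, 4, 3, 2], 1)),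
  (2520, 500, ([8, 9, 3, 8, 4, 3, 2], 1)),
  (3330, 500, ([7, 6, 5, 3, 4, 2, 3, 8, 9, 4, 1, 2, 3, 8, 5, 4, 3, 2, 1], 0)),
  (1858, 500, ([7, 6, 5, 3, 4, 2, 3, 8, 9, 6, 5, 4, 2, 3, 8, 7, 6, 5, 4, 3, 2, 1], 0)),
  (8087, 1, ([7, 6, 5, 3, 4, 2, 3, 8, 9, 2, 3, 4, 1, 2, 3, 8, 7, 6, 5, 4, 3, 2, 1], 0)),
  (1252, 500, ([9, 3, 8, 7, 6, 5, 4, 3, 2], 1)),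
  (563, 500, ([4, 2, 3, 8, 7, 6, 5, 4, 3, 2, 1], 0)),
  (2343, 1, ([3, 8, 4, 3, 2], 1)),
  (568, 501, ([8, 9, 8, 5, 3, 4, 2, 3, 8, 6, 5, 4, 3, 2, 1], 0)),
  (887, 1, ([2, 3, 8, 6, 5, 4, 3, 2], 1)),
  (571, 501, ([8, 9, 5, 3, 4, 2, 3, 8, 7, 6, 5, 4, 3, 2, 1], 0)),
  (4141, 1, ([5, 4, 2, 3, 8, 9, 3, 4, 2, 3, 8, 5, 4, 3, 2], 1)),
  (1250, 500, ([3, 8, 7, 6, 5, 4, 3], 2)),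
  (574, 1, ([8, 9, 6, 5, 4, 2, 3, 8, 7, 6, 5, 4, 3, 2, 1], 0)),
  (575, 1, ([3, 8, 9, 6, 5, 3, 4, 2, 3, 8, 7, 6, 5, 4, 3, 2, 1], 0)),
  (577, 1, ([4, 3, 8, 9, 8, 6, 5, 3, 4, 2, 3, 8, 7, 6, 5, 4, 3, 2, 1], 0)),
  (4134, 1, ([8, 3, 2], 1)),
  (579, 1, ([3, 8, 9, 8, 4, 5, 3, 4, 2, 3, 8, 6, 5, 4, 3, 2, 1], 0)),
  (580, 1, ([3, 8, 9, 4, 5, 3, 4, 2, 3, 8, 7, 6, 5, 4, 3, 2, 1], 0)),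
  (673, 1, ([3, 4, 2, 3, 8, 9, 5, 4, 3, 8, 6, 5, 4, 3, 2], 1)),
  (4239, 1, ([7, 6, 5, 4, 3, 8, 9, 2, 3, 8, 4, 3, 2, 1], 0)),
  (584, 1, ([4, 3, 8, 9, 6, 4, 5, 3, 4, 2, 3, 8, 7, 6, 5, 4, 3, 2, 1], 0)),
  (8000, 2, ([], 3)),
  (4530, 500, ([5, 4, 3, 8, 9, 4, 1, 2, 3, 8, 6, 5, 4, 3, 2, 1], 0)),
  (1977, 501, ([4, 3, 8, 9, 8, 3, 4, 1, 2, 3, 8, 6, 5, 4, 3, 2, 1], 0)),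
  (1572, 1, ([8, 9, 2, 3, 8, 7, 6, 5, 4, 3, 2, 1], 0))]

/-- Representatives, part 2. -/
def reps11_2 : List (ℕ × ℕ × (List ℕ × ℕ)) := [(1978, 1, ([8, 9, 1, 2, 3, 8, 7, 6, 5, 4, 3, 2, 1], 0)),
  (597, 1, ([4, 3, 8, 9, 3, 8, 4, 5, 3, 4, 2, 3, 8, 6, 5, 4, 3, 2, 1], 0)),
  (2357, 1, ([4, 3, 8, 9, 4, 2, 3, 8, 6, 5, 4, 3, 2], 1)),
  (890, 500, ([3, 8, 9, 8, 3, 4, 2, 3, 8, 6, 5, 4, 3, 2], 1)),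
  (4152, 500, ([7, 6, 5, 4, 3, 8, 9, 4, 2, 3, 8, 7, 6, 5, 4, 3, 2], 1)),
  (607, 1, ([4, 5, 3, 4, 0, 1, 2, 3, 8, 9, 6, 5, 4, 2, 3, 8, 7, 6, 5, 4, 3, 2, 1], 0)),
  (654, 1, ([1, 2, 3, 8, 9, 6, 4, 5, 3, 4, 2, 3, 8, 7, 6, 5, 4, 3, 2], 1)),
  (1867, 2, ([1, 2, 3, 8, 9, 3, 4, 2, 3, 8, 5, 4, 3, 2], 1)),
  (2341, 500, ([3, 8, 5, 4, 3], 2)),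
  (1124, 1, ([8, 9, 8, 3, 4, 2, 3, 8, 5, 4, 3, 2, 1], 0)),
  (3158, 1, ([8, 9, 2, 3, 8, 4, 3, 2], 1)),
  (1371, 1, ([8, 9, 3, 8, 6, 5, 4, 3, 2], 1)),
  (807, 1, ([8, 9, 3, 4, 2, 3, 8, 7, 6, 5, 4, 3, 2, 1], 0)),
  (621, 500, ([9, 8, 3, 4, 2, 3, 8, 5, 4, 3, 2], 1)),
  (4133, 500, ([5, 4, 3], 2)),
  (624, 1, ([8, 9, 8, 3, 4, 2, 3, 8, 6, 5, 4, 3, 2], 1)),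
  (625, 1, ([4, 3, 8, 7, 6, 5, 4, 3, 2], 1)),
  (629, 500, ([3, 8, 9, 8, 3, 4, 2, 3, 8, 7, 6, 5, 4, 3, 2], 1)),
  (633, 1, ([3, 8, 9, 8, 5, 3, 4, 2, 3, 8, 6, 5, 4, 3, 2], 1)),
  (638, 1, ([2, 3, 8, 9, 8, 5, 3, 4, 2, 3, 8, 7, 6, 5, 4, 3, 2], 1)),
  (5692, 1, ([5, 4, 3, 8, 9, 4, 1, 2, 3, 8, 5, 4, 3, 2, 1], 0)),
  (640, 500, ([3, 8, 9, 6, 5, 4, 2, 3, 8, 7, 6, 5, 4, 3, 2], 1)),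
  (641, 1, ([2, 3, 8, 9, 6, 5, 3, 4, 2, 3, 8, 7, 6, 5, 4, 3, 2], 1)),
  (643, 1000, ([1, 2, 3, 8, 9, 8, 6, 5, 3, 4, 2, 3, 8, 7, 6, 5, 4, 3, 2], 1)),
  (753, 1, ([8, 9, 5, 3, 4, 1, 2, 3, 8, 7, 6, 5, 4, 3, 2, 1], 0)),
  (646, 1, ([3, 8, 9, 4, 5, 3, 4, 2, 3, 8, 6, 5, 4, 3, 2], 1)),
  (985, 1, ([2, 3, 8, 9, 5, 4, 2, 3, 8, 7, 6, 5, 4, 3, 2, 1], 0)),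
  (650, 1, ([4, 3, 8, 9, 4, 5, 3, 4, 2, 3, 8, 7, 6, 5, 4, 3, 2], 1)),
  (656, 500, ([5, 4, 3, 8, 9, 6, 4, 5, 3, 4, 2, 3, 8, 7, 6, 5, 4, 3, 2], 1)),
  (659, 1, ([3, 4, 2, 3, 8, 9, 8, 6, 4, 5, 3, 4, 2, 3, 8, 7, 6, 5, 4, 3, 2], 1)),
  (4117, 500, ([4, 0, 1, 2, 3, 8, 9, 3, 4, 2, 3, 8, 5, 4, 3, 2, 1], 0)),
  (664, 1, ([3, 4, 2, 3, 8, 9, 5, 6, 4, 5, 3, 4, 2, 3, 8, 7, 6, 5, 4, 3, 2], 1)),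
  (1570, 1, ([8, 7, 6, 5, 4, 3, 2, 1], 0)),
  (3313, 1, ([6, 5, 4, 2, 3, 8, 9, 4, 2, 3, 8, 7, 6, 5, 4, 3, 2, 1], 0)),
  (1360, 1, ([2, 3, 8, 9, 4, 3, 8, 6, 5, 4, 3, 2, 1], 0)),
  (748, 1, ([8, 9, 8, 3, 4, 1, 2, 3, 8, 7, 6, 5, 4, 3, 2, 1], 0)),
  (674, 1, ([3, 4, 1, 2, 3, 8, 9, 5, 4, 2, 3, 8, 6, 5, 4, 3, 2], 1)),
  (4129, 500, ([7, 6, 5, 4, 2, 3, 8, 9, 4, 2, 3, 8, 5, 4, 3, 2, 1], 0)),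
  (677, 1, ([3, 4, 2, 3, 8, 9, 5, 4, 2, 3, 8, 7, 6, 5, 4, 3, 2], 1)),
  (678, 1, ([4, 1, 2, 3, 8, 9, 5, 4, 2, 3, 8, 7, 6, 5, 4, 3, 2], 1)),
  (679, 1, ([5, 3, 4, 1, 2, 3, 8, 9, 5, 4, 2, 3, 8, 7, 6, 5, 4, 3, 2], 1)),
  (682, 1, ([4, 2, 3, 8, 9, 6, 5, 4, 2, 3, 8, 7, 6, 5, 4, 3, 2], 1)),
  (1729, 500, ([4, 2, 3, 8, 9, 8, 3, 4, 2, 3, 8, 6, 5, 4, 3, 2], 1)),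
  (684, 1, ([5, 4, 1, 2, 3, 8, 9, 6, 5, 4, 2, 3, 8, 7, 6, 5, 4, 3, 2], 1)),
  (971, 500, ([5, 3, 4, 2, 3, 8, 9, 6, 5, 4, 2, 3, 8, 7, 6, 5, 4, 3, 2, 1], 0)),
  (692, 1, ([2, 3, 8, 9, 5, 4, 3, 8, 6, 5, 4, 3, 2], 1)),
  (696, 1, ([2, 3, 8, 9, 5, 4, 3, 8, 7, 6, 5, 4, 3, 2, 1], 0)),
  (697, 2, ([2, 3, 8, 9, 5, 4, 2, 3, 8, 7, 6, 5, 4, 3, 2], 1)),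
  (698, 1, ([2, 3, 8, 9, 4, 3, 8, 7, 6, 5, 4, 3, 2], 1)),
  (3843, 3, ([8, 9, 2, 3, 8, 4, 3, 2, 1], 0)),
  (704, 1, ([3, 8, 9, 4, 3, 8, 6, 5, 4, 3, 2], 1)),
  (8007, 500, ([], 9)),
  (707, 2, ([3, 8, 9, 4, 3, 8, 5, 4, 3], 2)),
  (3162, 500, ([5, 4, 3, 8, 9, 3, 4, 2, 3, 8, 5, 4, 3, 2], 1)),
  (884, 1, ([9, 3, 4, 2, 3, 8, 5, 4, 3, 2], 1)),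
  (1006, 1, ([8, 2, 3, 4, 1, 2, 3, 8, 5, 4, 3, 2, 1], 0)),
  (717, 2, ([8, 2, 3, 4, 1, 2, 3, 8, 6, 5, 4, 3, 2, 1], 0)),
  (723, 1, ([8, 9, 8, 5, 2, 3, 4, 1, 2, 3, 8, 7, 6, 5, 4, 3, 2, 1], 0)),
  (724, 1, ([8, 9, 6, 5, 2, 3, 4, 1, 2, 3, 8, 7, 6, 5, 4, 3, 2, 1], 0)),
  (725, 1, ([3, 8, 9, 8, 6, 5, 2, 3, 4, 1, 2, 3, 8, 7, 6, 5, 4, 3, 2, 1], 0)),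
  (894, 1, ([9, 2, 3, 8, 7, 6, 5, 4, 3, 2], 1)),
  (1378, 2, ([4, 3, 8, 2, 3, 4, 1, 2, 3, 8, 6, 5, 4, 3, 2, 1], 0)),
  (730, 1, ([8, 9, 4, 5, 2, 3, 4, 1, 2, 3, 8, 7, 6, 5, 4, 3, 2, 1], 0)),
  (4524, 501, ([3, 4, 2, 3, 8, 9, 8, 3, 4, 1, 2, 3, 8, 5, 4, 3, 2, 1], 0)),
  (732, 1, ([8, 9, 6, 3, 4, 5, 2, 3, 4, 1, 2, 3, 8, 7, 6, 5, 4, 3, 2, 1], 0)),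
  (733, 1, ([3, 8, 9, 6, 4, 5, 2, 3, 4, 1, 2, 3, 8, 7, 6, 5, 4, 3, 2, 1], 0)),
  (734, 1, ([2, 3, 8, 9, 8, 6, 4, 5, 2, 3, 4, 1, 2, 3, 8, 7, 6, 5, 4, 3, 2, 1], 0)),
  (4109, 2, ([4, 1, 2, 3, 8, 9, 4, 2, 3, 8, 5, 4, 3, 2, 1], 0)),
  (4527, 1, ([2, 3, 8, 9, 1, 2, 3, 8, 6, 5, 4, 3, 2, 1], 0)),
  (1997, 1, ([4, 1, 2, 3, 8, 9, 8, 5, 3, 4, 1, 2, 3, 8, 7, 6, 5, 4, 3, 2, 1], 0)),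
  (738, 2, ([2, 3, 8, 9, 5, 6, 4, 5, 2, 3, 4, 1, 2, 3, 8, 7, 6, 5, 4, 3, 2, 1], 0)),
  (5380, 1, ([7, 6, 5, 3, 4, 2, 3, 8, 9, 3, 4, 1, 2, 3, 8, 6, 5, 4, 3, 2, 1], 0)),
  (740, 2, ([1, 2, 3, 8, 9, 8, 5, 6, 4, 5, 2, 3, 4, 1, 2, 3, 8, 7, 6, 5, 4, 3, 2, 1], 0)),
  (6480, 1, ([5, 3, 4, 0, 1, 2, 3, 8, 9, 3, 4, 1, 2, 3, 8, 6, 5, 4, 3, 2, 1], 0)),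
  (8064, 1, ([2, 3, 4, 1, 2, 3, 8, 9, 2, 3, 4, 1, 2, 3, 8, 6, 5, 4, 3, 2, 1], 0)),
  (743, 500, ([8, 3, 4, 1, 2, 3, 8, 5, 4, 3, 2, 1], 0)),
  (1277, 1001, ([3, 4, 1, 2, 3, 8, 9, 8, 6, 5, 3, 4, 2, 3, 8, 7, 6, 5, 4, 3, 2], 1)),
  (749, 1, ([5, 4, 1, 2, 3, 8, 6, 5, 4, 3, 2, 1], 0)),
  (751, 1, ([8, 9, 8, 5, 3, 4, 1, 2, 3, 8, 6, 5, 4, 3, 2, 1], 0)),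
  (755, 1, ([8, 9, 6, 5, 4, 1, 2, 3, 8, 7, 6, 5, 4, 3, 2, 1], 0)),
  (756, 1, ([3, 8, 9, 6, 5, 3, 4, 1, 2, 3, 8, 7, 6, 5, 4, 3, 2, 1], 0)),
  (758, 1, ([4, 3, 8, 9, 8, 6, 5, 3, 4, 1, 2, 3, 8, 7, 6, 5, 4, 3, 2, 1], 0)),
  (984, 1, ([1, 2, 3, 8, 9, 4, 3, 8, 5, 4, 3, 2], 1)),
  (760, 1, ([3, 8, 9, 8, 4, 5, 3, 4, 1, 2, 3, 8, 6, 5, 4, 3, 2, 1], 0)),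
  (1462, 1, ([2, 3, 8, 9, 6, 5, 4, 1, 2, 3, 8, 7, 6, 5, 4, 3, 2, 1], 0)),
  (763, 1, ([4, 3, 8, 9, 8, 4, 5, 3, 4, 1, 2, 3, 8, 7, 6, 5, 4, 3, 2, 1], 0)),
  (764, 1, ([2, 3, 8, 9, 6, 4, 5, 3, 4, 1, 2, 3, 8, 7, 6, 5, 4, 3, 2, 1], 0)),
  (2527, 1, ([7, 6, 5, 4, 2, 3, 8, 9, 1, 2, 3, 8, 4, 3, 2, 1], 0)),
  (767, 1, ([4, 2, 3, 8, 9, 8, 6, 4, 5, 3, 4, 1, 2, 3, 8, 7, 6, 5, 4, 3, 2, 1], 0)),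
  (1738, 500, ([4, 1, 2, 3, 8, 9, 8, 3, 4, 2, 3, 8, 7, 6, 5, 4, 3, 2], 1)),
  (769, 2, ([1, 2, 3, 8, 9, 5, 6, 4, 5, 3, 4, 1, 2, 3, 8, 7, 6, 5, 4, 3, 2, 1], 0)),
  (770, 1, ([4, 2, 3, 8, 9, 5, 6, 4, 5, 3, 4, 1, 2, 3, 8, 7, 6, 5, 4, 3, 2, 1], 0)),
  (6648, 1, ([6, 5, 3, 4, 2, 3, 8, 9, 3, 4, 1, 2, 3, 8, 6, 5, 4, 3, 2, 1], 0)),
  (4294, 501, ([5, 4, 1, 2, 3, 8, 9, 8, 2, 3, 4, 1, 2, 3, 8, 7, 6, 5, 4, 3, 2, 1], 0)),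
  (775, 1, ([5, 4, 2, 3, 8, 9, 8, 5, 6, 4, 5, 3, 4, 1, 2, 3, 8, 7, 6, 5, 4, 3, 2, 1], 0)),
  (5694, 1, ([3, 4, 2, 3, 8, 9, 3, 4, 1, 2, 3, 8, 5, 4, 3, 2, 1], 0)),
  (5365, 1, ([8, 5, 3, 4, 2, 3, 8, 9, 1, 2, 3, 8, 7, 6, 5, 4, 3, 2, 1], 0)),
  (4156, 1, ([7, 6, 5, 4, 3, 8, 9, 4, 2, 3, 8, 5, 4, 3, 2], 1)),
  (7113, 500, ([2, 3, 4, 1, 2, 3, 8, 9, 3, 4, 1, 2, 3, 8, 6, 5, 4, 3, 2, 1], 0)),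
  (1129, 500, ([3, 8, 9, 8, 3, 4, 2, 3, 8, 6, 5, 4, 3, 2, 1], 0)),
  (783, 500, ([2, 3, 4, 0, 1, 2, 3, 8, 9, 6, 5, 4, 2, 3, 8, 7, 6, 5, 4, 3, 2, 1], 0)),
  (784, 1, ([3, 4, 2, 3, 8, 9, 3, 8, 6, 4, 5, 3, 4, 1, 2, 3, 8, 7, 6, 5, 4, 3, 2, 1], 0)),
  (785, 1, ([5, 4, 2, 3, 8, 9, 3, 8, 6, 4, 5, 3, 4, 1, 2, 3, 8, 7, 6, 5, 4, 3, 2, 1], 0)),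
  (788, 1, ([3, 4, 5, 2, 3, 4, 0, 1, 2, 3, 8, 9, 6, 5, 4, 3, 8, 7, 6, 5, 4, 3, 2, 1], 0)),
  (789, 1, ([4, 5, 2, 3, 4, 0, 1, 2, 3, 8, 9, 6, 5, 4, 2, 3, 8, 7, 6, 5, 4, 3, 2, 1], 0)),
  (3327, 1, ([2, 3, 8, 9, 3, 8, 2, 3, 4, 1, 2, 3, 8, 6, 5, 4, 3, 2, 1], 0)),
  (2142, 1, ([8, 9, 4, 2, 3, 8, 5, 4, 3, 2, 1], 0)),
  (3155, 500, ([5, 4, 3, 2], 1)),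
  (6593, 1, ([7, 6, 5, 3, 4, 2, 3, 8, 9, 5, 4, 1, 2, 3, 8, 7, 6, 5, 4, 3, 2, 1], 0)),
  (5739, 500, ([9, 8, 3, 4, 2, 3, 8, 9, 3, 4, 1, 2, 3, 8, 7, 6, 5, 4, 3, 2, 1], 0)),
  (5401, 1, ([5, 3, 4, 1, 2, 3, 8, 9, 5, 2, 3, 4, 1, 2, 3, 8, 7, 6, 5, 4, 3, 2, 1], 0)),
  (3331, 500, ([7, 6, 5, 3, 4, 2, 3, 8, 9, 1, 2, 3, 8, 6, 5, 4, 3, 2, 1], 0)),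
  (6670, 1, ([7, 6, 5, 3, 4, 2, 3, 8, 9, 3, 4, 1, 2, 3, 8, 7, 6, 5, 4, 3, 2, 1], 0)),
  (803, 1, ([8, 9, 8, 3, 4, 2, 3, 8, 6, 5, 4, 3, 2, 1], 0)),
  (812, 1, ([3, 8, 9, 8, 5, 3, 4, 2, 3, 8, 6, 5, 4, 3, 2, 1], 0)),
  (814, 1, ([8, 9, 5, 4, 2, 3, 8, 7, 6, 5, 4, 3, 2, 1], 0)),
  (815, 1, ([3, 8, 9, 5, 3, 4, 2, 3, 8, 7, 6, 5, 4, 3, 2, 1], 0)),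
  (816, 501, ([2, 3, 8, 9, 8, 5, 3, 4, 2, 3, 8, 7, 6, 5, 4, 3, 2, 1], 0)),
  (4140, 1, ([3, 4, 2, 3, 8, 9, 3, 4, 2, 3, 8, 5, 4, 3, 2], 1)),
  (818, 500, ([3, 8, 9, 6, 5, 4, 2, 3, 8, 7, 6, 5, 4, 3, 2, 1], 0)),
  (819, 1, ([2, 3, 8, 9, 6, 5, 3, 4, 2, 3, 8, 7, 6, 5, 4, 3, 2, 1], 0)),
  (823, 1, ([5, 4, 3, 8, 9, 8, 6, 5, 3, 4, 2, 3, 8, 7, 6, 5, 4, 3, 2, 1], 0)),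
  (824, 1, ([3, 8, 9, 4, 5, 3, 4, 2, 3, 8, 6, 5, 4, 3, 2, 1], 0)),
  (1981, 501, ([4, 3, 8, 9, 3, 4, 1, 2, 3, 8, 7, 6, 5, 4, 3, 2, 1], 0)),
  (1227, 501, ([1, 2, 3, 8, 9, 5, 4, 2, 3, 8, 7, 6, 5, 4, 3, 2, 1], 0)),
  (903, 501, ([2, 3, 8, 9, 8, 5, 3, 4, 2, 3, 8, 6, 5, 4, 3, 2], 1)),
  (834, 500, ([5, 4, 3, 8, 9, 6, 4, 5, 3, 4, 2, 3, 8, 7, 6, 5, 4, 3, 2, 1], 0)),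
  (1373, 2, ([8, 9, 3, 8, 5, 4, 3], 2)),
  (837, 1, ([3, 4, 2, 3, 8, 9, 8, 6, 4, 5, 3, 4, 2, 3, 8, 7, 6, 5, 4, 3, 2, 1], 0)),
  (1787, 500, ([8, 3, 4, 2, 3, 8, 9, 4, 5, 3, 4, 2, 3, 8, 7, 6, 5, 4, 3, 2], 1)),
  (3207, 1, ([4, 5, 3, 4, 2, 3, 8, 9, 5, 3, 4, 2, 3, 8, 7, 6, 5, 4, 3, 2], 1)),
  (2675, 1, ([5, 4, 3, 8, 9, 8, 3, 4, 1, 2, 3, 8, 6, 5, 4, 3, 2, 1], 0)),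
  (3868, 500, ([6, 5, 4, 3, 8, 9, 4, 2, 3, 8, 7, 6, 5, 4, 3, 2, 1], 0)),
  (3315, 1, ([7, 6, 5, 4, 2, 3, 8, 9, 4, 2, 3, 8, 7, 6, 5, 4, 3, 2], 1)),
  (1853, 1, ([6, 5, 4, 1, 2, 3, 8, 9, 4, 2, 3, 8, 7, 6, 5, 4, 3, 2], 1)),
  (4086, 1, ([6, 5, 4, 1, 2, 3, 8, 9, 4, 2, 3, 8, 7, 6, 5, 4, 3, 2, 1], 0)),
  (1694, 1, ([1, 2, 3, 8, 9, 4, 3, 8, 6, 5, 4, 3, 2, 1], 0)),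
  (3527, 1, ([5, 4, 3, 8, 9, 3, 4, 1, 2, 3, 8, 6, 5, 4, 3, 2, 1], 0)),
  (2920, 1, ([4, 3, 8, 9, 2, 3, 8, 7, 6, 5, 4, 3, 2, 1], 0)),
  (911, 1, ([4, 3, 8, 9, 6, 5, 4, 2, 3, 8, 7, 6, 5, 4, 3, 2], 1)),
  (5000, 500, ([7, 6, 5, 4, 1, 2, 3, 8, 9, 4, 2, 3, 8, 5, 4, 3, 2, 1], 0)),
  (1863, 1, ([4, 2, 3, 8, 9, 4, 2, 3, 8, 6, 5, 4, 3, 2], 1)),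
  (862, 1, ([5, 4, 0, 1, 2, 3, 8, 9, 6, 5, 4, 2, 3, 8, 7, 6, 5, 4, 3, 2], 1)),
  (1210, 500, ([5, 3, 4, 1, 2, 3, 8, 9, 6, 5, 4, 2, 3, 8, 7, 6, 5, 4, 3, 2, 1], 0)),
  (1351, 1, ([7, 6, 5, 3, 4, 1, 2, 3, 8, 9, 5, 4, 2, 3, 8, 7, 6, 5, 4, 3, 2], 1)),
  (874, 1, ([1, 2, 3, 8, 9, 5, 4, 3, 8, 7, 6, 5, 4, 3, 2, 1], 0)),
  (8001, 2, ([], 4)),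
  (896, 500, ([3, 8, 9, 3, 4, 2, 3, 8, 7, 6, 5, 4, 3, 2], 1)),
  (897, 1, ([2, 3, 8, 9, 8, 3, 4, 2, 3, 8, 7, 6, 5, 4, 3, 2], 1)),
  (2901, 2, ([8, 9, 2, 3, 8, 5, 4, 3, 2, 1], 0)),
  (902, 1, ([3, 8, 9, 5, 3, 4, 2, 3, 8, 6, 5, 4, 3, 2], 1)),
  (904, 501, ([4, 3, 8, 9, 8, 5, 3, 4, 2, 3, 8, 6, 5, 4, 3, 2], 1)),
  (905, 500, ([3, 8, 9, 5, 4, 2, 3, 8, 7, 6, 5, 4, 3, 2], 1)),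
  (2149, 501, ([3, 8, 9, 4, 2, 3, 8, 6, 5, 4, 3, 2, 1], 0)),
  (908, 1, ([1, 2, 3, 8, 9, 8, 5, 3, 4, 2, 3, 8, 7, 6, 5, 4, 3, 2], 1)),
  (3521, 500, ([5, 4, 3, 8, 9, 8, 3, 4, 1, 2, 3, 8, 5, 4, 3, 2, 1], 0)),
  (3850, 500, ([4, 1, 2, 3, 8, 9, 8, 3, 4, 2, 3, 8, 5, 4, 3, 2, 1], 0)),
  (915, 1, ([3, 4, 2, 3, 8, 9, 8, 6, 5, 3, 4, 2, 3, 8, 7, 6, 5, 4, 3, 2], 1)),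
  (1337, 1, ([3, 4, 2, 3, 8, 9, 5, 4, 2, 3, 8, 6, 5, 4, 3, 2, 1], 0)),
  (918, 1, ([2, 3, 8, 9, 4, 5, 3, 4, 2, 3, 8, 6, 5, 4, 3, 2], 1)),
  (2158, 1, ([4, 3, 8, 9, 4, 2, 3, 8, 7, 6, 5, 4, 3, 2, 1], 0)),
  (1366, 500, ([2, 3, 8, 9, 4, 2, 3, 8, 7, 6, 5, 4, 3, 2, 1], 0)),
  (923, 1, ([1, 2, 3, 8, 9, 4, 5, 3, 4, 2, 3, 8, 7, 6, 5, 4, 3, 2], 1)),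
  (3161, 500, ([4, 2, 3, 8, 9, 3, 4, 2, 3, 8, 5, 4, 3, 2], 1)),
  (5254, 1, ([7, 6, 5, 4, 3, 8, 9, 4, 2, 3, 8, 5, 4, 3, 2, 1], 0)),
  (928, 501, ([3, 4, 2, 3, 8, 9, 8, 4, 5, 3, 4, 2, 3, 8, 7, 6, 5, 4, 3, 2], 1)),
  (5291, 500, ([6, 5, 4, 3, 8, 9, 1, 2, 3, 8, 5, 4, 3, 2, 1], 0)),
  (933, 1, ([3, 4, 2, 3, 8, 9, 6, 4, 5, 3, 4, 2, 3, 8, 7, 6, 5, 4, 3, 2], 1)),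
  (934, 1, ([5, 4, 2, 3, 8, 9, 6, 4, 5, 3, 4, 2, 3, 8, 7, 6, 5, 4, 3, 2], 1)),
  (937, 1, ([8, 3, 4, 2, 3, 8, 9, 6, 5, 3, 4, 2, 3, 8, 7, 6, 5, 4, 3, 2], 1)),
  (6503, 1, ([8, 3, 4, 1, 2, 3, 8, 9, 4, 1, 2, 3, 8, 6, 5, 4, 3, 2, 1], 0)),
  (1096, 500, ([2, 3, 4, 0, 1, 2, 3, 8, 9, 5, 4, 2, 3, 8, 7, 6, 5, 4, 3, 2, 1], 0)),
  (3549, 501, ([5, 4, 3, 8, 9, 5, 4, 1, 2, 3, 8, 6, 5, 4, 3, 2, 1], 0)),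
  (5690, 1, ([4, 3, 8, 9, 1, 2, 3, 8, 5, 4, 3, 2, 1], 0)),
  (6550, 1, ([7, 6, 5, 4, 3, 8, 9, 1, 2, 3, 8, 7, 6, 5, 4, 3, 2, 1], 0)),
  (1442, 1, ([8, 9, 8, 3, 4, 1, 2, 3, 8, 5, 4, 3, 2, 1], 0)),
  (2150, 1, ([2, 3, 8, 9, 3, 4, 2, 3, 8, 6, 5, 4, 3, 2, 1], 0)),
  (1735, 1, ([4, 3, 8, 9, 4, 2, 3, 8, 7, 6, 5, 4, 3, 2], 1)),
  (3536, 500, ([5, 4, 3, 8, 9, 4, 1, 2, 3, 8, 7, 6, 5, 4, 3, 2, 1], 0)),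
  (3547, 1, ([7, 6, 5, 4, 3, 8, 9, 8, 3, 4, 1, 2, 3, 8, 7, 6, 5, 4, 3, 2, 1], 0)),
  (3881, 1, ([6, 5, 3, 4, 2, 3, 8, 9, 8, 3, 4, 2, 3, 8, 7, 6, 5, 4, 3, 2, 1], 0)),
  (959, 1, ([3, 4, 2, 3, 8, 9, 5, 4, 2, 3, 8, 6, 5, 4, 3, 2], 1)),
  (1561, 1, ([8, 9, 3, 4, 2, 3, 8, 5, 4, 3, 2, 1], 0)),
  (961, 501, ([5, 3, 4, 1, 2, 3, 8, 9, 5, 4, 2, 3, 8, 6, 5, 4, 3, 2], 1)),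
  (964, 1, ([4, 2, 3, 8, 9, 5, 4, 2, 3, 8, 7, 6, 5, 4, 3, 2], 1)),
  (5727, 1, ([6, 5, 4, 3, 8, 9, 1, 2, 3, 8, 7, 6, 5, 4, 3, 2, 1], 0)),
  (6541, 500, ([5, 4, 3, 8, 9, 1, 2, 3, 8, 5, 4, 3, 2, 1], 0)),
  (6632, 1, ([8, 3, 4, 2, 3, 8, 9, 4, 1, 2, 3, 8, 6, 5, 4, 3, 2, 1], 0)),
  (972, 1, ([5, 4, 2, 3, 8, 9, 6, 5, 4, 2, 3, 8, 7, 6, 5, 4, 3, 2], 1)),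
  (1055, 501, ([3, 8, 9, 5, 3, 4, 1, 2, 3, 8, 7, 6, 5, 4, 3, 2, 1], 0)),
  (976, 500, ([7, 6, 5, 3, 4, 1, 2, 3, 8, 9, 6, 5, 4, 2, 3, 8, 7, 6, 5, 4, 3, 2], 1)),
  (7105, 1, ([5, 4, 1, 2, 3, 8, 9, 3, 4, 1, 2, 3, 8, 5, 4, 3, 2, 1], 0)),
  (980, 1, ([2, 3, 8, 9, 5, 4, 2, 3, 8, 6, 5, 4, 3, 2], 1)),
  (981, 1, ([2, 3, 8, 9, 4, 3, 8, 6, 5, 4, 3, 2], 1)),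
  (986, 1, ([2, 3, 8, 9, 4, 3, 8, 7, 6, 5, 4, 3, 2, 1], 0)),
  (987, 500, ([2, 3, 8, 9, 4, 2, 3, 8, 7, 6, 5, 4, 3, 2], 1)),
  (988, 1, ([4, 1, 2, 3, 8, 9, 4, 2, 3, 8, 7, 6, 5, 4, 3, 2], 1)),
  (993, 501, ([3, 8, 9, 4, 3, 8, 5, 4, 3, 2], 1)),
  (1515, 1, ([2, 3, 4, 1, 2, 3, 8, 9, 5, 4, 3, 8, 6, 5, 4, 3, 2, 1], 0)),
  (1005, 500, ([3, 8, 9, 3, 8, 6, 5, 2, 3, 4, 1, 2, 3, 8, 7, 6, 5, 4, 3, 2, 1], 0))]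

/-- Representatives, part 3. -/
def reps11_3 : List (ℕ × ℕ × (List ℕ × ℕ)) := [(1010, 1, ([8, 9, 8, 2, 3, 4, 1, 2, 3, 8, 7, 6, 5, 4, 3, 2, 1], 0)),
  (1012, 1, ([8, 9, 8, 5, 2, 3, 4, 1, 2, 3, 8, 6, 5, 4, 3, 2, 1], 0)),
  (1013, 1, ([8, 9, 5, 2, 3, 4, 1, 2, 3, 8, 7, 6, 5, 4, 3, 2, 1], 0)),
  (3348, 501, ([2, 3, 8, 9, 8, 2, 3, 4, 1, 2, 3, 8, 5, 4, 3, 2, 1], 0)),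
  (1015, 1, ([3, 8, 9, 6, 5, 2, 3, 4, 1, 2, 3, 8, 7, 6, 5, 4, 3, 2, 1], 0)),
  (1016, 3, ([2, 3, 8, 9, 8, 6, 5, 2, 3, 4, 1, 2, 3, 8, 7, 6, 5, 4, 3, 2, 1], 0)),
  (6306, 1, ([6, 5, 4, 0, 1, 2, 3, 8, 9, 4, 1, 2, 3, 8, 5, 4, 3, 2, 1], 0)),
  (5689, 1, ([2, 3, 8, 9, 1, 2, 3, 8, 5, 4, 3, 2, 1], 0)),
  (1020, 1, ([3, 8, 9, 8, 4, 5, 2, 3, 4, 1, 2, 3, 8, 6, 5, 4, 3, 2, 1], 0)),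
  (1021, 1, ([8, 9, 3, 4, 5, 2, 3, 4, 1, 2, 3, 8, 7, 6, 5, 4, 3, 2, 1], 0)),
  (1022, 1, ([3, 8, 9, 4, 5, 2, 3, 4, 1, 2, 3, 8, 7, 6, 5, 4, 3, 2, 1], 0)),
  (1023, 1, ([2, 3, 8, 9, 8, 4, 5, 2, 3, 4, 1, 2, 3, 8, 7, 6, 5, 4, 3, 2, 1], 0)),
  (2694, 1, ([3, 4, 2, 3, 8, 9, 8, 5, 3, 4, 1, 2, 3, 8, 6, 5, 4, 3, 2, 1], 0)),
  (4232, 500, ([5, 4, 2, 3, 8, 9, 4, 2, 3, 8, 5, 4, 3, 2, 1], 0)),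
  (1026, 1, ([2, 3, 8, 9, 6, 4, 5, 2, 3, 4, 1, 2, 3, 8, 7, 6, 5, 4, 3, 2, 1], 0)),
  (1027, 1, ([4, 3, 8, 9, 6, 4, 5, 2, 3, 4, 1, 2, 3, 8, 7, 6, 5, 4, 3, 2, 1], 0)),
  (1029, 1, ([4, 2, 3, 8, 9, 8, 6, 4, 5, 2, 3, 4, 1, 2, 3, 8, 7, 6, 5, 4, 3, 2, 1], 0)),
  (1030, 500, ([5, 4, 3, 8, 9, 8, 6, 4, 5, 2, 3, 4, 1, 2, 3, 8, 7, 6, 5, 4, 3, 2, 1], 0)),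
  (2561, 1, ([4, 1, 2, 3, 8, 9, 8, 5, 2, 3, 4, 1, 2, 3, 8, 7, 6, 5, 4, 3, 2, 1], 0)),
  (1032, 1, ([2, 3, 8, 9, 5, 6, 3, 4, 5, 2, 3, 4, 1, 2, 3, 8, 7, 6, 5, 4, 3, 2, 1], 0)),
  (6556, 1, ([3, 4, 2, 3, 8, 9, 1, 2, 3, 8, 6, 5, 4, 3, 2, 1], 0)),
  (1034, 2, ([1, 2, 3, 8, 9, 5, 6, 4, 5, 2, 3, 4, 1, 2, 3, 8, 7, 6, 5, 4, 3, 2, 1], 0)),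
  (1035, 1, ([4, 2, 3, 8, 9, 5, 6, 4, 5, 2, 3, 4, 1, 2, 3, 8, 7, 6, 5, 4, 3, 2, 1], 0)),
  (1036, 1, ([5, 4, 3, 8, 9, 5, 6, 4, 5, 2, 3, 4, 1, 2, 3, 8, 7, 6, 5, 4, 3, 2, 1], 0)),
  (1391, 1, ([8, 9, 2, 3, 4, 1, 2, 3, 8, 7, 6, 5, 4, 3, 2, 1], 0)),
  (5763, 1, ([6, 5, 3, 4, 2, 3, 8, 9, 5, 3, 4, 1, 2, 3, 8, 6, 5, 4, 3, 2, 1], 0)),
  (5382, 1, ([8, 6, 5, 3, 4, 2, 3, 8, 9, 4, 1, 2, 3, 8, 7, 6, 5, 4, 3, 2, 1], 0)),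
  (9772, 2, ([5, 2, 3, 4, 1, 2, 3, 8, 9, 2, 3, 4, 1, 2, 3, 8, 6, 5, 4, 3, 2, 1], 0)),
  (2332, 1, ([1, 2, 3, 8, 9, 4, 1, 2, 3, 8, 7, 6, 5, 4, 3, 2, 1], 0)),
  (1046, 501, ([8, 9, 8, 3, 4, 1, 2, 3, 8, 6, 5, 4, 3, 2, 1], 0)),
  (1049, 501, ([8, 9, 3, 4, 1, 2, 3, 8, 7, 6, 5, 4, 3, 2, 1], 0)),
  (1052, 1, ([8, 9, 5, 3, 4, 1, 2, 3, 8, 6, 5, 4, 3, 2, 1], 0)),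
  (1053, 1, ([3, 8, 9, 8, 5, 3, 4, 1, 2, 3, 8, 6, 5, 4, 3, 2, 1], 0)),
  (1056, 1, ([2, 3, 8, 9, 8, 5, 3, 4, 1, 2, 3, 8, 7, 6, 5, 4, 3, 2, 1], 0)),
  (1266, 1, ([4, 3, 8, 9, 5, 4, 2, 3, 8, 7, 6, 5, 4, 3, 2], 1)),
  (1059, 1, ([2, 3, 8, 9, 6, 5, 3, 4, 1, 2, 3, 8, 7, 6, 5, 4, 3, 2, 1], 0)),
  (3159, 1, ([3, 8, 9, 2, 3, 8, 5, 4, 3, 2], 1)),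
  (1061, 1, ([1, 2, 3, 8, 9, 8, 6, 5, 3, 4, 1, 2, 3, 8, 7, 6, 5, 4, 3, 2, 1], 0)),
  (1062, 1, ([4, 2, 3, 8, 9, 8, 6, 5, 3, 4, 1, 2, 3, 8, 7, 6, 5, 4, 3, 2, 1], 0)),
  (1254, 501, ([3, 8, 9, 4, 2, 3, 8, 7, 6, 5, 4, 3, 2], 1)),
  (1065, 1, ([2, 3, 8, 9, 8, 4, 5, 3, 4, 1, 2, 3, 8, 6, 5, 4, 3, 2, 1], 0)),
  (1066, 1, ([4, 3, 8, 9, 8, 4, 5, 3, 4, 1, 2, 3, 8, 6, 5, 4, 3, 2, 1], 0)),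
  (1069, 2, ([1, 2, 3, 8, 9, 8, 4, 5, 3, 4, 1, 2, 3, 8, 7, 6, 5, 4, 3, 2, 1], 0)),
  (1070, 1, ([4, 2, 3, 8, 9, 8, 4, 5, 3, 4, 1, 2, 3, 8, 7, 6, 5, 4, 3, 2, 1], 0)),
  (1072, 1, ([1, 2, 3, 8, 9, 6, 4, 5, 3, 4, 1, 2, 3, 8, 7, 6, 5, 4, 3, 2, 1], 0)),
  (1073, 1, ([4, 2, 3, 8, 9, 6, 4, 5, 3, 4, 1, 2, 3, 8, 7, 6, 5, 4, 3, 2, 1], 0)),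
  (1076, 1, ([4, 1, 2, 3, 8, 9, 8, 6, 4, 5, 3, 4, 1, 2, 3, 8, 7, 6, 5, 4, 3, 2, 1], 0)),
  (1077, 1, ([3, 4, 2, 3, 8, 9, 8, 6, 4, 5, 3, 4, 1, 2, 3, 8, 7, 6, 5, 4, 3, 2, 1], 0)),
  (1078, 1, ([5, 4, 2, 3, 8, 9, 8, 6, 4, 5, 3, 4, 1, 2, 3, 8, 7, 6, 5, 4, 3, 2, 1], 0)),
  (4281, 1, ([4, 2, 3, 8, 9, 2, 3, 4, 1, 2, 3, 8, 6, 5, 4, 3, 2, 1], 0)),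
  (1082, 2, ([3, 4, 2, 3, 8, 9, 5, 6, 4, 5, 3, 4, 1, 2, 3, 8, 7, 6, 5, 4, 3, 2, 1], 0)),
  (9780, 1, ([8, 5, 2, 3, 4, 1, 2, 3, 8, 9, 3, 4, 1, 2, 3, 8, 6, 5, 4, 3, 2, 1], 0)),
  (3537, 1, ([4, 1, 2, 3, 8, 9, 3, 4, 1, 2, 3, 8, 7, 6, 5, 4, 3, 2, 1], 0)),
  (1086, 2, ([3, 4, 1, 2, 3, 8, 9, 8, 5, 6, 4, 5, 3, 4, 1, 2, 3, 8, 7, 6, 5, 4, 3, 2, 1], 0)),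
  (8070, 1, ([8, 5, 3, 4, 2, 3, 8, 9, 2, 3, 4, 1, 2, 3, 8, 6, 5, 4, 3, 2, 1], 0)),
  (1088, 1, ([5, 3, 4, 2, 3, 8, 9, 8, 5, 6, 4, 5, 3, 4, 1, 2, 3, 8, 7, 6, 5, 4, 3, 2, 1], 0)),
  (4277, 2, ([1, 2, 3, 8, 9, 8, 2, 3, 4, 1, 2, 3, 8, 5, 4, 3, 2, 1], 0)),
  (2497, 1, ([7, 6, 5, 3, 4, 2, 3, 8, 9, 5, 4, 2, 3, 8, 6, 5, 4, 3, 2], 1)),
  (1092, 1, ([2, 3, 4, 0, 1, 2, 3, 8, 9, 5, 4, 3, 8, 6, 5, 4, 3, 2, 1], 0)),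
  (5267, 500, ([7, 6, 5, 4, 3, 8, 9, 4, 2, 3, 8, 6, 5, 4, 3, 2], 1)),
  (3322, 1, ([5, 3, 4, 2, 3, 8, 9, 1, 2, 3, 8, 4, 3, 2, 1], 0)),
  (2144, 1, ([2, 3, 8, 9, 8, 3, 4, 2, 3, 8, 5, 4, 3, 2, 1], 0)),
  (5708, 1, ([3, 4, 1, 2, 3, 8, 9, 3, 4, 1, 2, 3, 8, 6, 5, 4, 3, 2, 1], 0)),
  (1100, 500, ([2, 3, 4, 1, 2, 3, 8, 9, 6, 5, 4, 2, 3, 8, 7, 6, 5, 4, 3, 2, 1], 0)),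
  (2362, 1, ([5, 4, 2, 3, 8, 9, 8, 3, 4, 2, 3, 8, 6, 5, 4, 3, 2], 1)),
  (1102, 1, ([5, 2, 3, 4, 0, 1, 2, 3, 8, 9, 6, 5, 4, 2, 3, 8, 7, 6, 5, 4, 3, 2, 1], 0)),
  (5303, 1, ([6, 5, 4, 2, 3, 8, 9, 4, 1, 2, 3, 8, 5, 4, 3, 2, 1], 0)),
  (4860, 1, ([8, 5, 3, 4, 1, 2, 3, 8, 9, 5, 4, 1, 2, 3, 8, 7, 6, 5, 4, 3, 2, 1], 0)),
  (1108, 1, ([4, 5, 2, 3, 4, 1, 2, 3, 8, 9, 6, 5, 4, 2, 3, 8, 7, 6, 5, 4, 3, 2, 1], 0)),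
  (1109, 501, ([3, 4, 5, 2, 3, 4, 0, 1, 2, 3, 8, 9, 6, 5, 4, 2, 3, 8, 7, 6, 5, 4, 3, 2, 1], 0)),
  (3097, 501, ([6, 5, 4, 0, 1, 2, 3, 8, 9, 4, 2, 3, 8, 6, 5, 4, 3, 2], 1)),
  (1111, 1, ([6, 4, 5, 2, 3, 4, 0, 1, 2, 3, 8, 9, 6, 5, 4, 2, 3, 8, 7, 6, 5, 4, 3, 2, 1], 0)),
  (7883, 1, ([6, 5, 2, 3, 4, 0, 1, 2, 3, 8, 9, 4, 5, 3, 4, 2, 3, 8, 6, 5, 4, 3, 2, 1], 0)),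
  (5163, 1, ([5, 2, 3, 4, 0, 1, 2, 3, 8, 9, 6, 5, 2, 3, 4, 1, 2, 3, 8, 7, 6, 5, 4, 3, 2, 1], 0)),
  (6330, 1, ([4, 5, 2, 3, 4, 1, 2, 3, 8, 9, 5, 3, 4, 2, 3, 8, 7, 6, 5, 4, 3, 2, 1], 0)),
  (5934, 1, ([3, 8, 2, 3, 4, 1, 2, 3, 8, 9, 4, 5, 3, 4, 1, 2, 3, 8, 7, 6, 5, 4, 3, 2, 1], 0)),
  (4287, 1, ([8, 5, 3, 4, 2, 3, 8, 9, 1, 2, 3, 8, 6, 5, 4, 3, 2, 1], 0)),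
  (6706, 1, ([7, 6, 5, 3, 4, 2, 3, 8, 9, 5, 2, 3, 4, 1, 2, 3, 8, 7, 6, 5, 4, 3, 2, 1], 0)),
  (2515, 500, ([5, 4, 1, 2, 3, 8, 9, 4, 2, 3, 8, 5, 4, 3, 2], 1)),
  (2103, 1, ([4, 5, 2, 3, 4, 0, 1, 2, 3, 8, 9, 6, 5, 4, 1, 2, 3, 8, 7, 6, 5, 4, 3, 2, 1], 0)),
  (4250, 1, ([7, 6, 5, 3, 4, 2, 3, 8, 9, 4, 1, 2, 3, 8, 6, 5, 4, 3, 2, 1], 0)),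
  (1133, 1, ([8, 9, 4, 2, 3, 8, 7, 6, 5, 4, 3, 2, 1], 0)),
  (1135, 1, ([2, 3, 8, 9, 8, 3, 4, 2, 3, 8, 7, 6, 5, 4, 3, 2, 1], 0)),
  (3515, 2, ([8, 9, 1, 2, 3, 8, 5, 4, 3, 2, 1], 0)),
  (1139, 1, ([3, 8, 9, 5, 3, 4, 2, 3, 8, 6, 5, 4, 3, 2, 1], 0)),
  (1141, 1, ([4, 3, 8, 9, 8, 5, 3, 4, 2, 3, 8, 6, 5, 4, 3, 2, 1], 0)),
  (1719, 1, ([2, 3, 8, 9, 8, 3, 4, 2, 3, 8, 5, 4, 3, 2], 1)),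
  (6630, 500, ([8, 3, 4, 2, 3, 8, 9, 3, 4, 1, 2, 3, 8, 5, 4, 3, 2, 1], 0)),
  (1148, 1, ([4, 3, 8, 9, 6, 5, 4, 2, 3, 8, 7, 6, 5, 4, 3, 2, 1], 0)),
  (1149, 501, ([1, 2, 3, 8, 9, 6, 5, 3, 4, 2, 3, 8, 7, 6, 5, 4, 3, 2, 1], 0)),
  (2678, 1, ([4, 3, 8, 9, 4, 1, 2, 3, 8, 7, 6, 5, 4, 3, 2, 1], 0)),
  (3181, 1, ([5, 4, 3, 8, 9, 2, 3, 8, 7, 6, 5, 4, 3, 2], 1)),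
  (1704, 500, ([1, 2, 3, 8, 9, 4, 2, 3, 8, 7, 6, 5, 4, 3, 2, 1], 0)),
  (3170, 500, ([5, 4, 3, 8, 9, 4, 2, 3, 8, 6, 5, 4, 3, 2], 1)),
  (2513, 500, ([2, 3, 8, 9, 4, 2, 3, 8, 5, 4, 3, 2, 1], 0)),
  (1365, 501, ([1, 2, 3, 8, 9, 3, 4, 2, 3, 8, 6, 5, 4, 3, 2], 1)),
  (2298, 1, ([6, 5, 3, 4, 1, 2, 3, 8, 9, 5, 4, 2, 3, 8, 7, 6, 5, 4, 3, 2, 1], 0)),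
  (1181, 500, ([7, 6, 5, 4, 3, 8, 9, 8, 6, 4, 5, 3, 4, 2, 3, 8, 7, 6, 5, 4, 3, 2, 1], 0)),
  (1184, 1, ([5, 4, 1, 2, 3, 8, 9, 5, 6, 4, 5, 3, 4, 2, 3, 8, 7, 6, 5, 4, 3, 2, 1], 0)),
  (2431, 1, ([4, 5, 3, 4, 2, 3, 8, 9, 4, 5, 3, 4, 2, 3, 8, 7, 6, 5, 4, 3, 2], 1)),
  (5731, 500, ([7, 6, 5, 4, 3, 8, 9, 4, 1, 2, 3, 8, 7, 6, 5, 4, 3, 2, 1], 0)),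
  (2912, 1, ([1, 2, 3, 8, 9, 3, 4, 2, 3, 8, 6, 5, 4, 3, 2, 1], 0)),
  (1922, 1, ([5, 4, 3, 8, 9, 4, 5, 2, 3, 4, 1, 2, 3, 8, 7, 6, 5, 4, 3, 2, 1], 0)),
  (2672, 1, ([4, 3, 8, 9, 3, 4, 1, 2, 3, 8, 6, 5, 4, 3, 2, 1], 0)),
  (1971, 1, ([8, 9, 3, 4, 1, 2, 3, 8, 5, 4, 3, 2, 1], 0)),
  (2919, 1, ([6, 5, 4, 3, 8, 9, 8, 3, 4, 2, 3, 8, 6, 5, 4, 3, 2, 1], 0)),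
  (6294, 1, ([6, 5, 4, 3, 8, 9, 4, 2, 3, 8, 5, 4, 3, 2, 1], 0)),
  (2512, 1, ([4, 2, 3, 8, 9, 4, 2, 3, 8, 6, 5, 4, 3, 2, 1], 0)),
  (1207, 1, ([6, 5, 3, 4, 0, 1, 2, 3, 8, 9, 5, 4, 2, 3, 8, 7, 6, 5, 4, 3, 2], 1)),
  (1211, 500, ([4, 0, 1, 2, 3, 8, 9, 6, 5, 4, 1, 2, 3, 8, 7, 6, 5, 4, 3, 2, 1], 0)),
  (1212, 1, ([5, 4, 0, 1, 2, 3, 8, 9, 6, 5, 4, 2, 3, 8, 7, 6, 5, 4, 3, 2, 1], 0)),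
  (1795, 500, ([6, 5, 3, 4, 2, 3, 8, 9, 8, 4, 5, 3, 4, 2, 3, 8, 7, 6, 5, 4, 3, 2], 1)),
  (1215, 1, ([6, 5, 4, 0, 1, 2, 3, 8, 9, 6, 5, 4, 2, 3, 8, 7, 6, 5, 4, 3, 2], 1)),
  (4978, 500, ([6, 5, 4, 3, 8, 9, 4, 2, 3, 8, 6, 5, 4, 3, 2, 1], 0)),
  (3218, 1, ([8, 6, 5, 3, 4, 2, 3, 8, 9, 8, 5, 3, 4, 2, 3, 8, 7, 6, 5, 4, 3, 2], 1)),
  (1891, 2, ([8, 9, 2, 3, 4, 1, 2, 3, 8, 6, 5, 4, 3, 2, 1], 0)),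
  (1235, 1, ([1, 2, 3, 8, 9, 6, 5, 4, 1, 2, 3, 8, 7, 6, 5, 4, 3, 2, 1], 0)),
  (1239, 500, ([9, 4, 2, 3, 8, 5, 4, 3, 2], 1)),
  (1241, 500, ([3, 8, 9, 8, 3, 4, 2, 3, 8, 5, 4, 3, 2], 1)),
  (1249, 1, ([4, 3, 8, 9, 8, 3, 4, 2, 3, 8, 6, 5, 4, 3, 2], 1)),
  (1251, 1, ([8, 7, 6, 5, 4, 3, 2], 1)),
  (1260, 500, ([3, 8, 9, 5, 4, 2, 3, 8, 6, 5, 4, 3, 2], 1)),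
  (1261, 1, ([2, 3, 8, 9, 5, 3, 4, 2, 3, 8, 6, 5, 4, 3, 2], 1)),
  (3180, 2, ([7, 6, 5, 4], 3)),
  (2906, 500, ([4, 2, 3, 8, 9, 8, 3, 4, 2, 3, 8, 5, 4, 3, 2, 1], 0)),
  (1579, 500, ([3, 8, 9, 5, 4, 2, 3, 8, 6, 5, 4, 3, 2, 1], 0)),
  (1270, 1, ([3, 4, 2, 3, 8, 9, 8, 5, 3, 4, 2, 3, 8, 7, 6, 5, 4, 3, 2], 1)),
  (1272, 500, ([6, 5, 4, 3, 8, 9, 8, 5, 3, 4, 2, 3, 8, 7, 6, 5, 4, 3, 2], 1)),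
  (1274, 1, ([3, 4, 2, 3, 8, 9, 6, 5, 3, 4, 2, 3, 8, 7, 6, 5, 4, 3, 2], 1)),
  (1841, 1, ([5, 3, 4, 2, 3, 8, 9, 5, 4, 2, 3, 8, 6, 5, 4, 3, 2, 1], 0)),
  (1451, 1, ([4, 3, 8, 9, 8, 3, 4, 1, 2, 3, 8, 7, 6, 5, 4, 3, 2, 1], 0)),
  (2921, 500, ([5, 4, 3, 8, 9, 4, 2, 3, 8, 7, 6, 5, 4, 3, 2, 1], 0)),
  (1294, 1, ([5, 4, 2, 3, 8, 9, 4, 5, 3, 4, 2, 3, 8, 7, 6, 5, 4, 3, 2], 1)),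
  (3317, 500, ([5, 4, 2, 3, 8, 9, 4, 2, 3, 8, 5, 4, 3, 2], 1)),
  (1302, 1, ([7, 6, 5, 4, 3, 8, 9, 8, 4, 5, 3, 4, 2, 3, 8, 7, 6, 5, 4, 3, 2], 1)),
  (4587, 1, ([7, 6, 5, 4, 3, 8, 9, 5, 4, 1, 2, 3, 8, 7, 6, 5, 4, 3, 2, 1], 0)),
  (6629, 1, ([8, 3, 4, 1, 2, 3, 8, 9, 4, 1, 2, 3, 8, 5, 4, 3, 2, 1], 0)),
  (1312, 1, ([8, 5, 3, 4, 2, 3, 8, 9, 6, 5, 3, 4, 2, 3, 8, 7, 6, 5, 4, 3, 2], 1)),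
  (2958, 1, ([6, 5, 3, 4, 2, 3, 8, 9, 8, 5, 3, 4, 2, 3, 8, 7, 6, 5, 4, 3, 2, 1], 0)),
  (3026, 1, ([6, 5, 3, 4, 0, 1, 2, 3, 8, 9, 5, 3, 4, 2, 3, 8, 7, 6, 5, 4, 3, 2], 1)),
  (1321, 1, ([5, 3, 4, 1, 2, 3, 8, 9, 5, 6, 4, 5, 3, 4, 2, 3, 8, 7, 6, 5, 4, 3, 2], 1)),
  (1324, 1, ([4, 5, 3, 4, 2, 3, 8, 9, 5, 6, 4, 5, 3, 4, 2, 3, 8, 7, 6, 5, 4, 3, 2], 1)),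
  (2932, 1, ([7, 6, 5, 4, 3, 8, 9, 8, 3, 4, 2, 3, 8, 7, 6, 5, 4, 3, 2, 1], 0)),
  (1580, 1, ([2, 3, 8, 9, 5, 3, 4, 2, 3, 8, 6, 5, 4, 3, 2, 1], 0)),
  (1367, 1, ([4, 2, 3, 8, 9, 4, 2, 3, 8, 7, 6, 5, 4, 3, 2], 1)),
  (4545, 1, ([5, 4, 2, 3, 8, 9, 4, 1, 2, 3, 8, 7, 6, 5, 4, 3, 2, 1], 0)),
  (4969, 2, ([5, 4, 3, 8, 9, 4, 2, 3, 8, 5, 4, 3, 2, 1], 0)),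
  (1339, 1, ([5, 3, 4, 2, 3, 8, 9, 5, 4, 2, 3, 8, 6, 5, 4, 3, 2], 1)),
  (4988, 500, ([6, 5, 4, 0, 1, 2, 3, 8, 9, 4, 2, 3, 8, 5, 4, 3, 2, 1], 0)),
  (1720, 1, ([4, 3, 8, 9, 8, 3, 4, 2, 3, 8, 5, 4, 3, 2], 1)),
  (3178, 1, ([6, 5, 4, 2, 3, 8, 9, 8, 3, 4, 2, 3, 8, 6, 5, 4, 3, 2], 1)),
  (1348, 1, ([5, 4, 1, 2, 3, 8, 9, 4, 2, 3, 8, 7, 6, 5, 4, 3, 2], 1)),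
  (1361, 500, ([2, 3, 8, 9, 4, 2, 3, 8, 6, 5, 4, 3, 2], 1)),
  (1362, 1, ([2, 3, 8, 9, 4, 3, 8, 5, 4, 3, 2], 1)),
  (1372, 500, ([8, 9, 4, 3, 8, 5, 4, 3, 2], 1)),
  (1382, 1, ([8, 9, 3, 8, 2, 3, 4, 1, 2, 3, 8, 7, 6, 5, 4, 3, 2, 1], 0)),
  (1383, 1, ([8, 9, 3, 8, 5, 2, 3, 4, 1, 2, 3, 8, 6, 5, 4, 3, 2, 1], 0)),
  (1384, 500, ([3, 8, 9, 3, 8, 5, 2, 3, 4, 1, 2, 3, 8, 7, 6, 5, 4, 3, 2, 1], 0)),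
  (1385, 1, ([2, 3, 8, 9, 3, 8, 6, 5, 2, 3, 4, 1, 2, 3, 8, 7, 6, 5, 4, 3, 2, 1], 0)),
  (1390, 1, ([8, 9, 8, 2, 3, 4, 1, 2, 3, 8, 6, 5, 4, 3, 2, 1], 0)),
  (1440, 500, ([4, 1, 2, 3, 8, 5, 4, 3, 2, 1], 0)),
  (1393, 1, ([8, 9, 5, 2, 3, 4, 1, 2, 3, 8, 6, 5, 4, 3, 2, 1], 0)),
  (1395, 1, ([3, 8, 9, 5, 2, 3, 4, 1, 2, 3, 8, 7, 6, 5, 4, 3, 2, 1], 0)),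
  (1397, 2, ([4, 3, 8, 9, 8, 5, 2, 3, 4, 1, 2, 3, 8, 7, 6, 5, 4, 3, 2, 1], 0)),
  (1399, 1, ([4, 3, 8, 9, 6, 5, 2, 3, 4, 1, 2, 3, 8, 7, 6, 5, 4, 3, 2, 1], 0)),
  (4549, 1, ([5, 3, 4, 2, 3, 8, 9, 3, 4, 1, 2, 3, 8, 7, 6, 5, 4, 3, 2, 1], 0)),
  (6300, 1, ([2, 3, 4, 1, 2, 3, 8, 9, 3, 4, 2, 3, 8, 6, 5, 4, 3, 2, 1], 0)),
  (3533, 2, ([2, 3, 8, 9, 1, 2, 3, 8, 7, 6, 5, 4, 3, 2, 1], 0)),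
  (1404, 1, ([3, 8, 9, 4, 5, 2, 3, 4, 1, 2, 3, 8, 6, 5, 4, 3, 2, 1], 0)),
  (1405, 1, ([2, 3, 8, 9, 8, 4, 5, 2, 3, 4, 1, 2, 3, 8, 6, 5, 4, 3, 2, 1], 0)),
  (1406, 1, ([4, 3, 8, 9, 8, 4, 5, 2, 3, 4, 1, 2, 3, 8, 6, 5, 4, 3, 2, 1], 0)),
  (5700, 500, ([5, 3, 4, 2, 3, 8, 9, 8, 3, 4, 1, 2, 3, 8, 5, 4, 3, 2, 1], 0)),
  (2665, 1, ([8, 9, 4, 1, 2, 3, 8, 5, 4, 3, 2, 1], 0)),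
  (1409, 1, ([4, 3, 8, 9, 4, 5, 2, 3, 4, 1, 2, 3, 8, 7, 6, 5, 4, 3, 2, 1], 0)),
  (4520, 1, ([4, 2, 3, 8, 9, 3, 4, 1, 2, 3, 8, 5, 4, 3, 2, 1], 0)),
  (1411, 1, ([4, 2, 3, 8, 9, 8, 4, 5, 2, 3, 4, 1, 2, 3, 8, 7, 6, 5, 4, 3, 2, 1], 0)),
  (2019, 1, ([3, 4, 2, 3, 8, 9, 8, 4, 5, 3, 4, 1, 2, 3, 8, 6, 5, 4, 3, 2, 1], 0)),
  (1413, 501, ([2, 3, 8, 9, 6, 3, 4, 5, 2, 3, 4, 1, 2, 3, 8, 7, 6, 5, 4, 3, 2, 1], 0)),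
  (1414, 1, ([4, 3, 8, 9, 6, 3, 4, 5, 2, 3, 4, 1, 2, 3, 8, 7, 6, 5, 4, 3, 2, 1], 0)),
  (1415, 501, ([1, 2, 3, 8, 9, 6, 4, 5, 2, 3, 4, 1, 2, 3, 8, 7, 6, 5, 4, 3, 2, 1], 0)),
  (1416, 1, ([4, 2, 3, 8, 9, 6, 4, 5, 2, 3, 4, 1, 2, 3, 8, 7, 6, 5, 4, 3, 2, 1], 0)),
  (1417, 500, ([5, 4, 3, 8, 9, 6, 4, 5, 2, 3, 4, 1, 2, 3, 8, 7, 6, 5, 4, 3, 2, 1], 0)),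
  (1419, 1, ([4, 1, 2, 3, 8, 9, 8, 6, 4, 5, 2, 3, 4, 1, 2, 3, 8, 7, 6, 5, 4, 3, 2, 1], 0)),
  (1420, 1, ([3, 4, 2, 3, 8, 9, 8, 6, 4, 5, 2, 3, 4, 1, 2, 3, 8, 7, 6, 5, 4, 3, 2, 1], 0)),
  (1421, 1, ([5, 4, 2, 3, 8, 9, 8, 6, 4, 5, 2, 3, 4, 1, 2, 3, 8, 7, 6, 5, 4, 3, 2, 1], 0)),
  (4182, 2, ([7, 6, 5, 4, 1, 2, 3, 8, 9, 4, 5, 3, 4, 2, 3, 8, 6, 5, 4, 3, 2], 1)),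
  (1424, 1, ([4, 3, 8, 9, 4, 5, 6, 3, 4, 5, 2, 3, 4, 1, 2, 3, 8, 7, 6, 5, 4, 3, 2, 1], 0)),
  (1425, 1, ([1, 2, 3, 8, 9, 5, 6, 3, 4, 5, 2, 3, 4, 1, 2, 3, 8, 7, 6, 5, 4, 3, 2, 1], 0)),
  (5305, 500, ([5, 3, 4, 2, 3, 8, 9, 1, 2, 3, 8, 6, 5, 4, 3, 2, 1], 0)),
  (6626, 500, ([9, 8, 3, 4, 2, 3, 8, 9, 1, 2, 3, 8, 6, 5, 4, 3, 2, 1], 0)),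
  (3526, 1, ([4, 2, 3, 8, 9, 3, 4, 1, 2, 3, 8, 6, 5, 4, 3, 2, 1], 0)),
  (1430, 2, ([3, 4, 2, 3, 8, 9, 5, 6, 4, 5, 2, 3, 4, 1, 2, 3, 8, 7, 6, 5, 4, 3, 2, 1], 0)),
  (1431, 501, ([5, 4, 2, 3, 8, 9, 5, 6, 4, 5, 2, 3, 4, 1, 2, 3, 8, 7, 6, 5, 4, 3, 2, 1], 0)),
  (3519, 1, ([1, 2, 3, 8, 9, 8, 3, 4, 1, 2, 3, 8, 5, 4, 3, 2, 1], 0)),
  (4288, 1, ([4, 1, 2, 3, 8, 9, 2, 3, 4, 1, 2, 3, 8, 7, 6, 5, 4, 3, 2, 1], 0)),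
  (1998, 2, ([3, 4, 2, 3, 8, 9, 8, 5, 3, 4, 1, 2, 3, 8, 7, 6, 5, 4, 3, 2, 1], 0)),
  (7196, 501, ([9, 8, 6, 5, 3, 4, 2, 3, 8, 9, 8, 5, 3, 4, 1, 2, 3, 8, 6, 5, 4, 3, 2, 1], 0)),
  (1436, 1, ([5, 3, 4, 2, 3, 8, 9, 8, 5, 6, 4, 5, 2, 3, 4, 1, 2, 3, 8, 7, 6, 5, 4, 3, 2, 1], 0)),
  (5208, 1, ([5, 4, 0, 1, 2, 3, 8, 9, 3, 4, 1, 2, 3, 8, 6, 5, 4, 3, 2, 1], 0)),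
  (2546, 1, ([4, 3, 8, 9, 8, 2, 3, 4, 1, 2, 3, 8, 6, 5, 4, 3, 2, 1], 0))]

/-- Representatives, part 4. -/
def reps11_4 : List (ℕ × ℕ × (List ℕ × ℕ)) := [(4965, 1, ([4, 3, 2, 1], 0)),
  (1445, 1, ([8, 9, 3, 4, 1, 2, 3, 8, 6, 5, 4, 3, 2, 1], 0)),
  (1450, 1, ([2, 3, 8, 9, 8, 3, 4, 1, 2, 3, 8, 7, 6, 5, 4, 3, 2, 1], 0)),
  (1452, 1, ([8, 9, 5, 4, 1, 2, 3, 8, 6, 5, 4, 3, 2, 1], 0)),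
  (1454, 1, ([2, 3, 8, 9, 8, 5, 3, 4, 1, 2, 3, 8, 6, 5, 4, 3, 2, 1], 0)),
  (4139, 1, ([5, 4, 3, 8, 9, 4, 2, 3, 8, 5, 4, 3, 2], 1)),
  (1457, 1, ([2, 3, 8, 9, 5, 3, 4, 1, 2, 3, 8, 7, 6, 5, 4, 3, 2, 1], 0)),
  (2320, 1, ([1, 2, 3, 8, 9, 5, 4, 1, 2, 3, 8, 6, 5, 4, 3, 2, 1], 0)),
  (1460, 1, ([4, 2, 3, 8, 9, 8, 5, 3, 4, 1, 2, 3, 8, 7, 6, 5, 4, 3, 2, 1], 0)),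
  (1461, 500, ([5, 4, 3, 8, 9, 8, 5, 3, 4, 1, 2, 3, 8, 7, 6, 5, 4, 3, 2, 1], 0)),
  (1465, 1, ([4, 2, 3, 8, 9, 6, 5, 3, 4, 1, 2, 3, 8, 7, 6, 5, 4, 3, 2, 1], 0)),
  (1469, 3, ([3, 4, 2, 3, 8, 9, 8, 6, 5, 3, 4, 1, 2, 3, 8, 7, 6, 5, 4, 3, 2, 1], 0)),
  (1470, 1, ([5, 4, 2, 3, 8, 9, 8, 6, 5, 3, 4, 1, 2, 3, 8, 7, 6, 5, 4, 3, 2, 1], 0)),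
  (4275, 1, ([2, 3, 8, 9, 2, 3, 4, 1, 2, 3, 8, 5, 4, 3, 2, 1], 0)),
  (1473, 1, ([4, 3, 8, 9, 4, 5, 3, 4, 1, 2, 3, 8, 6, 5, 4, 3, 2, 1], 0)),
  (1475, 1, ([4, 2, 3, 8, 9, 8, 4, 5, 3, 4, 1, 2, 3, 8, 6, 5, 4, 3, 2, 1], 0)),
  (1476, 1, ([5, 4, 3, 8, 9, 8, 4, 5, 3, 4, 1, 2, 3, 8, 6, 5, 4, 3, 2, 1], 0)),
  (1477, 4, ([1, 2, 3, 8, 9, 4, 5, 3, 4, 1, 2, 3, 8, 7, 6, 5, 4, 3, 2, 1], 0)),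
  (1478, 1, ([4, 2, 3, 8, 9, 4, 5, 3, 4, 1, 2, 3, 8, 7, 6, 5, 4, 3, 2, 1], 0)),
  (1481, 1, ([4, 1, 2, 3, 8, 9, 8, 4, 5, 3, 4, 1, 2, 3, 8, 7, 6, 5, 4, 3, 2, 1], 0)),
  (1482, 1, ([3, 4, 2, 3, 8, 9, 8, 4, 5, 3, 4, 1, 2, 3, 8, 7, 6, 5, 4, 3, 2, 1], 0)),
  (1483, 1, ([5, 4, 2, 3, 8, 9, 8, 4, 5, 3, 4, 1, 2, 3, 8, 7, 6, 5, 4, 3, 2, 1], 0)),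
  (1486, 1, ([4, 1, 2, 3, 8, 9, 6, 4, 5, 3, 4, 1, 2, 3, 8, 7, 6, 5, 4, 3, 2, 1], 0)),
  (1487, 1, ([3, 4, 2, 3, 8, 9, 6, 4, 5, 3, 4, 1, 2, 3, 8, 7, 6, 5, 4, 3, 2, 1], 0)),
  (1488, 1, ([5, 4, 2, 3, 8, 9, 6, 4, 5, 3, 4, 1, 2, 3, 8, 7, 6, 5, 4, 3, 2, 1], 0)),
  (1492, 1, ([5, 4, 1, 2, 3, 8, 9, 8, 6, 4, 5, 3, 4, 1, 2, 3, 8, 7, 6, 5, 4, 3, 2, 1], 0)),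
  (1493, 1, ([5, 3, 4, 2, 3, 8, 9, 8, 6, 4, 5, 3, 4, 1, 2, 3, 8, 7, 6, 5, 4, 3, 2, 1], 0)),
  (1498, 2, ([3, 4, 1, 2, 3, 8, 9, 5, 6, 4, 5, 3, 4, 1, 2, 3, 8, 7, 6, 5, 4, 3, 2, 1], 0)),
  (1499, 1, ([5, 4, 1, 2, 3, 8, 9, 5, 6, 4, 5, 3, 4, 1, 2, 3, 8, 7, 6, 5, 4, 3, 2, 1], 0)),
  (6641, 1, ([5, 4, 0, 1, 2, 3, 8, 9, 8, 2, 3, 4, 1, 2, 3, 8, 6, 5, 4, 3, 2, 1], 0)),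
  (2548, 1, ([4, 3, 8, 9, 2, 3, 4, 1, 2, 3, 8, 7, 6, 5, 4, 3, 2, 1], 0)),
  (5370, 1, ([6, 5, 4, 2, 3, 8, 9, 2, 3, 4, 1, 2, 3, 8, 7, 6, 5, 4, 3, 2, 1], 0)),
  (1507, 1, ([5, 3, 4, 1, 2, 3, 8, 9, 8, 5, 6, 4, 5, 3, 4, 1, 2, 3, 8, 7, 6, 5, 4, 3, 2, 1], 0)),
  (2526, 2, ([6, 5, 3, 4, 2, 3, 8, 9, 1, 2, 3, 8, 4, 3, 2, 1], 0)),
  (1510, 1, ([4, 5, 3, 4, 2, 3, 8, 9, 8, 5, 6, 4, 5, 3, 4, 1, 2, 3, 8, 7, 6, 5, 4, 3, 2, 1], 0)),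
  (5703, 500, ([4, 2, 3, 8, 9, 1, 2, 3, 8, 6, 5, 4, 3, 2, 1], 0)),
  (3377, 1, ([5, 4, 1, 2, 3, 8, 9, 8, 5, 2, 3, 4, 1, 2, 3, 8, 7, 6, 5, 4, 3, 2, 1], 0)),
  (6563, 500, ([5, 3, 4, 2, 3, 8, 9, 1, 2, 3, 8, 7, 6, 5, 4, 3, 2, 1], 0)),
  (3413, 1, ([3, 8, 4, 5, 3, 4, 2, 3, 8, 9, 1, 2, 3, 8, 7, 6, 5, 4, 3, 2, 1], 0)),
  (1524, 1, ([8, 3, 4, 2, 3, 8, 9, 3, 8, 4, 5, 3, 4, 1, 2, 3, 8, 7, 6, 5, 4, 3, 2, 1], 0)),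
  (3741, 1, ([6, 5, 2, 3, 4, 1, 2, 3, 8, 9, 5, 4, 2, 3, 8, 6, 5, 4, 3, 2, 1], 0)),
  (1528, 1, ([5, 2, 3, 4, 1, 2, 3, 8, 9, 6, 5, 4, 2, 3, 8, 7, 6, 5, 4, 3, 2, 1], 0)),
  (1530, 501, ([5, 2, 3, 4, 0, 1, 2, 3, 8, 9, 6, 5, 4, 1, 2, 3, 8, 7, 6, 5, 4, 3, 2, 1], 0)),
  (2710, 1, ([3, 4, 2, 3, 8, 9, 6, 5, 4, 1, 2, 3, 8, 7, 6, 5, 4, 3, 2, 1], 0)),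
  (1532, 1, ([6, 5, 2, 3, 4, 0, 1, 2, 3, 8, 9, 6, 5, 4, 2, 3, 8, 7, 6, 5, 4, 3, 2, 1], 0)),
  (1534, 1, ([6, 5, 3, 4, 2, 3, 8, 9, 3, 8, 6, 4, 5, 3, 4, 1, 2, 3, 8, 7, 6, 5, 4, 3, 2, 1], 0)),
  (1535, 501, ([8, 5, 3, 4, 2, 3, 8, 9, 3, 8, 6, 4, 5, 3, 4, 1, 2, 3, 8, 7, 6, 5, 4, 3, 2, 1], 0)),
  (4608, 1, ([6, 4, 5, 3, 4, 2, 3, 8, 9, 8, 5, 3, 4, 1, 2, 3, 8, 7, 6, 5, 4, 3, 2, 1], 0)),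
  (1537, 1, ([7, 6, 5, 4, 2, 3, 8, 9, 3, 8, 6, 4, 5, 3, 4, 1, 2, 3, 8, 7, 6, 5, 4, 3, 2, 1], 0)),
  (1540, 1, ([6, 4, 5, 2, 3, 4, 1, 2, 3, 8, 9, 6, 5, 4, 2, 3, 8, 7, 6, 5, 4, 3, 2, 1], 0)),
  (10648, 1, ([9, 8, 3, 4, 5, 2, 3, 4, 1, 2, 3, 8, 9, 3, 4, 2, 3, 8, 6, 5, 4, 3, 2, 1], 0)),
  (2005, 1, ([5, 4, 2, 3, 8, 9, 6, 5, 3, 4, 1, 2, 3, 8, 7, 6, 5, 4, 3, 2, 1], 0)),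
  (1544, 1, ([9, 8, 3, 4, 5, 2, 3, 4, 0, 1, 2, 3, 8, 9, 6, 5, 4, 3, 8, 7, 6, 5, 4, 3, 2, 1], 0)),
  (3457, 1, ([4, 3, 8, 2, 3, 4, 1, 2, 3, 8, 9, 6, 5, 4, 1, 2, 3, 8, 7, 6, 5, 4, 3, 2, 1], 0)),
  (8804, 1, ([3, 8, 4, 5, 3, 4, 1, 2, 3, 8, 9, 5, 3, 4, 1, 2, 3, 8, 7, 6, 5, 4, 3, 2, 1], 0)),
  (5010, 501, ([5, 3, 4, 1, 2, 3, 8, 9, 5, 3, 4, 2, 3, 8, 6, 5, 4, 3, 2, 1], 0)),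
  (8129, 1, ([3, 8, 4, 5, 3, 4, 1, 2, 3, 8, 9, 4, 1, 2, 3, 8, 7, 6, 5, 4, 3, 2, 1], 0)),
  (13895, 501, ([9, 8, 6, 4, 5, 2, 3, 4, 1, 2, 3, 8, 9, 5, 3, 4, 1, 2, 3, 8, 6, 5, 4, 3, 2, 1], 0)),
  (5520, 500, ([7, 6, 5, 3, 4, 2, 3, 8, 9, 4, 5, 2, 3, 4, 1, 2, 3, 8, 7, 6, 5, 4, 3, 2, 1], 0)),
  (5797, 1, ([7, 6, 5, 3, 4, 2, 3, 8, 9, 5, 3, 4, 1, 2, 3, 8, 7, 6, 5, 4, 3, 2, 1], 0)),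
  (6652, 1, ([5, 3, 4, 1, 2, 3, 8, 9, 2, 3, 4, 1, 2, 3, 8, 7, 6, 5, 4, 3, 2, 1], 0)),
  (5827, 500, ([7, 6, 5, 3, 4, 2, 3, 8, 9, 6, 5, 4, 1, 2, 3, 8, 7, 6, 5, 4, 3, 2, 1], 0)),
  (3491, 501, ([7, 6, 5, 3, 4, 2, 3, 8, 9, 5, 6, 4, 5, 2, 3, 4, 1, 2, 3, 8, 7, 6, 5, 4, 3, 2, 1], 0)),
  (7140, 1, ([9, 8, 5, 3, 4, 2, 3, 8, 9, 3, 4, 1, 2, 3, 8, 7, 6, 5, 4, 3, 2, 1], 0)),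
  (1567, 500, ([3, 8, 9, 3, 4, 2, 3, 8, 6, 5, 4, 3, 2, 1], 0)),
  (4159, 1, ([7, 6, 5, 4, 3, 8, 9, 5, 4, 2, 3, 8, 6, 5, 4, 3, 2], 1)),
  (5234, 500, ([5, 4, 1, 2, 3, 8, 9, 4, 2, 3, 8, 5, 4, 3, 2, 1], 0)),
  (1585, 1, ([4, 3, 8, 9, 5, 4, 2, 3, 8, 7, 6, 5, 4, 3, 2, 1], 0)),
  (1985, 500, ([3, 8, 9, 5, 4, 1, 2, 3, 8, 6, 5, 4, 3, 2, 1], 0)),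
  (1730, 501, ([5, 4, 3, 8, 9, 8, 3, 4, 2, 3, 8, 6, 5, 4, 3, 2], 1)),
  (3165, 2, ([5, 4, 2, 3, 8, 9, 8, 3, 4, 2, 3, 8, 5, 4, 3, 2], 1)),
  (1594, 500, ([5, 4, 3, 8, 9, 6, 5, 4, 2, 3, 8, 7, 6, 5, 4, 3, 2, 1], 0)),
  (1596, 1, ([3, 4, 2, 3, 8, 9, 6, 5, 3, 4, 2, 3, 8, 7, 6, 5, 4, 3, 2, 1], 0)),
  (2016, 1, ([5, 4, 3, 8, 9, 4, 5, 3, 4, 1, 2, 3, 8, 6, 5, 4, 3, 2, 1], 0)),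
  (3867, 501, ([5, 4, 3, 8, 9, 2, 3, 8, 7, 6, 5, 4, 3, 2, 1], 0)),
  (2495, 1, ([5, 4, 2, 3, 8, 9, 4, 2, 3, 8, 6, 5, 4, 3, 2], 1)),
  (4138, 1, ([4, 3, 8, 9, 2, 3, 8, 5, 4, 3, 2], 1)),
  (1625, 1, ([7, 6, 5, 4, 3, 8, 9, 8, 4, 5, 3, 4, 2, 3, 8, 7, 6, 5, 4, 3, 2, 1], 0)),
  (1631, 1, ([6, 5, 4, 2, 3, 8, 9, 6, 4, 5, 3, 4, 2, 3, 8, 7, 6, 5, 4, 3, 2, 1], 0)),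
  (6658, 1, ([9, 8, 3, 4, 2, 3, 8, 9, 2, 3, 4, 1, 2, 3, 8, 7, 6, 5, 4, 3, 2, 1], 0)),
  (3239, 1, ([7, 6, 5, 4, 2, 3, 8, 9, 4, 5, 3, 4, 2, 3, 8, 6, 5, 4, 3, 2], 1)),
  (1646, 1, ([2, 3, 4, 1, 2, 3, 8, 9, 5, 6, 4, 5, 3, 4, 2, 3, 8, 7, 6, 5, 4, 3, 2, 1], 0)),
  (2168, 1, ([1, 2, 3, 8, 9, 5, 3, 4, 2, 3, 8, 6, 5, 4, 3, 2, 1], 0)),
  (1654, 1, ([2, 3, 8, 4, 5, 3, 4, 1, 2, 3, 8, 9, 6, 5, 4, 3, 8, 7, 6, 5, 4, 3, 2, 1], 0)),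
  (1868, 1, ([4, 2, 3, 8, 9, 4, 2, 3, 8, 7, 6, 5, 4, 3, 2, 1], 0)),
  (2592, 1, ([5, 4, 2, 3, 8, 9, 4, 5, 2, 3, 4, 1, 2, 3, 8, 7, 6, 5, 4, 3, 2, 1], 0)),
  (2517, 501, ([3, 4, 1, 2, 3, 8, 9, 3, 4, 2, 3, 8, 6, 5, 4, 3, 2], 1)),
  (1668, 501, ([6, 5, 3, 4, 0, 1, 2, 3, 8, 9, 5, 4, 2, 3, 8, 6, 5, 4, 3, 2], 1)),
  (2145, 1, ([4, 3, 8, 9, 8, 3, 4, 2, 3, 8, 5, 4, 3, 2, 1], 0)),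
  (1677, 500, ([6, 5, 4, 0, 1, 2, 3, 8, 9, 5, 4, 2, 3, 8, 7, 6, 5, 4, 3, 2], 1)),
  (1681, 500, ([4, 1, 2, 3, 8, 9, 6, 5, 4, 1, 2, 3, 8, 7, 6, 5, 4, 3, 2, 1], 0)),
  (1684, 1, ([5, 4, 0, 1, 2, 3, 8, 9, 6, 5, 4, 1, 2, 3, 8, 7, 6, 5, 4, 3, 2, 1], 0)),
  (1703, 1, ([1, 2, 3, 8, 9, 5, 4, 1, 2, 3, 8, 7, 6, 5, 4, 3, 2, 1], 0)),
  (1872, 501, ([8, 9, 3, 8, 5, 4, 3, 2], 1)),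
  (7834, 1, ([2, 1], 0)),
  (1717, 1, ([8, 9, 4, 2, 3, 8, 5, 4, 3, 2], 1)),
  (1725, 1, ([3, 8, 9, 4, 2, 3, 8, 6, 5, 4, 3, 2], 1)),
  (1739, 1, ([3, 4, 2, 3, 8, 9, 8, 3, 4, 2, 3, 8, 7, 6, 5, 4, 3, 2], 1)),
  (3845, 2, ([4, 3, 8, 9, 4, 2, 3, 8, 5, 4, 3, 2, 1], 0)),
  (3316, 1, ([4, 2, 3, 8, 9, 4, 2, 3, 8, 5, 4, 3, 2, 1], 0)),
  (1749, 1, ([5, 4, 3, 8, 9, 5, 4, 2, 3, 8, 7, 6, 5, 4, 3, 2], 1)),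
  (1753, 1, ([3, 4, 1, 2, 3, 8, 9, 8, 5, 3, 4, 2, 3, 8, 7, 6, 5, 4, 3, 2], 1)),
  (1755, 1, ([5, 3, 4, 2, 3, 8, 9, 8, 5, 3, 4, 2, 3, 8, 7, 6, 5, 4, 3, 2], 1)),
  (1756, 500, ([8, 3, 4, 2, 3, 8, 9, 8, 5, 3, 4, 2, 3, 8, 7, 6, 5, 4, 3, 2], 1)),
  (5757, 1, ([7, 6, 5, 4, 3, 8, 9, 5, 4, 1, 2, 3, 8, 6, 5, 4, 3, 2, 1], 0)),
  (1760, 500, ([5, 3, 4, 2, 3, 8, 9, 6, 5, 3, 4, 2, 3, 8, 7, 6, 5, 4, 3, 2], 1)),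
  (3857, 1, ([3, 4, 2, 3, 8, 9, 3, 4, 2, 3, 8, 6, 5, 4, 3, 2, 1], 0)),
  (4543, 1, ([5, 4, 3, 8, 9, 1, 2, 3, 8, 7, 6, 5, 4, 3, 2, 1], 0)),
  (1768, 500, ([6, 5, 3, 4, 2, 3, 8, 9, 8, 6, 5, 3, 4, 2, 3, 8, 7, 6, 5, 4, 3, 2], 1)),
  (1773, 1, ([3, 4, 2, 3, 8, 9, 4, 5, 3, 4, 2, 3, 8, 6, 5, 4, 3, 2], 1)),
  (1784, 1, ([3, 4, 1, 2, 3, 8, 9, 4, 5, 3, 4, 2, 3, 8, 7, 6, 5, 4, 3, 2], 1)),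
  (1792, 500, ([8, 5, 3, 4, 2, 3, 8, 9, 5, 3, 4, 2, 3, 8, 7, 6, 5, 4, 3, 2], 1)),
  (1797, 1, ([7, 6, 5, 4, 2, 3, 8, 9, 8, 4, 5, 3, 4, 2, 3, 8, 7, 6, 5, 4, 3, 2], 1)),
  (3958, 1, ([6, 5, 4, 1, 2, 3, 8, 9, 4, 5, 3, 4, 2, 3, 8, 6, 5, 4, 3, 2, 1], 0)),
  (3129, 1, ([4, 1, 2, 3, 8, 9, 4, 2, 3, 8, 6, 5, 4, 3, 2, 1], 0)),
  (1804, 1, ([8, 5, 3, 4, 2, 3, 8, 9, 6, 4, 5, 3, 4, 2, 3, 8, 7, 6, 5, 4, 3, 2], 1)),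
  (1822, 1, ([6, 5, 3, 4, 1, 2, 3, 8, 9, 5, 6, 4, 5, 3, 4, 2, 3, 8, 7, 6, 5, 4, 3, 2], 1)),
  (3886, 1, ([5, 4, 1, 2, 3, 8, 9, 5, 3, 4, 2, 3, 8, 6, 5, 4, 3, 2, 1], 0)),
  (6307, 1, ([7, 6, 5, 4, 3, 8, 9, 2, 3, 8, 7, 6, 5, 4, 3, 2, 1], 0)),
  (4165, 1, ([7, 6, 5, 3, 4, 2, 3, 8, 9, 5, 3, 4, 2, 3, 8, 7, 6, 5, 4, 3, 2], 1)),
  (4237, 1, ([6, 5, 4, 3, 8, 9, 1, 2, 3, 8, 4, 3, 2, 1], 0)),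
  (3883, 1, ([7, 6, 5, 4, 2, 3, 8, 9, 8, 3, 4, 2, 3, 8, 7, 6, 5, 4, 3, 2, 1], 0)),
  (1843, 1, ([6, 5, 3, 4, 2, 3, 8, 9, 5, 4, 2, 3, 8, 6, 5, 4, 3, 2], 1)),
  (1844, 501, ([5, 4, 1, 2, 3, 8, 9, 4, 2, 3, 8, 6, 5, 4, 3, 2], 1)),
  (4979, 1, ([3, 4, 1, 2, 3, 8, 9, 3, 4, 2, 3, 8, 6, 5, 4, 3, 2, 1], 0)),
  (2351, 500, ([4, 2, 3, 8, 9, 8, 3, 4, 2, 3, 8, 5, 4, 3, 2], 1)),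
  (1850, 1, ([5, 4, 2, 3, 8, 9, 4, 2, 3, 8, 7, 6, 5, 4, 3, 2], 1)),
  (1862, 1, ([2, 3, 8, 9, 4, 3, 8, 5, 4, 3, 2, 1], 0)),
  (1865, 1, ([4, 1, 2, 3, 8, 9, 4, 2, 3, 8, 5, 4, 3, 2], 1)),
  (1881, 2, ([8, 9, 3, 8, 2, 3, 4, 1, 2, 3, 8, 6, 5, 4, 3, 2, 1], 0)),
  (1882, 1, ([3, 8, 9, 3, 8, 2, 3, 4, 1, 2, 3, 8, 7, 6, 5, 4, 3, 2, 1], 0)),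
  (1883, 500, ([3, 8, 9, 3, 8, 5, 2, 3, 4, 1, 2, 3, 8, 6, 5, 4, 3, 2, 1], 0)),
  (1884, 1, ([2, 3, 8, 9, 3, 8, 5, 2, 3, 4, 1, 2, 3, 8, 7, 6, 5, 4, 3, 2, 1], 0)),
  (2819, 1, ([2, 3, 4, 1, 2, 3, 8, 9, 5, 4, 1, 2, 3, 8, 6, 5, 4, 3, 2, 1], 0)),
  (4590, 500, ([8, 3, 4, 1, 2, 3, 8, 9, 5, 3, 4, 1, 2, 3, 8, 7, 6, 5, 4, 3, 2, 1], 0)),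
  (1893, 500, ([3, 8, 9, 2, 3, 4, 1, 2, 3, 8, 7, 6, 5, 4, 3, 2, 1], 0)),
  (1894, 1, ([2, 3, 8, 9, 8, 2, 3, 4, 1, 2, 3, 8, 7, 6, 5, 4, 3, 2, 1], 0)),
  (1896, 1, ([3, 8, 9, 5, 2, 3, 4, 1, 2, 3, 8, 6, 5, 4, 3, 2, 1], 0)),
  (1899, 1, ([2, 3, 8, 9, 5, 2, 3, 4, 1, 2, 3, 8, 7, 6, 5, 4, 3, 2, 1], 0)),
  (1900, 1, ([4, 3, 8, 9, 5, 2, 3, 4, 1, 2, 3, 8, 7, 6, 5, 4, 3, 2, 1], 0)),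
  (1901, 1, ([1, 2, 3, 8, 9, 8, 5, 2, 3, 4, 1, 2, 3, 8, 7, 6, 5, 4, 3, 2, 1], 0)),
  (1902, 1, ([4, 2, 3, 8, 9, 8, 5, 2, 3, 4, 1, 2, 3, 8, 7, 6, 5, 4, 3, 2, 1], 0)),
  (1905, 1, ([4, 2, 3, 8, 9, 6, 5, 2, 3, 4, 1, 2, 3, 8, 7, 6, 5, 4, 3, 2, 1], 0)),
  (1906, 1, ([5, 4, 3, 8, 9, 6, 5, 2, 3, 4, 1, 2, 3, 8, 7, 6, 5, 4, 3, 2, 1], 0)),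
  (7120, 1, ([5, 2, 3, 4, 1, 2, 3, 8, 9, 3, 4, 2, 3, 8, 6, 5, 4, 3, 2, 1], 0)),
  (4121, 1, ([3, 4, 1, 2, 3, 8, 9, 4, 1, 2, 3, 8, 7, 6, 5, 4, 3, 2, 1], 0)),
  (3186, 500, ([7, 6, 5, 4, 3, 8, 9, 3, 4, 2, 3, 8, 5, 4, 3, 2], 1)),
  (1913, 1, ([2, 3, 8, 9, 4, 5, 2, 3, 4, 1, 2, 3, 8, 6, 5, 4, 3, 2, 1], 0)),
  (1914, 1, ([4, 3, 8, 9, 4, 5, 2, 3, 4, 1, 2, 3, 8, 6, 5, 4, 3, 2, 1], 0)),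
  (1915, 1, ([1, 2, 3, 8, 9, 8, 4, 5, 2, 3, 4, 1, 2, 3, 8, 6, 5, 4, 3, 2, 1], 0)),
  (1916, 1, ([4, 2, 3, 8, 9, 8, 4, 5, 2, 3, 4, 1, 2, 3, 8, 6, 5, 4, 3, 2, 1], 0)),
  (1917, 1, ([5, 4, 3, 8, 9, 8, 4, 5, 2, 3, 4, 1, 2, 3, 8, 6, 5, 4, 3, 2, 1], 0)),
  (1918, 1, ([2, 3, 8, 9, 3, 4, 5, 2, 3, 4, 1, 2, 3, 8, 7, 6, 5, 4, 3, 2, 1], 0)),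
  (1919, 1, ([4, 3, 8, 9, 3, 4, 5, 2, 3, 4, 1, 2, 3, 8, 7, 6, 5, 4, 3, 2, 1], 0)),
  (1921, 1, ([4, 2, 3, 8, 9, 4, 5, 2, 3, 4, 1, 2, 3, 8, 7, 6, 5, 4, 3, 2, 1], 0)),
  (1924, 1, ([4, 1, 2, 3, 8, 9, 8, 4, 5, 2, 3, 4, 1, 2, 3, 8, 7, 6, 5, 4, 3, 2, 1], 0)),
  (1926, 501, ([5, 4, 2, 3, 8, 9, 8, 4, 5, 2, 3, 4, 1, 2, 3, 8, 7, 6, 5, 4, 3, 2, 1], 0)),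
  (1927, 2, ([6, 5, 4, 3, 8, 9, 8, 4, 5, 2, 3, 4, 1, 2, 3, 8, 7, 6, 5, 4, 3, 2, 1], 0)),
  (1928, 1, ([1, 2, 3, 8, 9, 6, 3, 4, 5, 2, 3, 4, 1, 2, 3, 8, 7, 6, 5, 4, 3, 2, 1], 0)),
  (1929, 500, ([4, 2, 3, 8, 9, 6, 3, 4, 5, 2, 3, 4, 1, 2, 3, 8, 7, 6, 5, 4, 3, 2, 1], 0)),
  (1930, 1, ([5, 4, 3, 8, 9, 6, 3, 4, 5, 2, 3, 4, 1, 2, 3, 8, 7, 6, 5, 4, 3, 2, 1], 0)),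
  (1932, 1, ([4, 1, 2, 3, 8, 9, 6, 4, 5, 2, 3, 4, 1, 2, 3, 8, 7, 6, 5, 4, 3, 2, 1], 0)),
  (1933, 1, ([3, 4, 2, 3, 8, 9, 6, 4, 5, 2, 3, 4, 1, 2, 3, 8, 7, 6, 5, 4, 3, 2, 1], 0)),
  (1934, 2, ([5, 4, 2, 3, 8, 9, 6, 4, 5, 2, 3, 4, 1, 2, 3, 8, 7, 6, 5, 4, 3, 2, 1], 0)),
  (1938, 2, ([5, 4, 1, 2, 3, 8, 9, 8, 6, 4, 5, 2, 3, 4, 1, 2, 3, 8, 7, 6, 5, 4, 3, 2, 1], 0)),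
  (1939, 1, ([5, 3, 4, 2, 3, 8, 9, 8, 6, 4, 5, 2, 3, 4, 1, 2, 3, 8, 7, 6, 5, 4, 3, 2, 1], 0)),
  (1942, 500, ([3, 8, 5, 6, 4, 5, 3, 4, 2, 3, 8, 9, 1, 2, 3, 8, 7, 6, 5, 4, 3, 2, 1], 0)),
  (3163, 500, ([4, 1, 2, 3, 8, 9, 8, 3, 4, 2, 3, 8, 5, 4, 3, 2], 1)),
  (1945, 1, ([5, 4, 3, 8, 9, 4, 5, 6, 3, 4, 5, 2, 3, 4, 1, 2, 3, 8, 7, 6, 5, 4, 3, 2, 1], 0)),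
  (4673, 500, ([6, 5, 3, 4, 1, 2, 3, 8, 9, 8, 4, 5, 3, 4, 1, 2, 3, 8, 6, 5, 4, 3, 2, 1], 0)),
  (1948, 1, ([3, 4, 2, 3, 8, 9, 5, 6, 3, 4, 5, 2, 3, 4, 1, 2, 3, 8, 7, 6, 5, 4, 3, 2, 1], 0)),
  (5358, 1, ([6, 5, 4, 3, 8, 9, 2, 3, 4, 1, 2, 3, 8, 6, 5, 4, 3, 2, 1], 0)),
  (1952, 2, ([3, 4, 1, 2, 3, 8, 9, 5, 6, 4, 5, 2, 3, 4, 1, 2, 3, 8, 7, 6, 5, 4, 3, 2, 1], 0)),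
  (1953, 1, ([5, 4, 1, 2, 3, 8, 9, 5, 6, 4, 5, 2, 3, 4, 1, 2, 3, 8, 7, 6, 5, 4, 3, 2, 1], 0)),
  (1954, 1, ([5, 3, 4, 2, 3, 8, 9, 5, 6, 4, 5, 2, 3, 4, 1, 2, 3, 8, 7, 6, 5, 4, 3, 2, 1], 0)),
  (4108, 1, ([1, 2, 3, 8, 9, 4, 1, 2, 3, 8, 5, 4, 3, 2, 1], 0)),
  (1957, 1, ([7, 6, 5, 4, 3, 8, 9, 5, 6, 4, 5, 2, 3, 4, 1, 2, 3, 8, 7, 6, 5, 4, 3, 2, 1], 0)),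
  (3424, 1, ([6, 5, 4, 2, 3, 8, 9, 4, 5, 2, 3, 4, 1, 2, 3, 8, 7, 6, 5, 4, 3, 2, 1], 0)),
  (3357, 1, ([5, 4, 3, 8, 9, 2, 3, 4, 1, 2, 3, 8, 7, 6, 5, 4, 3, 2, 1], 0)),
  (1961, 1, ([5, 3, 4, 1, 2, 3, 8, 9, 8, 5, 6, 4, 5, 2, 3, 4, 1, 2, 3, 8, 7, 6, 5, 4, 3, 2, 1], 0)),
  (4236, 1, ([5, 4, 2, 3, 8, 9, 1, 2, 3, 8, 4, 3, 2, 1], 0)),
  (1964, 1, ([4, 5, 3, 4, 2, 3, 8, 9, 8, 5, 6, 4, 5, 2, 3, 4, 1, 2, 3, 8, 7, 6, 5, 4, 3, 2, 1], 0)),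
  (5735, 1, ([6, 5, 4, 1, 2, 3, 8, 9, 3, 4, 1, 2, 3, 8, 7, 6, 5, 4, 3, 2, 1], 0)),
  (4548, 1, ([5, 4, 1, 2, 3, 8, 9, 3, 4, 1, 2, 3, 8, 7, 6, 5, 4, 3, 2, 1], 0)),
  (6866, 1, ([3, 8, 2, 3, 4, 1, 2, 3, 8, 9, 4, 5, 2, 3, 4, 1, 2, 3, 8, 7, 6, 5, 4, 3, 2, 1], 0)),
  (3354, 1, ([5, 4, 3, 8, 9, 8, 2, 3, 4, 1, 2, 3, 8, 6, 5, 4, 3, 2, 1], 0)),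
  (6293, 500, ([5, 4, 3, 8, 9, 2, 3, 8, 5, 4, 3, 2, 1], 0)),
  (1976, 1, ([2, 3, 8, 9, 8, 3, 4, 1, 2, 3, 8, 6, 5, 4, 3, 2, 1], 0)),
  (1980, 1, ([2, 3, 8, 9, 3, 4, 1, 2, 3, 8, 7, 6, 5, 4, 3, 2, 1], 0)),
  (1983, 1, ([4, 2, 3, 8, 9, 8, 3, 4, 1, 2, 3, 8, 7, 6, 5, 4, 3, 2, 1], 0)),
  (1988, 2, ([1, 2, 3, 8, 9, 8, 5, 3, 4, 1, 2, 3, 8, 6, 5, 4, 3, 2, 1], 0)),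
  (1991, 1, ([2, 3, 8, 9, 5, 4, 1, 2, 3, 8, 7, 6, 5, 4, 3, 2, 1], 0)),
  (1994, 1, ([4, 2, 3, 8, 9, 5, 3, 4, 1, 2, 3, 8, 7, 6, 5, 4, 3, 2, 1], 0)),
  (1999, 1, ([5, 4, 2, 3, 8, 9, 8, 5, 3, 4, 1, 2, 3, 8, 7, 6, 5, 4, 3, 2, 1], 0)),
  (2934, 500, ([4, 1, 2, 3, 8, 9, 5, 3, 4, 2, 3, 8, 6, 5, 4, 3, 2, 1], 0)),
  (2003, 1, ([4, 1, 2, 3, 8, 9, 6, 5, 3, 4, 1, 2, 3, 8, 7, 6, 5, 4, 3, 2, 1], 0)),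
  (2007, 1, ([4, 0, 1, 2, 3, 8, 9, 8, 6, 5, 3, 4, 1, 2, 3, 8, 7, 6, 5, 4, 3, 2, 1], 0)),
  (3876, 1, ([2, 3, 4, 1, 2, 3, 8, 9, 8, 3, 4, 2, 3, 8, 7, 6, 5, 4, 3, 2, 1], 0)),
  (2010, 500, ([5, 3, 4, 2, 3, 8, 9, 8, 6, 5, 3, 4, 1, 2, 3, 8, 7, 6, 5, 4, 3, 2, 1], 0)),
  (4242, 1, ([2, 3, 8, 9, 3, 8, 2, 3, 4, 1, 2, 3, 8, 5, 4, 3, 2, 1], 0))]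

/-- Representatives, part 5. -/
def reps11_5 : List (ℕ × ℕ × (List ℕ × ℕ)) := [(4158, 1, ([7, 6, 5, 4, 2, 3, 8, 9, 4, 2, 3, 8, 6, 5, 4, 3, 2], 1)),
  (2014, 1, ([1, 2, 3, 8, 9, 4, 5, 3, 4, 1, 2, 3, 8, 6, 5, 4, 3, 2, 1], 0)),
  (2015, 1, ([4, 2, 3, 8, 9, 4, 5, 3, 4, 1, 2, 3, 8, 6, 5, 4, 3, 2, 1], 0)),
  (2020, 1, ([5, 4, 2, 3, 8, 9, 8, 4, 5, 3, 4, 1, 2, 3, 8, 6, 5, 4, 3, 2, 1], 0)),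
  (2023, 1, ([4, 1, 2, 3, 8, 9, 4, 5, 3, 4, 1, 2, 3, 8, 7, 6, 5, 4, 3, 2, 1], 0)),
  (7114, 1, ([5, 3, 4, 1, 2, 3, 8, 9, 3, 4, 1, 2, 3, 8, 6, 5, 4, 3, 2, 1], 0)),
  (5348, 1, ([4, 2, 3, 8, 9, 2, 3, 4, 1, 2, 3, 8, 5, 4, 3, 2, 1], 0)),
  (4981, 1, ([5, 3, 4, 2, 3, 8, 9, 3, 4, 2, 3, 8, 6, 5, 4, 3, 2, 1], 0)),
  (2030, 500, ([5, 3, 4, 2, 3, 8, 9, 8, 4, 5, 3, 4, 1, 2, 3, 8, 7, 6, 5, 4, 3, 2, 1], 0)),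
  (2035, 501, ([3, 4, 1, 2, 3, 8, 9, 6, 4, 5, 3, 4, 1, 2, 3, 8, 7, 6, 5, 4, 3, 2, 1], 0)),
  (2036, 1, ([5, 4, 1, 2, 3, 8, 9, 6, 4, 5, 3, 4, 1, 2, 3, 8, 7, 6, 5, 4, 3, 2, 1], 0)),
  (2039, 1, ([6, 5, 4, 2, 3, 8, 9, 6, 4, 5, 3, 4, 1, 2, 3, 8, 7, 6, 5, 4, 3, 2, 1], 0)),
  (4551, 1, ([6, 5, 4, 2, 3, 8, 9, 3, 4, 1, 2, 3, 8, 7, 6, 5, 4, 3, 2, 1], 0)),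
  (2043, 500, ([2, 3, 4, 1, 2, 3, 8, 9, 8, 6, 4, 5, 3, 4, 1, 2, 3, 8, 7, 6, 5, 4, 3, 2, 1], 0)),
  (2044, 1, ([5, 3, 4, 1, 2, 3, 8, 9, 8, 6, 4, 5, 3, 4, 1, 2, 3, 8, 7, 6, 5, 4, 3, 2, 1], 0)),
  (2045, 500, ([8, 3, 4, 1, 2, 3, 8, 9, 8, 6, 4, 5, 3, 4, 1, 2, 3, 8, 7, 6, 5, 4, 3, 2, 1], 0)),
  (3048, 1, ([5, 2, 3, 4, 0, 1, 2, 3, 8, 9, 6, 5, 3, 4, 2, 3, 8, 7, 6, 5, 4, 3, 2, 1], 0)),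
  (2047, 1, ([4, 5, 3, 4, 2, 3, 8, 9, 8, 6, 4, 5, 3, 4, 1, 2, 3, 8, 7, 6, 5, 4, 3, 2, 1], 0)),
  (2049, 1, ([8, 5, 3, 4, 2, 3, 8, 9, 8, 6, 4, 5, 3, 4, 1, 2, 3, 8, 7, 6, 5, 4, 3, 2, 1], 0)),
  (2051, 1, ([7, 6, 5, 4, 2, 3, 8, 9, 8, 6, 4, 5, 3, 4, 1, 2, 3, 8, 7, 6, 5, 4, 3, 2, 1], 0)),
  (2756, 500, ([6, 5, 3, 4, 2, 3, 8, 9, 8, 4, 5, 3, 4, 1, 2, 3, 8, 7, 6, 5, 4, 3, 2, 1], 0)),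
  (2055, 1, ([5, 3, 4, 1, 2, 3, 8, 9, 5, 6, 4, 5, 3, 4, 1, 2, 3, 8, 7, 6, 5, 4, 3, 2, 1], 0)),
  (2057, 1, ([6, 5, 4, 1, 2, 3, 8, 9, 5, 6, 4, 5, 3, 4, 1, 2, 3, 8, 7, 6, 5, 4, 3, 2, 1], 0)),
  (2058, 1, ([4, 5, 3, 4, 2, 3, 8, 9, 5, 6, 4, 5, 3, 4, 1, 2, 3, 8, 7, 6, 5, 4, 3, 2, 1], 0)),
  (2059, 1, ([6, 5, 3, 4, 2, 3, 8, 9, 5, 6, 4, 5, 3, 4, 1, 2, 3, 8, 7, 6, 5, 4, 3, 2, 1], 0)),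
  (7844, 1, ([6, 4, 5, 2, 3, 4, 1, 2, 3, 8, 9, 5, 3, 4, 2, 3, 8, 7, 6, 5, 4, 3, 2, 1], 0)),
  (4328, 500, ([5, 3, 4, 1, 2, 3, 8, 9, 6, 5, 2, 3, 4, 1, 2, 3, 8, 7, 6, 5, 4, 3, 2, 1], 0)),
  (3356, 1, ([4, 2, 3, 8, 9, 2, 3, 4, 1, 2, 3, 8, 7, 6, 5, 4, 3, 2, 1], 0)),
  (7116, 3, ([6, 5, 4, 1, 2, 3, 8, 9, 3, 4, 1, 2, 3, 8, 6, 5, 4, 3, 2, 1], 0)),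
  (2069, 1, ([4, 5, 3, 4, 1, 2, 3, 8, 9, 8, 5, 6, 4, 5, 3, 4, 1, 2, 3, 8, 7, 6, 5, 4, 3, 2, 1], 0)),
  (4621, 500, ([6, 5, 3, 4, 1, 2, 3, 8, 9, 6, 5, 3, 4, 1, 2, 3, 8, 7, 6, 5, 4, 3, 2, 1], 0)),
  (2848, 1, ([4, 5, 2, 3, 4, 1, 2, 3, 8, 9, 6, 5, 4, 1, 2, 3, 8, 7, 6, 5, 4, 3, 2, 1], 0)),
  (2079, 500, ([2, 3, 4, 1, 2, 3, 8, 9, 5, 4, 2, 3, 8, 6, 5, 4, 3, 2, 1], 0)),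
  (2080, 1, ([2, 3, 4, 0, 1, 2, 3, 8, 9, 5, 4, 1, 2, 3, 8, 6, 5, 4, 3, 2, 1], 0)),
  (2081, 1, ([5, 2, 3, 4, 0, 1, 2, 3, 8, 9, 5, 4, 2, 3, 8, 6, 5, 4, 3, 2, 1], 0)),
  (2083, 1, ([8, 3, 4, 2, 3, 8, 9, 3, 8, 4, 5, 3, 4, 1, 2, 3, 8, 6, 5, 4, 3, 2, 1], 0)),
  (6530, 1, ([7, 6, 5, 4, 3, 8, 9, 2, 3, 8, 6, 5, 4, 3, 2], 1)),
  (4243, 1, ([5, 3, 4, 2, 3, 8, 9, 1, 2, 3, 8, 5, 4, 3, 2, 1], 0)),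
  (6562, 1, ([5, 3, 4, 2, 3, 8, 9, 4, 1, 2, 3, 8, 6, 5, 4, 3, 2, 1], 0)),
  (3351, 2, ([4, 3, 8, 9, 2, 3, 4, 1, 2, 3, 8, 6, 5, 4, 3, 2, 1], 0)),
  (5716, 500, ([2, 3, 4, 1, 2, 3, 8, 9, 8, 3, 4, 1, 2, 3, 8, 6, 5, 4, 3, 2, 1], 0)),
  (2090, 501, ([8, 2, 3, 4, 0, 1, 2, 3, 8, 9, 5, 4, 1, 2, 3, 8, 7, 6, 5, 4, 3, 2, 1], 0)),
  (2091, 1, ([6, 5, 2, 3, 4, 0, 1, 2, 3, 8, 9, 5, 4, 2, 3, 8, 7, 6, 5, 4, 3, 2, 1], 0)),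
  (4280, 1, ([1, 2, 3, 8, 9, 2, 3, 4, 1, 2, 3, 8, 6, 5, 4, 3, 2, 1], 0)),
  (2094, 1, ([8, 5, 3, 4, 2, 3, 8, 9, 3, 8, 4, 5, 3, 4, 1, 2, 3, 8, 7, 6, 5, 4, 3, 2, 1], 0)),
  (2097, 1, ([3, 4, 1, 2, 3, 8, 9, 6, 5, 4, 1, 2, 3, 8, 7, 6, 5, 4, 3, 2, 1], 0)),
  (2099, 1, ([8, 2, 3, 4, 1, 2, 3, 8, 9, 6, 5, 4, 1, 2, 3, 8, 7, 6, 5, 4, 3, 2, 1], 0)),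
  (2100, 1, ([6, 5, 2, 3, 4, 1, 2, 3, 8, 9, 6, 5, 4, 2, 3, 8, 7, 6, 5, 4, 3, 2, 1], 0)),
  (2102, 2, ([8, 3, 4, 0, 1, 2, 3, 8, 9, 6, 5, 4, 1, 2, 3, 8, 7, 6, 5, 4, 3, 2, 1], 0)),
  (6318, 2, ([5, 2, 3, 4, 1, 2, 3, 8, 9, 5, 3, 4, 2, 3, 8, 6, 5, 4, 3, 2, 1], 0)),
  (2106, 1, ([9, 8, 2, 3, 4, 0, 1, 2, 3, 8, 9, 6, 5, 4, 1, 2, 3, 8, 7, 6, 5, 4, 3, 2, 1], 0)),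
  (4563, 1, ([7, 6, 5, 4, 2, 3, 8, 9, 8, 3, 4, 1, 2, 3, 8, 7, 6, 5, 4, 3, 2, 1], 0)),
  (4968, 1, ([4, 3, 8, 9, 2, 3, 8, 5, 4, 3, 2, 1], 0)),
  (6301, 501, ([5, 3, 4, 1, 2, 3, 8, 9, 3, 4, 2, 3, 8, 6, 5, 4, 3, 2, 1], 0)),
  (2117, 1, ([7, 6, 4, 5, 2, 3, 4, 1, 2, 3, 8, 9, 6, 5, 4, 2, 3, 8, 7, 6, 5, 4, 3, 2, 1], 0)),
  (2112, 1, ([9, 8, 5, 3, 4, 2, 3, 8, 9, 3, 8, 6, 4, 5, 3, 4, 1, 2, 3, 8, 7, 6, 5, 4, 3, 2, 1], 0)),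
  (2113, 1, ([3, 4, 5, 2, 3, 4, 1, 2, 3, 8, 9, 6, 5, 4, 1, 2, 3, 8, 7, 6, 5, 4, 3, 2, 1], 0)),
  (2114, 1, ([6, 3, 4, 5, 2, 3, 4, 1, 2, 3, 8, 9, 6, 5, 4, 2, 3, 8, 7, 6, 5, 4, 3, 2, 1], 0)),
  (2115, 501, ([8, 3, 4, 5, 2, 3, 4, 1, 2, 3, 8, 9, 6, 5, 4, 2, 3, 8, 7, 6, 5, 4, 3, 2, 1], 0)),
  (2118, 1, ([6, 3, 4, 5, 2, 3, 4, 0, 1, 2, 3, 8, 9, 6, 5, 4, 1, 2, 3, 8, 7, 6, 5, 4, 3, 2, 1], 0)),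
  (4750, 1, ([3, 8, 6, 5, 2, 3, 4, 1, 2, 3, 8, 9, 6, 5, 3, 4, 2, 3, 8, 7, 6, 5, 4, 3, 2, 1], 0)),
  (2122, 1, ([9, 8, 3, 4, 5, 2, 3, 4, 0, 1, 2, 3, 8, 9, 6, 5, 4, 2, 3, 8, 7, 6, 5, 4, 3, 2, 1], 0)),
  (6733, 1, ([9, 8, 6, 5, 3, 4, 2, 3, 8, 9, 8, 5, 2, 3, 4, 1, 2, 3, 8, 7, 6, 5, 4, 3, 2, 1], 0)),
  (2124, 1, ([7, 6, 4, 5, 3, 4, 2, 3, 8, 9, 3, 8, 5, 6, 4, 5, 3, 4, 1, 2, 3, 8, 7, 6, 5, 4, 3, 2, 1], 0)),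
  (11502, 1, ([9, 3, 8, 7, 6, 4, 5, 3, 4, 1, 2, 3, 8, 9, 6, 5, 4, 1, 2, 3, 8, 7, 6, 5, 4, 3, 2, 1], 0)),
  (7309, 1, ([8, 5, 1, 2, 3, 4, 0, 1, 2, 3, 8, 9, 6, 5, 2, 3, 4, 1, 2, 3, 8, 7, 6, 5, 4, 3, 2, 1], 0)),
  (4695, 500, ([7, 6, 5, 3, 4, 2, 3, 8, 9, 4, 5, 3, 4, 1, 2, 3, 8, 7, 6, 5, 4, 3, 2, 1], 0)),
  (6811, 500, ([9, 2, 3, 8, 4, 5, 3, 4, 2, 3, 8, 9, 4, 1, 2, 3, 8, 7, 6, 5, 4, 3, 2, 1], 0)),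
  (5434, 500, ([7, 6, 5, 3, 4, 2, 3, 8, 9, 6, 5, 2, 3, 4, 1, 2, 3, 8, 7, 6, 5, 4, 3, 2, 1], 0)),
  (11851, 1, ([2, 3, 8, 6, 4, 5, 3, 4, 1, 2, 3, 8, 9, 5, 3, 4, 1, 2, 3, 8, 7, 6, 5, 4, 3, 2, 1], 0)),
  (5326, 1, ([7, 6, 5, 3, 4, 2, 3, 8, 9, 5, 4, 1, 2, 3, 8, 6, 5, 4, 3, 2, 1], 0)),
  (2164, 1, ([3, 4, 2, 3, 8, 9, 8, 3, 4, 2, 3, 8, 7, 6, 5, 4, 3, 2, 1], 0)),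
  (4518, 2, ([4, 3, 8, 9, 4, 1, 2, 3, 8, 5, 4, 3, 2, 1], 0)),
  (2176, 501, ([5, 4, 3, 8, 9, 5, 4, 2, 3, 8, 7, 6, 5, 4, 3, 2, 1], 0)),
  (3535, 500, ([4, 2, 3, 8, 9, 4, 1, 2, 3, 8, 7, 6, 5, 4, 3, 2, 1], 0)),
  (2189, 501, ([3, 4, 1, 2, 3, 8, 9, 6, 5, 3, 4, 2, 3, 8, 7, 6, 5, 4, 3, 2, 1], 0)),
  (2372, 1, ([5, 4, 1, 2, 3, 8, 9, 8, 3, 4, 2, 3, 8, 7, 6, 5, 4, 3, 2], 1)),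
  (2191, 500, ([5, 3, 4, 2, 3, 8, 9, 6, 5, 3, 4, 2, 3, 8, 7, 6, 5, 4, 3, 2, 1], 0)),
  (2196, 1, ([2, 3, 4, 1, 2, 3, 8, 9, 8, 6, 5, 3, 4, 2, 3, 8, 7, 6, 5, 4, 3, 2, 1], 0)),
  (5008, 1, ([7, 6, 5, 4, 3, 8, 9, 5, 4, 2, 3, 8, 6, 5, 4, 3, 2, 1], 0)),
  (3235, 2, ([6, 5, 4, 1, 2, 3, 8, 9, 4, 5, 3, 4, 2, 3, 8, 6, 5, 4, 3, 2], 1)),
  (3853, 500, ([6, 5, 4, 3, 8, 9, 8, 3, 4, 2, 3, 8, 5, 4, 3, 2, 1], 0)),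
  (3308, 1, ([5, 4, 2, 3, 8, 9, 4, 2, 3, 8, 6, 5, 4, 3, 2, 1], 0)),
  (2418, 1, ([7, 6, 5, 4, 3, 8, 9, 4, 5, 3, 4, 2, 3, 8, 6, 5, 4, 3, 2], 1)),
  (2237, 1, ([2, 3, 4, 1, 2, 3, 8, 9, 6, 4, 5, 3, 4, 2, 3, 8, 7, 6, 5, 4, 3, 2, 1], 0)),
  (2396, 501, ([6, 5, 3, 4, 2, 3, 8, 9, 8, 5, 3, 4, 2, 3, 8, 7, 6, 5, 4, 3, 2], 1)),
  (4997, 1, ([7, 6, 5, 4, 2, 3, 8, 9, 3, 4, 2, 3, 8, 7, 6, 5, 4, 3, 2, 1], 0)),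
  (2249, 1, ([5, 2, 3, 4, 1, 2, 3, 8, 9, 8, 6, 4, 5, 3, 4, 2, 3, 8, 7, 6, 5, 4, 3, 2, 1], 0)),
  (4146, 1, ([5, 3, 4, 2, 3, 8, 9, 3, 4, 2, 3, 8, 6, 5, 4, 3, 2], 1)),
  (2264, 1, ([5, 2, 3, 4, 1, 2, 3, 8, 9, 5, 6, 4, 5, 3, 4, 2, 3, 8, 7, 6, 5, 4, 3, 2, 1], 0)),
  (2443, 1, ([6, 5, 3, 4, 1, 2, 3, 8, 9, 5, 3, 4, 2, 3, 8, 7, 6, 5, 4, 3, 2], 1)),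
  (2274, 1, ([1, 2, 3, 8, 4, 5, 3, 4, 1, 2, 3, 8, 9, 6, 5, 4, 3, 8, 7, 6, 5, 4, 3, 2, 1], 0)),
  (2275, 1, ([2, 3, 8, 4, 5, 3, 4, 1, 2, 3, 8, 9, 6, 5, 4, 2, 3, 8, 7, 6, 5, 4, 3, 2, 1], 0)),
  (2279, 1, ([4, 5, 2, 3, 4, 1, 2, 3, 8, 9, 8, 5, 6, 4, 5, 3, 4, 2, 3, 8, 7, 6, 5, 4, 3, 2, 1], 0)),
  (10634, 1, ([9, 8, 6, 5, 3, 4, 1, 2, 3, 8, 9, 5, 3, 4, 1, 2, 3, 8, 6, 5, 4, 3, 2, 1], 0)),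
  (3267, 1, ([3, 8, 4, 5, 3, 4, 2, 3, 8, 9, 6, 4, 5, 3, 4, 2, 3, 8, 7, 6, 5, 4, 3, 2], 1)),
  (3210, 1, ([8, 5, 3, 4, 1, 2, 3, 8, 9, 4, 5, 3, 4, 2, 3, 8, 7, 6, 5, 4, 3, 2], 1)),
  (2296, 500, ([4, 1, 2, 3, 8, 9, 5, 4, 1, 2, 3, 8, 7, 6, 5, 4, 3, 2, 1], 0)),
  (8058, 1, ([9, 8, 3, 4, 2, 3, 8, 9, 4, 1, 2, 3, 8, 6, 5, 4, 3, 2, 1], 0)),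
  (2305, 1, ([6, 5, 4, 0, 1, 2, 3, 8, 9, 4, 2, 3, 8, 7, 6, 5, 4, 3, 2], 1)),
  (3311, 1, ([6, 5, 4, 2, 3, 8, 9, 4, 2, 3, 8, 6, 5, 4, 3, 2], 1)),
  (2310, 1, ([5, 4, 1, 2, 3, 8, 9, 6, 5, 4, 1, 2, 3, 8, 7, 6, 5, 4, 3, 2, 1], 0)),
  (4132, 500, ([8, 4, 3], 2)),
  (2356, 1, ([3, 8, 9, 2, 3, 8, 6, 5, 4, 3, 2], 1)),
  (2376, 1, ([7, 6, 5, 4, 3, 8, 9, 8, 3, 4, 2, 3, 8, 7, 6, 5, 4, 3, 2], 1)),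
  (2378, 1, ([3, 4, 2, 3, 8, 9, 5, 3, 4, 2, 3, 8, 6, 5, 4, 3, 2], 1)),
  (5216, 501, ([7, 6, 5, 4, 1, 2, 3, 8, 9, 4, 2, 3, 8, 7, 6, 5, 4, 3, 2, 1], 0)),
  (2405, 500, ([6, 5, 3, 4, 1, 2, 3, 8, 9, 8, 6, 5, 3, 4, 2, 3, 8, 7, 6, 5, 4, 3, 2], 1)),
  (2415, 500, ([5, 3, 4, 2, 3, 8, 9, 4, 5, 3, 4, 2, 3, 8, 6, 5, 4, 3, 2], 1)),
  (3149, 500, ([7, 6, 5, 4, 3, 8, 9, 8, 3, 4, 2, 3, 8, 5, 4, 3, 2, 1], 0)),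
  (2502, 1, ([5, 4, 2, 3, 8, 9, 4, 2, 3, 8, 7, 6, 5, 4, 3, 2, 1], 0)),
  (2430, 501, ([6, 5, 4, 1, 2, 3, 8, 9, 4, 5, 3, 4, 2, 3, 8, 7, 6, 5, 4, 3, 2], 1)),
  (2433, 2, ([8, 5, 3, 4, 2, 3, 8, 9, 4, 5, 3, 4, 2, 3, 8, 7, 6, 5, 4, 3, 2], 1)),
  (2668, 1, ([4, 3, 8, 9, 8, 3, 4, 1, 2, 3, 8, 5, 4, 3, 2, 1], 0)),
  (3191, 501, ([6, 5, 3, 4, 2, 3, 8, 9, 8, 3, 4, 2, 3, 8, 7, 6, 5, 4, 3, 2], 1)),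
  (3033, 1, ([4, 5, 3, 4, 1, 2, 3, 8, 9, 6, 4, 5, 3, 4, 2, 3, 8, 7, 6, 5, 4, 3, 2, 1], 0)),
  (5783, 1, ([4, 5, 3, 4, 2, 3, 8, 9, 5, 4, 1, 2, 3, 8, 7, 6, 5, 4, 3, 2, 1], 0)),
  (5296, 1, ([7, 6, 5, 4, 3, 8, 9, 1, 2, 3, 8, 6, 5, 4, 3, 2, 1], 0)),
  (2514, 1, ([4, 2, 3, 8, 9, 4, 2, 3, 8, 5, 4, 3, 2], 1)),
  (2528, 2, ([8, 9, 3, 8, 2, 3, 4, 1, 2, 3, 8, 5, 4, 3, 2, 1], 0)),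
  (2529, 1, ([3, 8, 9, 3, 8, 2, 3, 4, 1, 2, 3, 8, 6, 5, 4, 3, 2, 1], 0)),
  (2530, 1, ([2, 3, 8, 9, 3, 8, 2, 3, 4, 1, 2, 3, 8, 7, 6, 5, 4, 3, 2, 1], 0)),
  (2532, 1, ([2, 3, 8, 9, 3, 8, 5, 2, 3, 4, 1, 2, 3, 8, 6, 5, 4, 3, 2, 1], 0)),
  (6509, 1, ([3, 4, 0, 1, 2, 3, 8, 9, 3, 4, 1, 2, 3, 8, 5, 4, 3, 2, 1], 0)),
  (2534, 1, ([1, 2, 3, 8, 9, 3, 8, 5, 2, 3, 4, 1, 2, 3, 8, 7, 6, 5, 4, 3, 2, 1], 0)),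
  (3739, 500, ([5, 2, 3, 4, 1, 2, 3, 8, 9, 5, 4, 1, 2, 3, 8, 6, 5, 4, 3, 2, 1], 0)),
  (2536, 1, ([7, 6, 4, 5, 3, 4, 2, 3, 8, 9, 1, 2, 3, 8, 6, 5, 4, 3, 2, 1], 0)),
  (2847, 1, ([8, 3, 4, 1, 2, 3, 8, 9, 6, 5, 4, 1, 2, 3, 8, 7, 6, 5, 4, 3, 2, 1], 0)),
  (2566, 1, ([3, 4, 2, 3, 8, 9, 6, 5, 2, 3, 4, 1, 2, 3, 8, 7, 6, 5, 4, 3, 2, 1], 0)),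
  (2542, 1, ([8, 9, 2, 3, 4, 1, 2, 3, 8, 5, 4, 3, 2, 1], 0)),
  (2547, 1, ([2, 3, 8, 9, 2, 3, 4, 1, 2, 3, 8, 7, 6, 5, 4, 3, 2, 1], 0)),
  (5297, 1, ([7, 6, 5, 4, 2, 3, 8, 9, 1, 2, 3, 8, 7, 6, 5, 4, 3, 2, 1], 0)),
  (2550, 1, ([4, 2, 3, 8, 9, 8, 2, 3, 4, 1, 2, 3, 8, 7, 6, 5, 4, 3, 2, 1], 0)),
  (2552, 1, ([2, 3, 8, 9, 5, 2, 3, 4, 1, 2, 3, 8, 6, 5, 4, 3, 2, 1], 0)),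
  (5300, 1, ([3, 4, 2, 3, 8, 9, 1, 2, 3, 8, 5, 4, 3, 2, 1], 0)),
  (2557, 1, ([1, 2, 3, 8, 9, 5, 2, 3, 4, 1, 2, 3, 8, 7, 6, 5, 4, 3, 2, 1], 0)),
  (2558, 1, ([4, 2, 3, 8, 9, 5, 2, 3, 4, 1, 2, 3, 8, 7, 6, 5, 4, 3, 2, 1], 0)),
  (2559, 500, ([5, 4, 3, 8, 9, 5, 2, 3, 4, 1, 2, 3, 8, 7, 6, 5, 4, 3, 2, 1], 0)),
  (2562, 1, ([3, 4, 2, 3, 8, 9, 8, 5, 2, 3, 4, 1, 2, 3, 8, 7, 6, 5, 4, 3, 2, 1], 0)),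
  (6557, 500, ([6, 5, 3, 4, 0, 1, 2, 3, 8, 9, 4, 1, 2, 3, 8, 5, 4, 3, 2, 1], 0)),
  (2565, 1, ([4, 1, 2, 3, 8, 9, 6, 5, 2, 3, 4, 1, 2, 3, 8, 7, 6, 5, 4, 3, 2, 1], 0)),
  (2567, 1, ([5, 4, 2, 3, 8, 9, 6, 5, 2, 3, 4, 1, 2, 3, 8, 7, 6, 5, 4, 3, 2, 1], 0)),
  (6628, 1, ([3, 4, 1, 2, 3, 8, 9, 8, 2, 3, 4, 1, 2, 3, 8, 5, 4, 3, 2, 1], 0)),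
  (2569, 1, ([4, 0, 1, 2, 3, 8, 9, 8, 6, 5, 2, 3, 4, 1, 2, 3, 8, 7, 6, 5, 4, 3, 2, 1], 0)),
  (4660, 1, ([6, 5, 4, 1, 2, 3, 8, 9, 4, 5, 3, 4, 1, 2, 3, 8, 6, 5, 4, 3, 2, 1], 0)),
  (6650, 1, ([8, 5, 3, 4, 2, 3, 8, 9, 4, 1, 2, 3, 8, 7, 6, 5, 4, 3, 2, 1], 0)),
  (2716, 500, ([8, 3, 4, 2, 3, 8, 9, 6, 5, 3, 4, 1, 2, 3, 8, 7, 6, 5, 4, 3, 2, 1], 0)),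
  (6513, 2, ([5, 4, 0, 1, 2, 3, 8, 9, 2, 3, 4, 1, 2, 3, 8, 6, 5, 4, 3, 2, 1], 0)),
  (4148, 1, ([7, 6, 5, 4, 3, 8, 9, 3, 4, 2, 3, 8, 6, 5, 4, 3, 2], 1)),
  (5725, 2, ([3, 4, 2, 3, 8, 9, 1, 2, 3, 8, 7, 6, 5, 4, 3, 2, 1], 0)),
  (2579, 1, ([4, 2, 3, 8, 9, 4, 5, 2, 3, 4, 1, 2, 3, 8, 6, 5, 4, 3, 2, 1], 0)),
  (2580, 501, ([5, 4, 3, 8, 9, 4, 5, 2, 3, 4, 1, 2, 3, 8, 6, 5, 4, 3, 2, 1], 0)),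
  (2583, 1, ([3, 4, 2, 3, 8, 9, 8, 4, 5, 2, 3, 4, 1, 2, 3, 8, 6, 5, 4, 3, 2, 1], 0)),
  (2584, 1, ([5, 4, 2, 3, 8, 9, 8, 4, 5, 2, 3, 4, 1, 2, 3, 8, 6, 5, 4, 3, 2, 1], 0)),
  (2585, 1, ([3, 8, 4, 5, 3, 4, 2, 3, 8, 9, 1, 2, 3, 8, 6, 5, 4, 3, 2, 1], 0)),
  (2587, 500, ([4, 2, 3, 8, 9, 3, 4, 5, 2, 3, 4, 1, 2, 3, 8, 7, 6, 5, 4, 3, 2, 1], 0)),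
  (2590, 1, ([4, 1, 2, 3, 8, 9, 4, 5, 2, 3, 4, 1, 2, 3, 8, 7, 6, 5, 4, 3, 2, 1], 0)),
  (6545, 1, ([6, 5, 4, 3, 8, 9, 4, 1, 2, 3, 8, 5, 4, 3, 2, 1], 0)),
  (2595, 2, ([3, 4, 1, 2, 3, 8, 9, 8, 4, 5, 2, 3, 4, 1, 2, 3, 8, 7, 6, 5, 4, 3, 2, 1], 0)),
  (2596, 1, ([5, 4, 1, 2, 3, 8, 9, 8, 4, 5, 2, 3, 4, 1, 2, 3, 8, 7, 6, 5, 4, 3, 2, 1], 0)),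
  (2598, 1, ([8, 3, 4, 2, 3, 8, 9, 8, 4, 5, 2, 3, 4, 1, 2, 3, 8, 7, 6, 5, 4, 3, 2, 1], 0)),
  (2599, 1, ([6, 5, 4, 2, 3, 8, 9, 8, 4, 5, 2, 3, 4, 1, 2, 3, 8, 7, 6, 5, 4, 3, 2, 1], 0)),
  (2600, 1, ([3, 8, 6, 4, 5, 3, 4, 2, 3, 8, 9, 1, 2, 3, 8, 7, 6, 5, 4, 3, 2, 1], 0)),
  (2603, 501, ([3, 4, 2, 3, 8, 9, 6, 3, 4, 5, 2, 3, 4, 1, 2, 3, 8, 7, 6, 5, 4, 3, 2, 1], 0)),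
  (4238, 2, ([6, 5, 4, 2, 3, 8, 9, 1, 2, 3, 8, 5, 4, 3, 2, 1], 0)),
  (3362, 2, ([6, 5, 4, 3, 8, 9, 8, 2, 3, 4, 1, 2, 3, 8, 7, 6, 5, 4, 3, 2, 1], 0)),
  (2683, 1, ([4, 1, 2, 3, 8, 9, 8, 3, 4, 1, 2, 3, 8, 7, 6, 5, 4, 3, 2, 1], 0)),
  (2608, 1, ([5, 4, 1, 2, 3, 8, 9, 6, 4, 5, 2, 3, 4, 1, 2, 3, 8, 7, 6, 5, 4, 3, 2, 1], 0)),
  (2609, 1, ([5, 3, 4, 2, 3, 8, 9, 6, 4, 5, 2, 3, 4, 1, 2, 3, 8, 7, 6, 5, 4, 3, 2, 1], 0)),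
  (2611, 501, ([6, 5, 4, 2, 3, 8, 9, 6, 4, 5, 2, 3, 4, 1, 2, 3, 8, 7, 6, 5, 4, 3, 2, 1], 0)),
  (2612, 500, ([7, 6, 5, 4, 3, 8, 9, 6, 4, 5, 2, 3, 4, 1, 2, 3, 8, 7, 6, 5, 4, 3, 2, 1], 0)),
  (2747, 1, ([6, 5, 4, 2, 3, 8, 9, 4, 5, 3, 4, 1, 2, 3, 8, 7, 6, 5, 4, 3, 2, 1], 0)),
  (7130, 1, ([9, 8, 3, 4, 2, 3, 8, 9, 4, 1, 2, 3, 8, 7, 6, 5, 4, 3, 2, 1], 0)),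
  (2616, 1, ([5, 3, 4, 1, 2, 3, 8, 9, 8, 6, 4, 5, 2, 3, 4, 1, 2, 3, 8, 7, 6, 5, 4, 3, 2, 1], 0)),
  (5406, 1, ([8, 5, 3, 4, 2, 3, 8, 9, 5, 2, 3, 4, 1, 2, 3, 8, 7, 6, 5, 4, 3, 2, 1], 0)),
  (10643, 2, ([3, 4, 5, 2, 3, 4, 1, 2, 3, 8, 9, 2, 3, 4, 1, 2, 3, 8, 6, 5, 4, 3, 2, 1], 0)),
  (7204, 1, ([6, 4, 5, 3, 4, 1, 2, 3, 8, 9, 5, 3, 4, 1, 2, 3, 8, 7, 6, 5, 4, 3, 2, 1], 0)),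
  (8978, 1, ([8, 6, 5, 3, 4, 0, 1, 2, 3, 8, 9, 4, 5, 3, 4, 1, 2, 3, 8, 6, 5, 4, 3, 2, 1], 0)),
  (3546, 1, ([6, 5, 4, 2, 3, 8, 9, 8, 3, 4, 1, 2, 3, 8, 7, 6, 5, 4, 3, 2, 1], 0)),
  (2623, 1, ([2, 3, 8, 5, 6, 4, 5, 3, 4, 2, 3, 8, 9, 1, 2, 3, 8, 7, 6, 5, 4, 3, 2, 1], 0)),
  (2630, 1, ([3, 4, 1, 2, 3, 8, 9, 5, 6, 3, 4, 5, 2, 3, 4, 1, 2, 3, 8, 7, 6, 5, 4, 3, 2, 1], 0)),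
  (8994, 1, ([9, 8, 6, 5, 3, 4, 1, 2, 3, 8, 9, 4, 5, 3, 4, 1, 2, 3, 8, 6, 5, 4, 3, 2, 1], 0)),
  (2632, 3, ([5, 3, 4, 2, 3, 8, 9, 5, 6, 3, 4, 5, 2, 3, 4, 1, 2, 3, 8, 7, 6, 5, 4, 3, 2, 1], 0)),
  (6547, 1, ([5, 4, 2, 3, 8, 9, 1, 2, 3, 8, 6, 5, 4, 3, 2, 1], 0)),
  (2638, 1, ([2, 3, 4, 1, 2, 3, 8, 9, 5, 6, 4, 5, 2, 3, 4, 1, 2, 3, 8, 7, 6, 5, 4, 3, 2, 1], 0)),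
  (8171, 2, ([2, 3, 8, 6, 4, 5, 3, 4, 1, 2, 3, 8, 9, 4, 1, 2, 3, 8, 7, 6, 5, 4, 3, 2, 1], 0)),
  (2642, 2, ([4, 5, 3, 4, 2, 3, 8, 9, 5, 6, 4, 5, 2, 3, 4, 1, 2, 3, 8, 7, 6, 5, 4, 3, 2, 1], 0)),
  (2643, 1, ([6, 5, 3, 4, 2, 3, 8, 9, 5, 6, 4, 5, 2, 3, 4, 1, 2, 3, 8, 7, 6, 5, 4, 3, 2, 1], 0)),
  (2646, 1, ([7, 6, 5, 4, 2, 3, 8, 9, 5, 6, 4, 5, 2, 3, 4, 1, 2, 3, 8, 7, 6, 5, 4, 3, 2, 1], 0)),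
  (2647, 1, ([9, 8, 3, 4, 1, 2, 3, 8, 9, 5, 6, 4, 5, 3, 4, 1, 2, 3, 8, 7, 6, 5, 4, 3, 2, 1], 0)),
  (5693, 1, ([4, 1, 2, 3, 8, 9, 3, 4, 1, 2, 3, 8, 5, 4, 3, 2, 1], 0)),
  (4290, 2, ([5, 4, 2, 3, 8, 9, 2, 3, 4, 1, 2, 3, 8, 7, 6, 5, 4, 3, 2, 1], 0)),
  (2653, 2, ([4, 5, 3, 4, 1, 2, 3, 8, 9, 8, 5, 6, 4, 5, 2, 3, 4, 1, 2, 3, 8, 7, 6, 5, 4, 3, 2, 1], 0)),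
  (14981, 1, ([3, 8, 3, 4, 5, 2, 3, 4, 1, 2, 3, 8, 9, 5, 3, 4, 1, 2, 3, 8, 6, 5, 4, 3, 2, 1], 0)),
  (4090, 1, ([5, 4, 0, 1, 2, 3, 8, 9, 3, 4, 1, 2, 3, 8, 7, 6, 5, 4, 3, 2, 1], 0)),
  (2656, 1, ([2, 3, 8, 3, 4, 5, 2, 3, 4, 1, 2, 3, 8, 9, 6, 5, 4, 3, 8, 7, 6, 5, 4, 3, 2, 1], 0)),
  (2657, 1, ([4, 1, 2, 3, 8, 5, 6, 4, 5, 3, 4, 2, 3, 8, 9, 1, 2, 3, 8, 7, 6, 5, 4, 3, 2, 1], 0)),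
  (2662, 1, ([9, 8, 5, 3, 4, 2, 3, 8, 9, 8, 5, 6, 4, 5, 2, 3, 4, 1, 2, 3, 8, 7, 6, 5, 4, 3, 2, 1], 0)),
  (2667, 1, ([2, 3, 8, 9, 8, 3, 4, 1, 2, 3, 8, 5, 4, 3, 2, 1], 0)),
  (2674, 1, ([4, 2, 3, 8, 9, 8, 3, 4, 1, 2, 3, 8, 6, 5, 4, 3, 2, 1], 0))]

/-- Representatives, part 6. -/
def reps11_6 : List (ℕ × ℕ × (List ℕ × ℕ)) := [(2677, 1, ([2, 3, 8, 9, 4, 1, 2, 3, 8, 7, 6, 5, 4, 3, 2, 1], 0)),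
  (2679, 1, ([1, 2, 3, 8, 9, 3, 4, 1, 2, 3, 8, 7, 6, 5, 4, 3, 2, 1], 0)),
  (2680, 1, ([4, 2, 3, 8, 9, 3, 4, 1, 2, 3, 8, 7, 6, 5, 4, 3, 2, 1], 0)),
  (2684, 1, ([3, 4, 2, 3, 8, 9, 8, 3, 4, 1, 2, 3, 8, 7, 6, 5, 4, 3, 2, 1], 0)),
  (2685, 1, ([5, 4, 2, 3, 8, 9, 8, 3, 4, 1, 2, 3, 8, 7, 6, 5, 4, 3, 2, 1], 0)),
  (2687, 1, ([2, 3, 8, 9, 5, 4, 1, 2, 3, 8, 6, 5, 4, 3, 2, 1], 0)),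
  (2688, 1, ([4, 3, 8, 9, 5, 4, 1, 2, 3, 8, 6, 5, 4, 3, 2, 1], 0)),
  (2689, 1, ([1, 2, 3, 8, 9, 5, 3, 4, 1, 2, 3, 8, 6, 5, 4, 3, 2, 1], 0)),
  (5352, 1, ([3, 4, 2, 3, 8, 9, 8, 2, 3, 4, 1, 2, 3, 8, 5, 4, 3, 2, 1], 0)),
  (2697, 500, ([4, 2, 3, 8, 9, 5, 4, 1, 2, 3, 8, 7, 6, 5, 4, 3, 2, 1], 0)),
  (2698, 1, ([5, 4, 3, 8, 9, 5, 4, 1, 2, 3, 8, 7, 6, 5, 4, 3, 2, 1], 0)),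
  (2699, 1, ([4, 1, 2, 3, 8, 9, 5, 3, 4, 1, 2, 3, 8, 7, 6, 5, 4, 3, 2, 1], 0)),
  (2700, 1, ([3, 4, 2, 3, 8, 9, 5, 3, 4, 1, 2, 3, 8, 7, 6, 5, 4, 3, 2, 1], 0)),
  (2704, 1, ([3, 4, 1, 2, 3, 8, 9, 8, 5, 3, 4, 1, 2, 3, 8, 7, 6, 5, 4, 3, 2, 1], 0)),
  (2705, 1, ([5, 4, 1, 2, 3, 8, 9, 8, 5, 3, 4, 1, 2, 3, 8, 7, 6, 5, 4, 3, 2, 1], 0)),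
  (2706, 1, ([5, 3, 4, 2, 3, 8, 9, 8, 5, 3, 4, 1, 2, 3, 8, 7, 6, 5, 4, 3, 2, 1], 0)),
  (2707, 1, ([8, 3, 4, 2, 3, 8, 9, 8, 5, 3, 4, 1, 2, 3, 8, 7, 6, 5, 4, 3, 2, 1], 0)),
  (2711, 1, ([5, 4, 2, 3, 8, 9, 6, 5, 4, 1, 2, 3, 8, 7, 6, 5, 4, 3, 2, 1], 0)),
  (2712, 500, ([6, 5, 4, 3, 8, 9, 6, 5, 4, 1, 2, 3, 8, 7, 6, 5, 4, 3, 2, 1], 0)),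
  (3555, 4, ([3, 4, 1, 2, 3, 8, 9, 8, 5, 3, 4, 1, 2, 3, 8, 6, 5, 4, 3, 2, 1], 0)),
  (2714, 1, ([5, 4, 1, 2, 3, 8, 9, 6, 5, 3, 4, 1, 2, 3, 8, 7, 6, 5, 4, 3, 2, 1], 0)),
  (2715, 500, ([5, 3, 4, 2, 3, 8, 9, 6, 5, 3, 4, 1, 2, 3, 8, 7, 6, 5, 4, 3, 2, 1], 0)),
  (5715, 1, ([5, 4, 0, 1, 2, 3, 8, 9, 8, 3, 4, 1, 2, 3, 8, 6, 5, 4, 3, 2, 1], 0)),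
  (8721, 1, ([5, 6, 4, 5, 3, 4, 2, 3, 8, 9, 5, 3, 4, 1, 2, 3, 8, 6, 5, 4, 3, 2, 1], 0)),
  (2723, 1, ([8, 3, 4, 1, 2, 3, 8, 9, 8, 6, 5, 3, 4, 1, 2, 3, 8, 7, 6, 5, 4, 3, 2, 1], 0)),
  (2725, 1, ([4, 5, 3, 4, 2, 3, 8, 9, 8, 6, 5, 3, 4, 1, 2, 3, 8, 7, 6, 5, 4, 3, 2, 1], 0)),
  (2726, 500, ([6, 5, 3, 4, 2, 3, 8, 9, 8, 6, 5, 3, 4, 1, 2, 3, 8, 7, 6, 5, 4, 3, 2, 1], 0)),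
  (2727, 1, ([8, 5, 3, 4, 2, 3, 8, 9, 8, 6, 5, 3, 4, 1, 2, 3, 8, 7, 6, 5, 4, 3, 2, 1], 0)),
  (2728, 1, ([9, 8, 3, 4, 2, 3, 8, 9, 8, 6, 5, 3, 4, 1, 2, 3, 8, 7, 6, 5, 4, 3, 2, 1], 0)),
  (2729, 1, ([7, 6, 5, 4, 2, 3, 8, 9, 8, 6, 5, 3, 4, 1, 2, 3, 8, 7, 6, 5, 4, 3, 2, 1], 0)),
  (2731, 1, ([4, 1, 2, 3, 8, 9, 4, 5, 3, 4, 1, 2, 3, 8, 6, 5, 4, 3, 2, 1], 0)),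
  (2732, 1, ([3, 4, 2, 3, 8, 9, 4, 5, 3, 4, 1, 2, 3, 8, 6, 5, 4, 3, 2, 1], 0)),
  (2733, 3, ([5, 4, 2, 3, 8, 9, 4, 5, 3, 4, 1, 2, 3, 8, 6, 5, 4, 3, 2, 1], 0)),
  (2736, 1, ([3, 4, 1, 2, 3, 8, 9, 8, 4, 5, 3, 4, 1, 2, 3, 8, 6, 5, 4, 3, 2, 1], 0)),
  (2737, 2, ([5, 4, 1, 2, 3, 8, 9, 8, 4, 5, 3, 4, 1, 2, 3, 8, 6, 5, 4, 3, 2, 1], 0)),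
  (2740, 1, ([6, 5, 4, 2, 3, 8, 9, 8, 4, 5, 3, 4, 1, 2, 3, 8, 6, 5, 4, 3, 2, 1], 0)),
  (4525, 2, ([5, 4, 2, 3, 8, 9, 8, 3, 4, 1, 2, 3, 8, 5, 4, 3, 2, 1], 0)),
  (2746, 1, ([8, 3, 4, 2, 3, 8, 9, 4, 5, 3, 4, 1, 2, 3, 8, 7, 6, 5, 4, 3, 2, 1], 0)),
  (3323, 1, ([6, 5, 4, 2, 3, 8, 9, 1, 2, 3, 8, 4, 3, 2, 1], 0)),
  (5473, 500, ([8, 3, 4, 1, 2, 3, 8, 9, 4, 5, 2, 3, 4, 1, 2, 3, 8, 6, 5, 4, 3, 2, 1], 0)),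
  (2755, 1, ([4, 5, 3, 4, 2, 3, 8, 9, 8, 4, 5, 3, 4, 1, 2, 3, 8, 7, 6, 5, 4, 3, 2, 1], 0)),
  (6542, 500, ([4, 2, 3, 8, 9, 1, 2, 3, 8, 5, 4, 3, 2, 1], 0)),
  (3561, 1, ([3, 4, 2, 3, 8, 9, 5, 4, 1, 2, 3, 8, 7, 6, 5, 4, 3, 2, 1], 0)),
  (2762, 500, ([2, 3, 4, 1, 2, 3, 8, 9, 6, 4, 5, 3, 4, 1, 2, 3, 8, 7, 6, 5, 4, 3, 2, 1], 0)),
  (2763, 1, ([5, 3, 4, 1, 2, 3, 8, 9, 6, 4, 5, 3, 4, 1, 2, 3, 8, 7, 6, 5, 4, 3, 2, 1], 0)),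
  (3589, 1, ([4, 5, 3, 4, 2, 3, 8, 9, 6, 5, 3, 4, 1, 2, 3, 8, 7, 6, 5, 4, 3, 2, 1], 0)),
  (2765, 2, ([6, 5, 4, 1, 2, 3, 8, 9, 6, 4, 5, 3, 4, 1, 2, 3, 8, 7, 6, 5, 4, 3, 2, 1], 0)),
  (2766, 1, ([4, 5, 3, 4, 2, 3, 8, 9, 6, 4, 5, 3, 4, 1, 2, 3, 8, 7, 6, 5, 4, 3, 2, 1], 0)),
  (2767, 1, ([6, 5, 3, 4, 2, 3, 8, 9, 6, 4, 5, 3, 4, 1, 2, 3, 8, 7, 6, 5, 4, 3, 2, 1], 0)),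
  (2768, 2, ([8, 5, 3, 4, 2, 3, 8, 9, 6, 4, 5, 3, 4, 1, 2, 3, 8, 7, 6, 5, 4, 3, 2, 1], 0)),
  (2769, 1, ([9, 8, 3, 4, 2, 3, 8, 9, 6, 4, 5, 3, 4, 1, 2, 3, 8, 7, 6, 5, 4, 3, 2, 1], 0)),
  (2770, 1, ([7, 6, 5, 4, 2, 3, 8, 9, 6, 4, 5, 3, 4, 1, 2, 3, 8, 7, 6, 5, 4, 3, 2, 1], 0)),
  (2776, 1, ([8, 2, 3, 4, 1, 2, 3, 8, 9, 8, 6, 4, 5, 3, 4, 1, 2, 3, 8, 7, 6, 5, 4, 3, 2, 1], 0)),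
  (8132, 1, ([3, 8, 4, 5, 3, 4, 2, 3, 8, 9, 2, 3, 4, 1, 2, 3, 8, 6, 5, 4, 3, 2, 1], 0)),
  (8796, 1, ([6, 4, 5, 2, 3, 4, 1, 2, 3, 8, 9, 5, 3, 4, 1, 2, 3, 8, 7, 6, 5, 4, 3, 2, 1], 0)),
  (8145, 500, ([8, 4, 5, 3, 4, 1, 2, 3, 8, 9, 5, 2, 3, 4, 1, 2, 3, 8, 7, 6, 5, 4, 3, 2, 1], 0)),
  (2781, 1, ([7, 6, 5, 4, 1, 2, 3, 8, 9, 8, 6, 4, 5, 3, 4, 1, 2, 3, 8, 7, 6, 5, 4, 3, 2, 1], 0)),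
  (6151, 501, ([9, 8, 4, 5, 2, 3, 4, 0, 1, 2, 3, 8, 9, 5, 4, 1, 2, 3, 8, 6, 5, 4, 3, 2, 1], 0)),
  (2786, 1, ([9, 8, 5, 3, 4, 2, 3, 8, 9, 8, 6, 4, 5, 3, 4, 1, 2, 3, 8, 7, 6, 5, 4, 3, 2, 1], 0)),
  (5217, 1, ([6, 5, 3, 4, 0, 1, 2, 3, 8, 9, 4, 1, 2, 3, 8, 7, 6, 5, 4, 3, 2, 1], 0)),
  (5947, 1, ([9, 8, 6, 5, 3, 4, 2, 3, 8, 9, 4, 5, 3, 4, 1, 2, 3, 8, 7, 6, 5, 4, 3, 2, 1], 0)),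
  (2790, 1, ([4, 5, 3, 4, 1, 2, 3, 8, 9, 5, 6, 4, 5, 3, 4, 1, 2, 3, 8, 7, 6, 5, 4, 3, 2, 1], 0)),
  (6343, 1, ([7, 6, 5, 2, 3, 4, 1, 2, 3, 8, 9, 8, 5, 3, 4, 2, 3, 8, 7, 6, 5, 4, 3, 2, 1], 0)),
  (6697, 1, ([5, 2, 3, 4, 1, 2, 3, 8, 9, 5, 2, 3, 4, 1, 2, 3, 8, 7, 6, 5, 4, 3, 2, 1], 0)),
  (2794, 1, ([6, 4, 5, 3, 4, 2, 3, 8, 9, 5, 6, 4, 5, 3, 4, 1, 2, 3, 8, 7, 6, 5, 4, 3, 2, 1], 0)),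
  (2798, 1, ([9, 8, 5, 3, 4, 2, 3, 8, 9, 5, 6, 4, 5, 3, 4, 1, 2, 3, 8, 7, 6, 5, 4, 3, 2, 1], 0)),
  (2799, 1, ([2, 3, 8, 4, 5, 2, 3, 4, 1, 2, 3, 8, 9, 6, 5, 4, 2, 3, 8, 7, 6, 5, 4, 3, 2, 1], 0)),
  (5795, 1, ([6, 4, 5, 3, 4, 2, 3, 8, 9, 5, 3, 4, 1, 2, 3, 8, 7, 6, 5, 4, 3, 2, 1], 0)),
  (2802, 1, ([3, 8, 3, 4, 5, 2, 3, 4, 1, 2, 3, 8, 9, 6, 5, 4, 2, 3, 8, 7, 6, 5, 4, 3, 2, 1], 0)),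
  (5941, 1, ([5, 6, 4, 5, 3, 4, 2, 3, 8, 9, 4, 5, 3, 4, 1, 2, 3, 8, 7, 6, 5, 4, 3, 2, 1], 0)),
  (2805, 501, ([6, 5, 2, 3, 4, 1, 2, 3, 8, 9, 8, 5, 6, 4, 5, 3, 4, 1, 2, 3, 8, 7, 6, 5, 4, 3, 2, 1], 0)),
  (4727, 1, ([6, 5, 3, 4, 0, 1, 2, 3, 8, 9, 6, 4, 5, 3, 4, 1, 2, 3, 8, 7, 6, 5, 4, 3, 2, 1], 0)),
  (5740, 1, ([7, 6, 5, 4, 2, 3, 8, 9, 3, 4, 1, 2, 3, 8, 7, 6, 5, 4, 3, 2, 1], 0)),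
  (2810, 1, ([8, 6, 5, 3, 4, 1, 2, 3, 8, 9, 8, 5, 6, 4, 5, 3, 4, 1, 2, 3, 8, 7, 6, 5, 4, 3, 2, 1], 0)),
  (8414, 2, ([5, 4, 3, 8, 5, 2, 3, 4, 1, 2, 3, 8, 9, 5, 3, 4, 1, 2, 3, 8, 7, 6, 5, 4, 3, 2, 1], 0)),
  (2813, 1, ([7, 6, 4, 5, 3, 4, 2, 3, 8, 9, 8, 5, 6, 4, 5, 3, 4, 1, 2, 3, 8, 7, 6, 5, 4, 3, 2, 1], 0)),
  (7200, 1, ([4, 5, 2, 3, 4, 1, 2, 3, 8, 9, 5, 3, 4, 1, 2, 3, 8, 7, 6, 5, 4, 3, 2, 1], 0)),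
  (8886, 1, ([9, 8, 7, 6, 5, 3, 4, 1, 2, 3, 8, 9, 6, 5, 3, 4, 1, 2, 3, 8, 7, 6, 5, 4, 3, 2, 1], 0)),
  (2820, 1, ([5, 2, 3, 4, 1, 2, 3, 8, 9, 5, 4, 2, 3, 8, 6, 5, 4, 3, 2, 1], 0)),
  (2822, 500, ([5, 2, 3, 4, 0, 1, 2, 3, 8, 9, 5, 4, 1, 2, 3, 8, 6, 5, 4, 3, 2, 1], 0)),
  (2824, 1, ([6, 5, 2, 3, 4, 0, 1, 2, 3, 8, 9, 5, 4, 2, 3, 8, 6, 5, 4, 3, 2, 1], 0)),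
  (2827, 1, ([8, 5, 3, 4, 2, 3, 8, 9, 3, 8, 4, 5, 3, 4, 1, 2, 3, 8, 6, 5, 4, 3, 2, 1], 0)),
  (5214, 1, ([6, 5, 4, 1, 2, 3, 8, 9, 4, 1, 2, 3, 8, 7, 6, 5, 4, 3, 2, 1], 0)),
  (5232, 1, ([3, 4, 1, 2, 3, 8, 9, 4, 1, 2, 3, 8, 6, 5, 4, 3, 2, 1], 0)),
  (2830, 1, ([3, 4, 1, 2, 3, 8, 9, 5, 4, 1, 2, 3, 8, 7, 6, 5, 4, 3, 2, 1], 0)),
  (5299, 500, ([5, 3, 4, 2, 3, 8, 9, 4, 1, 2, 3, 8, 5, 4, 3, 2, 1], 0)),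
  (2832, 1, ([8, 2, 3, 4, 1, 2, 3, 8, 9, 5, 4, 1, 2, 3, 8, 7, 6, 5, 4, 3, 2, 1], 0)),
  (2833, 1, ([6, 5, 2, 3, 4, 1, 2, 3, 8, 9, 5, 4, 2, 3, 8, 7, 6, 5, 4, 3, 2, 1], 0)),
  (2838, 1, ([8, 5, 2, 3, 4, 0, 1, 2, 3, 8, 9, 5, 4, 1, 2, 3, 8, 7, 6, 5, 4, 3, 2, 1], 0)),
  (5717, 1, ([5, 3, 4, 1, 2, 3, 8, 9, 8, 3, 4, 1, 2, 3, 8, 6, 5, 4, 3, 2, 1], 0)),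
  (2840, 1, ([7, 6, 5, 2, 3, 4, 0, 1, 2, 3, 8, 9, 5, 4, 2, 3, 8, 7, 6, 5, 4, 3, 2, 1], 0)),
  (6133, 1, ([6, 4, 5, 2, 3, 4, 1, 2, 3, 8, 9, 5, 4, 1, 2, 3, 8, 6, 5, 4, 3, 2, 1], 0)),
  (2846, 500, ([5, 3, 4, 1, 2, 3, 8, 9, 6, 5, 4, 1, 2, 3, 8, 7, 6, 5, 4, 3, 2, 1], 0)),
  (2849, 1, ([6, 5, 2, 3, 4, 1, 2, 3, 8, 9, 6, 5, 4, 1, 2, 3, 8, 7, 6, 5, 4, 3, 2, 1], 0)),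
  (2852, 1, ([7, 6, 5, 2, 3, 4, 1, 2, 3, 8, 9, 6, 5, 4, 2, 3, 8, 7, 6, 5, 4, 3, 2, 1], 0)),
  (2853, 1, ([4, 5, 3, 4, 0, 1, 2, 3, 8, 9, 6, 5, 4, 1, 2, 3, 8, 7, 6, 5, 4, 3, 2, 1], 0)),
  (2855, 1, ([8, 5, 3, 4, 0, 1, 2, 3, 8, 9, 6, 5, 4, 1, 2, 3, 8, 7, 6, 5, 4, 3, 2, 1], 0)),
  (2856, 500, ([8, 3, 4, 0, 1, 2, 3, 8, 9, 6, 5, 3, 4, 1, 2, 3, 8, 7, 6, 5, 4, 3, 2, 1], 0)),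
  (2858, 1, ([6, 4, 5, 2, 3, 4, 0, 1, 2, 3, 8, 9, 6, 5, 4, 1, 2, 3, 8, 7, 6, 5, 4, 3, 2, 1], 0)),
  (2860, 1, ([7, 6, 5, 2, 3, 4, 0, 1, 2, 3, 8, 9, 6, 5, 4, 1, 2, 3, 8, 7, 6, 5, 4, 3, 2, 1], 0)),
  (2861, 1, ([8, 6, 5, 2, 3, 4, 0, 1, 2, 3, 8, 9, 6, 5, 4, 1, 2, 3, 8, 7, 6, 5, 4, 3, 2, 1], 0)),
  (2862, 2, ([9, 8, 5, 2, 3, 4, 0, 1, 2, 3, 8, 9, 6, 5, 4, 1, 2, 3, 8, 7, 6, 5, 4, 3, 2, 1], 0)),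
  (2866, 1, ([3, 8, 4, 5, 3, 4, 2, 3, 8, 9, 3, 8, 6, 4, 5, 3, 4, 1, 2, 3, 8, 7, 6, 5, 4, 3, 2, 1], 0)),
  (6842, 1, ([6, 5, 4, 0, 1, 2, 3, 8, 9, 3, 4, 5, 2, 3, 4, 1, 2, 3, 8, 7, 6, 5, 4, 3, 2, 1], 0)),
  (5447, 501, ([8, 5, 2, 3, 4, 1, 2, 3, 8, 9, 8, 6, 5, 2, 3, 4, 1, 2, 3, 8, 7, 6, 5, 4, 3, 2, 1], 0)),
  (2870, 1, ([6, 3, 4, 5, 2, 3, 4, 1, 2, 3, 8, 9, 6, 5, 4, 1, 2, 3, 8, 7, 6, 5, 4, 3, 2, 1], 0)),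
  (5710, 1, ([5, 3, 4, 2, 3, 8, 9, 3, 4, 1, 2, 3, 8, 6, 5, 4, 3, 2, 1], 0)),
  (5819, 1, ([7, 6, 4, 5, 3, 4, 2, 3, 8, 9, 8, 5, 3, 4, 1, 2, 3, 8, 7, 6, 5, 4, 3, 2, 1], 0)),
  (8868, 501, ([9, 3, 8, 4, 5, 3, 4, 2, 3, 8, 9, 6, 5, 4, 1, 2, 3, 8, 7, 6, 5, 4, 3, 2, 1], 0)),
  (6395, 1, ([6, 4, 5, 2, 3, 4, 1, 2, 3, 8, 9, 4, 5, 3, 4, 2, 3, 8, 7, 6, 5, 4, 3, 2, 1], 0)),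
  (5223, 1, ([6, 5, 3, 4, 0, 1, 2, 3, 8, 9, 5, 3, 4, 1, 2, 3, 8, 7, 6, 5, 4, 3, 2, 1], 0)),
  (11038, 1, ([5, 4, 3, 8, 7, 6, 5, 2, 3, 4, 1, 2, 3, 8, 9, 5, 3, 4, 2, 3, 8, 7, 6, 5, 4, 3, 2, 1], 0)),
  (8112, 1, ([9, 3, 8, 4, 5, 3, 4, 2, 3, 8, 9, 4, 1, 2, 3, 8, 7, 6, 5, 4, 3, 2, 1], 0)),
  (4627, 500, ([7, 6, 5, 3, 4, 2, 3, 8, 9, 6, 5, 3, 4, 1, 2, 3, 8, 7, 6, 5, 4, 3, 2, 1], 0)),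
  (4433, 501, ([7, 6, 5, 3, 4, 2, 3, 8, 9, 6, 4, 5, 2, 3, 4, 1, 2, 3, 8, 7, 6, 5, 4, 3, 2, 1], 0)),
  (6384, 1, ([8, 5, 2, 3, 4, 1, 2, 3, 8, 9, 4, 5, 3, 4, 2, 3, 8, 6, 5, 4, 3, 2, 1], 0)),
  (2935, 1, ([3, 4, 2, 3, 8, 9, 5, 3, 4, 2, 3, 8, 6, 5, 4, 3, 2, 1], 0)),
  (3188, 500, ([7, 6, 5, 4, 2, 3, 8, 9, 4, 2, 3, 8, 5, 4, 3, 2], 1)),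
  (2969, 1, ([2, 3, 4, 0, 1, 2, 3, 8, 9, 8, 6, 5, 3, 4, 2, 3, 8, 7, 6, 5, 4, 3, 2, 1], 0)),
  (8096, 1, ([8, 6, 5, 3, 4, 1, 2, 3, 8, 9, 3, 4, 1, 2, 3, 8, 7, 6, 5, 4, 3, 2, 1], 0)),
  (3187, 501, ([7, 6, 5, 4, 2, 3, 8, 9, 3, 4, 2, 3, 8, 6, 5, 4, 3, 2], 1)),
  (3005, 1, ([2, 3, 4, 1, 2, 3, 8, 9, 4, 5, 3, 4, 2, 3, 8, 7, 6, 5, 4, 3, 2, 1], 0)),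
  (8718, 1, ([5, 2, 3, 4, 0, 1, 2, 3, 8, 9, 2, 3, 4, 1, 2, 3, 8, 6, 5, 4, 3, 2, 1], 0)),
  (3028, 1, ([2, 3, 4, 0, 1, 2, 3, 8, 9, 6, 4, 5, 3, 4, 2, 3, 8, 7, 6, 5, 4, 3, 2, 1], 0)),
  (3031, 1, ([5, 2, 3, 4, 1, 2, 3, 8, 9, 6, 4, 5, 3, 4, 2, 3, 8, 7, 6, 5, 4, 3, 2, 1], 0)),
  (4189, 501, ([6, 4, 5, 3, 4, 1, 2, 3, 8, 9, 4, 5, 3, 4, 2, 3, 8, 7, 6, 5, 4, 3, 2], 1)),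
  (5364, 1, ([8, 5, 3, 4, 2, 3, 8, 9, 4, 1, 2, 3, 8, 6, 5, 4, 3, 2, 1], 0)),
  (3047, 3, ([6, 5, 2, 3, 4, 1, 2, 3, 8, 9, 8, 6, 4, 5, 3, 4, 2, 3, 8, 7, 6, 5, 4, 3, 2, 1], 0)),
  (5220, 1, ([6, 5, 4, 0, 1, 2, 3, 8, 9, 3, 4, 1, 2, 3, 8, 7, 6, 5, 4, 3, 2, 1], 0)),
  (3077, 1, ([1, 2, 3, 8, 4, 5, 3, 4, 1, 2, 3, 8, 9, 6, 5, 4, 2, 3, 8, 7, 6, 5, 4, 3, 2, 1], 0)),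
  (3078, 1, ([2, 3, 8, 4, 5, 3, 4, 1, 2, 3, 8, 9, 6, 5, 3, 4, 2, 3, 8, 7, 6, 5, 4, 3, 2, 1], 0)),
  (3079, 1, ([2, 3, 8, 6, 4, 5, 3, 4, 1, 2, 3, 8, 9, 6, 5, 4, 2, 3, 8, 7, 6, 5, 4, 3, 2, 1], 0)),
  (3213, 1, ([5, 2, 3, 4, 1, 2, 3, 8, 9, 4, 5, 3, 4, 2, 3, 8, 7, 6, 5, 4, 3, 2], 1)),
  (8071, 1, ([9, 8, 3, 4, 2, 3, 8, 9, 2, 3, 4, 1, 2, 3, 8, 6, 5, 4, 3, 2, 1], 0)),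
  (3195, 1, ([5, 3, 4, 2, 3, 8, 9, 5, 3, 4, 2, 3, 8, 6, 5, 4, 3, 2], 1)),
  (3102, 2, ([5, 4, 1, 2, 3, 8, 9, 5, 4, 1, 2, 3, 8, 7, 6, 5, 4, 3, 2, 1], 0)),
  (3120, 1, ([6, 5, 4, 1, 2, 3, 8, 9, 6, 5, 4, 1, 2, 3, 8, 7, 6, 5, 4, 3, 2, 1], 0)),
  (3122, 1, ([7, 6, 5, 4, 0, 1, 2, 3, 8, 9, 6, 5, 4, 1, 2, 3, 8, 7, 6, 5, 4, 3, 2, 1], 0)),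
  (3128, 1, ([1, 2, 3, 8, 9, 4, 1, 2, 3, 8, 6, 5, 4, 3, 2, 1], 0)),
  (3143, 500, ([4, 1, 2, 3, 8, 9, 4, 1, 2, 3, 8, 7, 6, 5, 4, 3, 2, 1], 0)),
  (3189, 1, ([6, 5, 4, 1, 2, 3, 8, 9, 8, 3, 4, 2, 3, 8, 7, 6, 5, 4, 3, 2], 1)),
  (3193, 1, ([7, 6, 5, 4, 2, 3, 8, 9, 8, 3, 4, 2, 3, 8, 7, 6, 5, 4, 3, 2], 1)),
  (3211, 1, ([7, 6, 5, 3, 4, 2, 3, 8, 9, 5, 3, 4, 2, 3, 8, 6, 5, 4, 3, 2], 1)),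
  (3866, 2, ([7, 6, 5, 4, 3, 8, 9, 8, 3, 4, 2, 3, 8, 6, 5, 4, 3, 2, 1], 0)),
  (3885, 1, ([3, 4, 1, 2, 3, 8, 9, 5, 3, 4, 2, 3, 8, 6, 5, 4, 3, 2, 1], 0)),
  (3901, 1, ([7, 6, 5, 4, 3, 8, 9, 5, 4, 2, 3, 8, 7, 6, 5, 4, 3, 2, 1], 0)),
  (3929, 500, ([7, 6, 5, 3, 4, 2, 3, 8, 9, 6, 5, 3, 4, 2, 3, 8, 7, 6, 5, 4, 3, 2, 1], 0)),
  (3325, 1, ([7, 6, 5, 4, 2, 3, 8, 9, 1, 2, 3, 8, 5, 4, 3, 2, 1], 0)),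
  (3326, 1, ([3, 8, 9, 3, 8, 2, 3, 4, 1, 2, 3, 8, 5, 4, 3, 2, 1], 0)),
  (3328, 2, ([6, 5, 3, 4, 2, 3, 8, 9, 1, 2, 3, 8, 5, 4, 3, 2, 1], 0)),
  (4532, 1, ([3, 4, 2, 3, 8, 9, 3, 4, 1, 2, 3, 8, 6, 5, 4, 3, 2, 1], 0)),
  (3334, 1, ([6, 4, 5, 3, 4, 2, 3, 8, 9, 1, 2, 3, 8, 6, 5, 4, 3, 2, 1], 0)),
  (4662, 500, ([6, 5, 3, 4, 2, 3, 8, 9, 4, 5, 3, 4, 1, 2, 3, 8, 6, 5, 4, 3, 2, 1], 0)),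
  (3337, 1, ([3, 4, 2, 3, 8, 9, 3, 8, 5, 2, 3, 4, 1, 2, 3, 8, 7, 6, 5, 4, 3, 2, 1], 0)),
  (3338, 1, ([7, 6, 4, 5, 3, 4, 2, 3, 8, 9, 4, 1, 2, 3, 8, 6, 5, 4, 3, 2, 1], 0)),
  (3339, 1, ([7, 6, 4, 5, 3, 4, 2, 3, 8, 9, 1, 2, 3, 8, 7, 6, 5, 4, 3, 2, 1], 0)),
  (3347, 500, ([3, 8, 9, 2, 3, 4, 1, 2, 3, 8, 5, 4, 3, 2, 1], 0)),
  (3350, 1, ([2, 3, 8, 9, 2, 3, 4, 1, 2, 3, 8, 6, 5, 4, 3, 2, 1], 0)),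
  (3353, 1, ([4, 2, 3, 8, 9, 8, 2, 3, 4, 1, 2, 3, 8, 6, 5, 4, 3, 2, 1], 0)),
  (3355, 1, ([1, 2, 3, 8, 9, 2, 3, 4, 1, 2, 3, 8, 7, 6, 5, 4, 3, 2, 1], 0)),
  (3360, 1, ([3, 4, 2, 3, 8, 9, 8, 2, 3, 4, 1, 2, 3, 8, 7, 6, 5, 4, 3, 2, 1], 0)),
  (3361, 2, ([5, 4, 2, 3, 8, 9, 8, 2, 3, 4, 1, 2, 3, 8, 7, 6, 5, 4, 3, 2, 1], 0)),
  (3363, 501, ([1, 2, 3, 8, 9, 5, 2, 3, 4, 1, 2, 3, 8, 6, 5, 4, 3, 2, 1], 0)),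
  (5349, 500, ([5, 4, 3, 8, 9, 2, 3, 4, 1, 2, 3, 8, 5, 4, 3, 2, 1], 0)),
  (3368, 1, ([3, 4, 2, 3, 8, 9, 8, 5, 2, 3, 4, 1, 2, 3, 8, 6, 5, 4, 3, 2, 1], 0)),
  (3371, 1, ([4, 1, 2, 3, 8, 9, 5, 2, 3, 4, 1, 2, 3, 8, 7, 6, 5, 4, 3, 2, 1], 0)),
  (3372, 1, ([3, 4, 2, 3, 8, 9, 5, 2, 3, 4, 1, 2, 3, 8, 7, 6, 5, 4, 3, 2, 1], 0)),
  (3373, 1, ([5, 4, 2, 3, 8, 9, 5, 2, 3, 4, 1, 2, 3, 8, 7, 6, 5, 4, 3, 2, 1], 0)),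
  (3406, 1, ([6, 5, 4, 3, 8, 9, 4, 5, 2, 3, 4, 1, 2, 3, 8, 6, 5, 4, 3, 2, 1], 0)),
  (3738, 1, ([3, 4, 1, 2, 3, 8, 9, 5, 4, 1, 2, 3, 8, 6, 5, 4, 3, 2, 1], 0)),
  (3378, 1, ([5, 3, 4, 2, 3, 8, 9, 8, 5, 2, 3, 4, 1, 2, 3, 8, 7, 6, 5, 4, 3, 2, 1], 0)),
  (6478, 1, ([6, 5, 3, 4, 0, 1, 2, 3, 8, 9, 4, 1, 2, 3, 8, 6, 5, 4, 3, 2, 1], 0)),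
  (8708, 1, ([4, 5, 3, 4, 1, 2, 3, 8, 9, 2, 3, 4, 1, 2, 3, 8, 5, 4, 3, 2, 1], 0)),
  (3387, 1, ([7, 6, 5, 4, 3, 8, 9, 6, 5, 2, 3, 4, 1, 2, 3, 8, 7, 6, 5, 4, 3, 2, 1], 0)),
  (3390, 1, ([2, 3, 4, 1, 2, 3, 8, 9, 8, 6, 5, 2, 3, 4, 1, 2, 3, 8, 7, 6, 5, 4, 3, 2, 1], 0)),
  (3393, 1, ([6, 5, 4, 1, 2, 3, 8, 9, 8, 6, 5, 2, 3, 4, 1, 2, 3, 8, 7, 6, 5, 4, 3, 2, 1], 0)),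
  (8766, 1, ([3, 4, 5, 2, 3, 4, 1, 2, 3, 8, 9, 3, 4, 1, 2, 3, 8, 6, 5, 4, 3, 2, 1], 0)),
  (8059, 500, ([9, 8, 3, 4, 2, 3, 8, 9, 1, 2, 3, 8, 7, 6, 5, 4, 3, 2, 1], 0)),
  (3403, 1, ([4, 1, 2, 3, 8, 9, 4, 5, 2, 3, 4, 1, 2, 3, 8, 6, 5, 4, 3, 2, 1], 0)),
  (3405, 1, ([5, 4, 2, 3, 8, 9, 4, 5, 2, 3, 4, 1, 2, 3, 8, 6, 5, 4, 3, 2, 1], 0)),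
  (3411, 1, ([8, 3, 4, 2, 3, 8, 9, 8, 4, 5, 2, 3, 4, 1, 2, 3, 8, 6, 5, 4, 3, 2, 1], 0)),
  (3416, 1, ([3, 4, 2, 3, 8, 9, 3, 4, 5, 2, 3, 4, 1, 2, 3, 8, 7, 6, 5, 4, 3, 2, 1], 0)),
  (3417, 1, ([5, 4, 2, 3, 8, 9, 3, 4, 5, 2, 3, 4, 1, 2, 3, 8, 7, 6, 5, 4, 3, 2, 1], 0)),
  (3422, 500, ([5, 3, 4, 2, 3, 8, 9, 4, 5, 2, 3, 4, 1, 2, 3, 8, 7, 6, 5, 4, 3, 2, 1], 0)),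
  (3425, 1, ([7, 6, 5, 4, 3, 8, 9, 4, 5, 2, 3, 4, 1, 2, 3, 8, 7, 6, 5, 4, 3, 2, 1], 0)),
  (3430, 501, ([8, 3, 4, 1, 2, 3, 8, 9, 8, 4, 5, 2, 3, 4, 1, 2, 3, 8, 7, 6, 5, 4, 3, 2, 1], 0)),
  (3432, 501, ([4, 5, 3, 4, 2, 3, 8, 9, 8, 4, 5, 2, 3, 4, 1, 2, 3, 8, 7, 6, 5, 4, 3, 2, 1], 0)),
  (6832, 500, ([2, 3, 8, 4, 5, 3, 4, 2, 3, 8, 9, 2, 3, 4, 1, 2, 3, 8, 6, 5, 4, 3, 2, 1], 0)),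
  (7179, 1, ([4, 5, 2, 3, 4, 1, 2, 3, 8, 9, 3, 4, 2, 3, 8, 7, 6, 5, 4, 3, 2, 1], 0)),
  (3436, 1, ([2, 3, 8, 6, 4, 5, 3, 4, 2, 3, 8, 9, 1, 2, 3, 8, 7, 6, 5, 4, 3, 2, 1], 0)),
  (7183, 1, ([3, 8, 2, 3, 4, 1, 2, 3, 8, 9, 8, 5, 3, 4, 1, 2, 3, 8, 6, 5, 4, 3, 2, 1], 0)),
  (3439, 1, ([5, 4, 1, 2, 3, 8, 9, 6, 3, 4, 5, 2, 3, 4, 1, 2, 3, 8, 7, 6, 5, 4, 3, 2, 1], 0)),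
  (3440, 3, ([5, 3, 4, 2, 3, 8, 9, 6, 3, 4, 5, 2, 3, 4, 1, 2, 3, 8, 7, 6, 5, 4, 3, 2, 1], 0)),
  (4297, 501, ([6, 5, 4, 2, 3, 8, 9, 8, 2, 3, 4, 1, 2, 3, 8, 7, 6, 5, 4, 3, 2, 1], 0)),
  (10647, 1, ([8, 3, 4, 5, 2, 3, 4, 1, 2, 3, 8, 9, 3, 4, 2, 3, 8, 7, 6, 5, 4, 3, 2, 1], 0)),
  (3449, 1, ([6, 5, 4, 1, 2, 3, 8, 9, 6, 4, 5, 2, 3, 4, 1, 2, 3, 8, 7, 6, 5, 4, 3, 2, 1], 0)),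
  (3450, 501, ([4, 5, 3, 4, 2, 3, 8, 9, 6, 4, 5, 2, 3, 4, 1, 2, 3, 8, 7, 6, 5, 4, 3, 2, 1], 0)),
  (3451, 1, ([6, 5, 3, 4, 2, 3, 8, 9, 6, 4, 5, 2, 3, 4, 1, 2, 3, 8, 7, 6, 5, 4, 3, 2, 1], 0)),
  (3452, 1, ([8, 5, 3, 4, 2, 3, 8, 9, 6, 4, 5, 2, 3, 4, 1, 2, 3, 8, 7, 6, 5, 4, 3, 2, 1], 0)),
  (3453, 500, ([9, 8, 3, 4, 2, 3, 8, 9, 6, 4, 5, 2, 3, 4, 1, 2, 3, 8, 7, 6, 5, 4, 3, 2, 1], 0))]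

/-- Representatives, part 7. -/
def reps11_7 : List (ℕ × ℕ × (List ℕ × ℕ)) := [(3454, 1, ([7, 6, 5, 4, 2, 3, 8, 9, 6, 4, 5, 2, 3, 4, 1, 2, 3, 8, 7, 6, 5, 4, 3, 2, 1], 0)),
  (3459, 1, ([5, 2, 3, 4, 1, 2, 3, 8, 9, 8, 6, 4, 5, 2, 3, 4, 1, 2, 3, 8, 7, 6, 5, 4, 3, 2, 1], 0)),
  (3460, 501, ([8, 2, 3, 4, 1, 2, 3, 8, 9, 8, 6, 4, 5, 2, 3, 4, 1, 2, 3, 8, 7, 6, 5, 4, 3, 2, 1], 0)),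
  (10668, 501, ([9, 8, 5, 6, 4, 5, 3, 4, 2, 3, 8, 9, 5, 2, 3, 4, 1, 2, 3, 8, 6, 5, 4, 3, 2, 1], 0)),
  (9624, 1, ([3, 8, 3, 4, 5, 2, 3, 4, 1, 2, 3, 8, 9, 5, 3, 4, 2, 3, 8, 6, 5, 4, 3, 2, 1], 0)),
  (7143, 1, ([6, 5, 2, 3, 4, 1, 2, 3, 8, 9, 3, 4, 2, 3, 8, 7, 6, 5, 4, 3, 2, 1], 0)),
  (3464, 1, ([9, 8, 3, 4, 1, 2, 3, 8, 9, 8, 6, 4, 5, 2, 3, 4, 1, 2, 3, 8, 7, 6, 5, 4, 3, 2, 1], 0)),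
  (3465, 1, ([1, 2, 3, 8, 5, 6, 4, 5, 3, 4, 2, 3, 8, 9, 1, 2, 3, 8, 7, 6, 5, 4, 3, 2, 1], 0)),
  (6482, 1, ([4, 5, 3, 4, 0, 1, 2, 3, 8, 9, 5, 3, 4, 1, 2, 3, 8, 6, 5, 4, 3, 2, 1], 0)),
  (3470, 501, ([9, 8, 5, 3, 4, 2, 3, 8, 9, 8, 6, 4, 5, 2, 3, 4, 1, 2, 3, 8, 7, 6, 5, 4, 3, 2, 1], 0)),
  (7680, 1, ([3, 8, 6, 4, 5, 2, 3, 4, 0, 1, 2, 3, 8, 9, 5, 4, 1, 2, 3, 8, 6, 5, 4, 3, 2, 1], 0)),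
  (6569, 2, ([7, 6, 5, 4, 2, 3, 8, 9, 3, 4, 1, 2, 3, 8, 6, 5, 4, 3, 2, 1], 0)),
  (3479, 1, ([6, 5, 3, 4, 2, 3, 8, 9, 5, 6, 3, 4, 5, 2, 3, 4, 1, 2, 3, 8, 7, 6, 5, 4, 3, 2, 1], 0)),
  (3484, 1, ([5, 2, 3, 4, 1, 2, 3, 8, 9, 5, 6, 4, 5, 2, 3, 4, 1, 2, 3, 8, 7, 6, 5, 4, 3, 2, 1], 0)),
  (4618, 1, ([5, 2, 3, 4, 1, 2, 3, 8, 9, 6, 5, 3, 4, 1, 2, 3, 8, 7, 6, 5, 4, 3, 2, 1], 0)),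
  (7231, 501, ([7, 6, 5, 2, 3, 4, 1, 2, 3, 8, 9, 8, 5, 3, 4, 1, 2, 3, 8, 7, 6, 5, 4, 3, 2, 1], 0)),
  (4693, 1, ([6, 4, 5, 3, 4, 2, 3, 8, 9, 4, 5, 3, 4, 1, 2, 3, 8, 7, 6, 5, 4, 3, 2, 1], 0)),
  (7243, 1, ([9, 8, 6, 5, 3, 4, 1, 2, 3, 8, 9, 8, 5, 3, 4, 1, 2, 3, 8, 7, 6, 5, 4, 3, 2, 1], 0)),
  (7209, 500, ([5, 6, 4, 5, 3, 4, 2, 3, 8, 9, 5, 3, 4, 1, 2, 3, 8, 7, 6, 5, 4, 3, 2, 1], 0)),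
  (3544, 1, ([5, 3, 4, 2, 3, 8, 9, 8, 3, 4, 1, 2, 3, 8, 7, 6, 5, 4, 3, 2, 1], 0)),
  (8152, 1, ([3, 8, 4, 5, 3, 4, 2, 3, 8, 9, 5, 2, 3, 4, 1, 2, 3, 8, 7, 6, 5, 4, 3, 2, 1], 0)),
  (4623, 500, ([9, 8, 3, 4, 1, 2, 3, 8, 9, 6, 5, 3, 4, 1, 2, 3, 8, 7, 6, 5, 4, 3, 2, 1], 0)),
  (3504, 501, ([3, 4, 1, 2, 3, 8, 5, 6, 4, 5, 3, 4, 2, 3, 8, 9, 1, 2, 3, 8, 7, 6, 5, 4, 3, 2, 1], 0)),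
  (3506, 2, ([2, 3, 8, 3, 4, 5, 2, 3, 4, 1, 2, 3, 8, 9, 6, 5, 4, 2, 3, 8, 7, 6, 5, 4, 3, 2, 1], 0)),
  (5129, 2, ([4, 5, 2, 3, 4, 0, 1, 2, 3, 8, 9, 6, 4, 5, 3, 4, 2, 3, 8, 7, 6, 5, 4, 3, 2, 1], 0)),
  (3508, 1, ([3, 4, 2, 3, 8, 5, 6, 4, 5, 3, 4, 2, 3, 8, 9, 4, 1, 2, 3, 8, 7, 6, 5, 4, 3, 2, 1], 0)),
  (5790, 1, ([4, 5, 3, 4, 1, 2, 3, 8, 9, 5, 3, 4, 1, 2, 3, 8, 7, 6, 5, 4, 3, 2, 1], 0)),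
  (6836, 500, ([9, 8, 4, 5, 3, 4, 2, 3, 8, 9, 8, 4, 5, 2, 3, 4, 1, 2, 3, 8, 6, 5, 4, 3, 2, 1], 0)),
  (4298, 1, ([8, 6, 5, 3, 4, 2, 3, 8, 9, 1, 2, 3, 8, 7, 6, 5, 4, 3, 2, 1], 0)),
  (3513, 501, ([9, 8, 6, 5, 3, 4, 2, 3, 8, 9, 8, 5, 6, 4, 5, 2, 3, 4, 1, 2, 3, 8, 7, 6, 5, 4, 3, 2, 1], 0)),
  (3520, 1, ([4, 2, 3, 8, 9, 8, 3, 4, 1, 2, 3, 8, 5, 4, 3, 2, 1], 0)),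
  (3523, 1, ([2, 3, 8, 9, 4, 1, 2, 3, 8, 6, 5, 4, 3, 2, 1], 0)),
  (3525, 1, ([1, 2, 3, 8, 9, 3, 4, 1, 2, 3, 8, 6, 5, 4, 3, 2, 1], 0)),
  (3529, 1, ([4, 1, 2, 3, 8, 9, 8, 3, 4, 1, 2, 3, 8, 6, 5, 4, 3, 2, 1], 0)),
  (3531, 1, ([5, 4, 2, 3, 8, 9, 8, 3, 4, 1, 2, 3, 8, 6, 5, 4, 3, 2, 1], 0)),
  (3538, 1, ([3, 4, 2, 3, 8, 9, 3, 4, 1, 2, 3, 8, 7, 6, 5, 4, 3, 2, 1], 0)),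
  (3539, 1, ([5, 4, 2, 3, 8, 9, 3, 4, 1, 2, 3, 8, 7, 6, 5, 4, 3, 2, 1], 0)),
  (3543, 1, ([5, 4, 1, 2, 3, 8, 9, 8, 3, 4, 1, 2, 3, 8, 7, 6, 5, 4, 3, 2, 1], 0)),
  (7104, 1, ([3, 4, 1, 2, 3, 8, 9, 3, 4, 1, 2, 3, 8, 5, 4, 3, 2, 1], 0)),
  (3551, 1, ([3, 4, 2, 3, 8, 9, 5, 3, 4, 1, 2, 3, 8, 6, 5, 4, 3, 2, 1], 0)),
  (7112, 1, ([4, 5, 3, 4, 2, 3, 8, 9, 2, 3, 4, 1, 2, 3, 8, 5, 4, 3, 2, 1], 0)),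
  (3562, 1, ([5, 4, 2, 3, 8, 9, 5, 4, 1, 2, 3, 8, 7, 6, 5, 4, 3, 2, 1], 0)),
  (3564, 1, ([3, 4, 1, 2, 3, 8, 9, 5, 3, 4, 1, 2, 3, 8, 7, 6, 5, 4, 3, 2, 1], 0)),
  (3565, 1, ([5, 4, 1, 2, 3, 8, 9, 5, 3, 4, 1, 2, 3, 8, 7, 6, 5, 4, 3, 2, 1], 0)),
  (4276, 1, ([4, 3, 8, 9, 2, 3, 4, 1, 2, 3, 8, 5, 4, 3, 2, 1], 0)),
  (6638, 3, ([6, 5, 4, 2, 3, 8, 9, 2, 3, 4, 1, 2, 3, 8, 6, 5, 4, 3, 2, 1], 0)),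
  (9769, 500, ([5, 3, 4, 1, 2, 3, 8, 9, 2, 3, 4, 1, 2, 3, 8, 5, 4, 3, 2, 1], 0)),
  (3575, 1, ([6, 5, 4, 1, 2, 3, 8, 9, 8, 5, 3, 4, 1, 2, 3, 8, 7, 6, 5, 4, 3, 2, 1], 0)),
  (3576, 1, ([4, 5, 3, 4, 2, 3, 8, 9, 8, 5, 3, 4, 1, 2, 3, 8, 7, 6, 5, 4, 3, 2, 1], 0)),
  (3577, 3, ([6, 5, 3, 4, 2, 3, 8, 9, 8, 5, 3, 4, 1, 2, 3, 8, 7, 6, 5, 4, 3, 2, 1], 0)),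
  (3578, 1, ([8, 5, 3, 4, 2, 3, 8, 9, 8, 5, 3, 4, 1, 2, 3, 8, 7, 6, 5, 4, 3, 2, 1], 0)),
  (3580, 1, ([7, 6, 5, 4, 2, 3, 8, 9, 8, 5, 3, 4, 1, 2, 3, 8, 7, 6, 5, 4, 3, 2, 1], 0)),
  (3583, 1, ([6, 5, 4, 2, 3, 8, 9, 6, 5, 4, 1, 2, 3, 8, 7, 6, 5, 4, 3, 2, 1], 0)),
  (3586, 500, ([5, 3, 4, 1, 2, 3, 8, 9, 6, 5, 3, 4, 1, 2, 3, 8, 7, 6, 5, 4, 3, 2, 1], 0)),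
  (4561, 2, ([8, 5, 3, 4, 2, 3, 8, 9, 8, 3, 4, 1, 2, 3, 8, 7, 6, 5, 4, 3, 2, 1], 0)),
  (3594, 500, ([2, 3, 4, 0, 1, 2, 3, 8, 9, 8, 6, 5, 3, 4, 1, 2, 3, 8, 7, 6, 5, 4, 3, 2, 1], 0)),
  (3599, 1, ([8, 2, 3, 4, 1, 2, 3, 8, 9, 8, 6, 5, 3, 4, 1, 2, 3, 8, 7, 6, 5, 4, 3, 2, 1], 0)),
  (5764, 1, ([8, 5, 3, 4, 2, 3, 8, 9, 5, 3, 4, 1, 2, 3, 8, 6, 5, 4, 3, 2, 1], 0)),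
  (3603, 1, ([9, 8, 3, 4, 1, 2, 3, 8, 9, 8, 6, 5, 3, 4, 1, 2, 3, 8, 7, 6, 5, 4, 3, 2, 1], 0)),
  (4122, 1, ([8, 3, 4, 0, 1, 2, 3, 8, 9, 4, 1, 2, 3, 8, 7, 6, 5, 4, 3, 2, 1], 0)),
  (6554, 1, ([5, 4, 2, 3, 8, 9, 4, 1, 2, 3, 8, 5, 4, 3, 2, 1], 0)),
  (3744, 1, ([4, 5, 2, 3, 4, 0, 1, 2, 3, 8, 9, 5, 4, 1, 2, 3, 8, 6, 5, 4, 3, 2, 1], 0)),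
  (3609, 1, ([9, 8, 5, 3, 4, 2, 3, 8, 9, 8, 6, 5, 3, 4, 1, 2, 3, 8, 7, 6, 5, 4, 3, 2, 1], 0)),
  (3612, 2, ([5, 4, 1, 2, 3, 8, 9, 4, 5, 3, 4, 1, 2, 3, 8, 6, 5, 4, 3, 2, 1], 0)),
  (3613, 500, ([5, 3, 4, 2, 3, 8, 9, 4, 5, 3, 4, 1, 2, 3, 8, 6, 5, 4, 3, 2, 1], 0)),
  (6558, 1, ([6, 5, 4, 1, 2, 3, 8, 9, 4, 1, 2, 3, 8, 5, 4, 3, 2, 1], 0)),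
  (3615, 1, ([6, 5, 4, 2, 3, 8, 9, 4, 5, 3, 4, 1, 2, 3, 8, 6, 5, 4, 3, 2, 1], 0)),
  (6551, 2, ([6, 5, 4, 2, 3, 8, 9, 1, 2, 3, 8, 7, 6, 5, 4, 3, 2, 1], 0)),
  (3620, 500, ([5, 3, 4, 1, 2, 3, 8, 9, 8, 4, 5, 3, 4, 1, 2, 3, 8, 6, 5, 4, 3, 2, 1], 0)),
  (3621, 500, ([8, 3, 4, 1, 2, 3, 8, 9, 8, 4, 5, 3, 4, 1, 2, 3, 8, 6, 5, 4, 3, 2, 1], 0)),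
  (3623, 1, ([4, 5, 3, 4, 2, 3, 8, 9, 8, 4, 5, 3, 4, 1, 2, 3, 8, 6, 5, 4, 3, 2, 1], 0)),
  (3627, 1, ([7, 6, 5, 4, 2, 3, 8, 9, 8, 4, 5, 3, 4, 1, 2, 3, 8, 6, 5, 4, 3, 2, 1], 0)),
  (5705, 1, ([3, 4, 2, 3, 8, 9, 4, 1, 2, 3, 8, 6, 5, 4, 3, 2, 1], 0)),
  (5233, 500, ([4, 1, 2, 3, 8, 9, 4, 1, 2, 3, 8, 5, 4, 3, 2, 1], 0)),
  (3633, 1, ([6, 5, 4, 1, 2, 3, 8, 9, 4, 5, 3, 4, 1, 2, 3, 8, 7, 6, 5, 4, 3, 2, 1], 0)),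
  (5759, 1, ([5, 3, 4, 1, 2, 3, 8, 9, 5, 3, 4, 1, 2, 3, 8, 6, 5, 4, 3, 2, 1], 0)),
  (3635, 500, ([6, 5, 3, 4, 2, 3, 8, 9, 4, 5, 3, 4, 1, 2, 3, 8, 7, 6, 5, 4, 3, 2, 1], 0)),
  (3636, 1, ([8, 5, 3, 4, 2, 3, 8, 9, 4, 5, 3, 4, 1, 2, 3, 8, 7, 6, 5, 4, 3, 2, 1], 0)),
  (3637, 1, ([9, 8, 3, 4, 2, 3, 8, 9, 4, 5, 3, 4, 1, 2, 3, 8, 7, 6, 5, 4, 3, 2, 1], 0)),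
  (3638, 1, ([7, 6, 5, 4, 2, 3, 8, 9, 4, 5, 3, 4, 1, 2, 3, 8, 7, 6, 5, 4, 3, 2, 1], 0)),
  (3644, 501, ([8, 2, 3, 4, 1, 2, 3, 8, 9, 8, 4, 5, 3, 4, 1, 2, 3, 8, 7, 6, 5, 4, 3, 2, 1], 0)),
  (3887, 1, ([5, 3, 4, 2, 3, 8, 9, 5, 3, 4, 2, 3, 8, 6, 5, 4, 3, 2, 1], 0)),
  (7109, 500, ([5, 3, 4, 1, 2, 3, 8, 9, 8, 3, 4, 1, 2, 3, 8, 5, 4, 3, 2, 1], 0)),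
  (3655, 500, ([2, 3, 4, 0, 1, 2, 3, 8, 9, 6, 4, 5, 3, 4, 1, 2, 3, 8, 7, 6, 5, 4, 3, 2, 1], 0)),
  (3658, 1, ([6, 5, 4, 0, 1, 2, 3, 8, 9, 6, 4, 5, 3, 4, 1, 2, 3, 8, 7, 6, 5, 4, 3, 2, 1], 0)),
  (3659, 501, ([5, 2, 3, 4, 1, 2, 3, 8, 9, 6, 4, 5, 3, 4, 1, 2, 3, 8, 7, 6, 5, 4, 3, 2, 1], 0)),
  (3661, 1, ([4, 5, 3, 4, 1, 2, 3, 8, 9, 6, 4, 5, 3, 4, 1, 2, 3, 8, 7, 6, 5, 4, 3, 2, 1], 0)),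
  (3663, 501, ([8, 5, 3, 4, 1, 2, 3, 8, 9, 6, 4, 5, 3, 4, 1, 2, 3, 8, 7, 6, 5, 4, 3, 2, 1], 0)),
  (3666, 1, ([6, 4, 5, 3, 4, 2, 3, 8, 9, 6, 4, 5, 3, 4, 1, 2, 3, 8, 7, 6, 5, 4, 3, 2, 1], 0)),
  (3669, 1, ([8, 6, 5, 3, 4, 2, 3, 8, 9, 6, 4, 5, 3, 4, 1, 2, 3, 8, 7, 6, 5, 4, 3, 2, 1], 0)),
  (7358, 1, ([3, 8, 5, 2, 3, 4, 1, 2, 3, 8, 9, 5, 3, 4, 1, 2, 3, 8, 6, 5, 4, 3, 2, 1], 0)),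
  (3673, 1, ([3, 8, 2, 3, 4, 1, 2, 3, 8, 9, 6, 5, 3, 4, 1, 2, 3, 8, 7, 6, 5, 4, 3, 2, 1], 0)),
  (6704, 1, ([6, 4, 5, 3, 4, 2, 3, 8, 9, 5, 2, 3, 4, 1, 2, 3, 8, 7, 6, 5, 4, 3, 2, 1], 0)),
  (3676, 501, ([3, 8, 5, 2, 3, 4, 1, 2, 3, 8, 9, 6, 5, 4, 1, 2, 3, 8, 7, 6, 5, 4, 3, 2, 1], 0)),
  (6692, 1, ([3, 8, 4, 5, 3, 4, 2, 3, 8, 9, 3, 4, 1, 2, 3, 8, 6, 5, 4, 3, 2, 1], 0)),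
  (6698, 2, ([8, 2, 3, 4, 1, 2, 3, 8, 9, 5, 2, 3, 4, 1, 2, 3, 8, 7, 6, 5, 4, 3, 2, 1], 0)),
  (3681, 1, ([8, 5, 2, 3, 4, 1, 2, 3, 8, 9, 8, 6, 4, 5, 3, 4, 1, 2, 3, 8, 7, 6, 5, 4, 3, 2, 1], 0)),
  (5842, 1, ([3, 8, 4, 5, 3, 4, 2, 3, 8, 9, 6, 5, 3, 4, 1, 2, 3, 8, 7, 6, 5, 4, 3, 2, 1], 0)),
  (7210, 1, ([7, 6, 4, 5, 3, 4, 2, 3, 8, 9, 5, 3, 4, 1, 2, 3, 8, 7, 6, 5, 4, 3, 2, 1], 0)),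
  (9851, 1, ([8, 4, 5, 2, 3, 4, 1, 2, 3, 8, 9, 5, 2, 3, 4, 1, 2, 3, 8, 7, 6, 5, 4, 3, 2, 1], 0)),
  (4670, 1, ([5, 2, 3, 4, 1, 2, 3, 8, 9, 8, 4, 5, 3, 4, 1, 2, 3, 8, 6, 5, 4, 3, 2, 1], 0)),
  (3692, 501, ([3, 8, 4, 5, 3, 4, 2, 3, 8, 9, 8, 6, 4, 5, 3, 4, 1, 2, 3, 8, 7, 6, 5, 4, 3, 2, 1], 0)),
  (6797, 1, ([8, 9, 2, 3, 8, 4, 5, 3, 4, 2, 3, 8, 9, 1, 2, 3, 8, 7, 6, 5, 4, 3, 2, 1], 0)),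
  (6719, 1, ([8, 5, 2, 3, 4, 1, 2, 3, 8, 9, 8, 5, 2, 3, 4, 1, 2, 3, 8, 7, 6, 5, 4, 3, 2, 1], 0)),
  (4404, 1, ([6, 4, 5, 3, 4, 2, 3, 8, 9, 8, 4, 5, 2, 3, 4, 1, 2, 3, 8, 7, 6, 5, 4, 3, 2, 1], 0)),
  (5057, 2, ([8, 5, 2, 3, 4, 0, 1, 2, 3, 8, 9, 6, 4, 5, 3, 4, 2, 3, 8, 7, 6, 5, 4, 3, 2, 1], 0)),
  (3703, 501, ([7, 6, 5, 3, 4, 1, 2, 3, 8, 9, 5, 6, 4, 5, 3, 4, 1, 2, 3, 8, 7, 6, 5, 4, 3, 2, 1], 0)),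
  (3706, 1, ([7, 6, 4, 5, 3, 4, 2, 3, 8, 9, 5, 6, 4, 5, 3, 4, 1, 2, 3, 8, 7, 6, 5, 4, 3, 2, 1], 0)),
  (3712, 1, ([4, 2, 3, 8, 4, 5, 2, 3, 4, 1, 2, 3, 8, 9, 6, 5, 4, 2, 3, 8, 7, 6, 5, 4, 3, 2, 1], 0)),
  (3713, 1, ([2, 3, 8, 6, 4, 5, 2, 3, 4, 1, 2, 3, 8, 9, 6, 5, 4, 2, 3, 8, 7, 6, 5, 4, 3, 2, 1], 0)),
  (7160, 1, ([5, 2, 3, 4, 1, 2, 3, 8, 9, 5, 3, 4, 1, 2, 3, 8, 6, 5, 4, 3, 2, 1], 0)),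
  (5368, 1, ([5, 3, 4, 2, 3, 8, 9, 2, 3, 4, 1, 2, 3, 8, 7, 6, 5, 4, 3, 2, 1], 0)),
  (4765, 501, ([8, 2, 3, 4, 0, 1, 2, 3, 8, 9, 6, 5, 2, 3, 4, 1, 2, 3, 8, 7, 6, 5, 4, 3, 2, 1], 0)),
  (5506, 1, ([7, 6, 5, 4, 2, 3, 8, 9, 3, 4, 5, 2, 3, 4, 1, 2, 3, 8, 7, 6, 5, 4, 3, 2, 1], 0)),
  (4629, 501, ([9, 8, 5, 3, 4, 2, 3, 8, 9, 6, 5, 3, 4, 1, 2, 3, 8, 7, 6, 5, 4, 3, 2, 1], 0)),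
  (5579, 1, ([7, 6, 5, 3, 4, 1, 2, 3, 8, 9, 6, 4, 5, 2, 3, 4, 1, 2, 3, 8, 7, 6, 5, 4, 3, 2, 1], 0)),
  (4558, 1, ([6, 5, 4, 1, 2, 3, 8, 9, 8, 3, 4, 1, 2, 3, 8, 7, 6, 5, 4, 3, 2, 1], 0)),
  (7135, 1, ([8, 5, 3, 4, 1, 2, 3, 8, 9, 3, 4, 1, 2, 3, 8, 7, 6, 5, 4, 3, 2, 1], 0)),
  (6375, 1, ([2, 3, 8, 4, 5, 3, 4, 1, 2, 3, 8, 9, 8, 6, 5, 3, 4, 2, 3, 8, 7, 6, 5, 4, 3, 2, 1], 0)),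
  (11052, 1, ([4, 2, 3, 8, 6, 4, 5, 2, 3, 4, 1, 2, 3, 8, 9, 5, 4, 1, 2, 3, 8, 7, 6, 5, 4, 3, 2, 1], 0)),
  (9707, 501, ([5, 6, 4, 5, 3, 4, 0, 1, 2, 3, 8, 9, 3, 4, 1, 2, 3, 8, 7, 6, 5, 4, 3, 2, 1], 0)),
  (3740, 501, ([8, 2, 3, 4, 1, 2, 3, 8, 9, 5, 4, 1, 2, 3, 8, 6, 5, 4, 3, 2, 1], 0)),
  (3746, 501, ([8, 5, 2, 3, 4, 0, 1, 2, 3, 8, 9, 5, 4, 1, 2, 3, 8, 6, 5, 4, 3, 2, 1], 0)),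
  (3747, 1, ([9, 8, 2, 3, 4, 0, 1, 2, 3, 8, 9, 5, 4, 1, 2, 3, 8, 6, 5, 4, 3, 2, 1], 0)),
  (6315, 1, ([4, 5, 2, 3, 4, 1, 2, 3, 8, 9, 8, 3, 4, 2, 3, 8, 7, 6, 5, 4, 3, 2, 1], 0)),
  (3753, 501, ([9, 8, 5, 3, 4, 2, 3, 8, 9, 3, 8, 4, 5, 3, 4, 1, 2, 3, 8, 6, 5, 4, 3, 2, 1], 0)),
  (3754, 1, ([5, 3, 4, 1, 2, 3, 8, 9, 5, 4, 1, 2, 3, 8, 7, 6, 5, 4, 3, 2, 1], 0)),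
  (3755, 1, ([8, 3, 4, 1, 2, 3, 8, 9, 5, 4, 1, 2, 3, 8, 7, 6, 5, 4, 3, 2, 1], 0)),
  (5754, 1, ([5, 3, 4, 2, 3, 8, 9, 5, 4, 1, 2, 3, 8, 6, 5, 4, 3, 2, 1], 0)),
  (6577, 501, ([6, 5, 3, 4, 2, 3, 8, 9, 5, 4, 1, 2, 3, 8, 6, 5, 4, 3, 2, 1], 0)),
  (3760, 1, ([7, 6, 5, 2, 3, 4, 1, 2, 3, 8, 9, 5, 4, 2, 3, 8, 7, 6, 5, 4, 3, 2, 1], 0)),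
  (3762, 1, ([6, 5, 3, 4, 0, 1, 2, 3, 8, 9, 5, 4, 1, 2, 3, 8, 7, 6, 5, 4, 3, 2, 1], 0)),
  (3763, 501, ([8, 5, 3, 4, 0, 1, 2, 3, 8, 9, 5, 4, 1, 2, 3, 8, 7, 6, 5, 4, 3, 2, 1], 0)),
  (4282, 501, ([5, 4, 3, 8, 9, 2, 3, 4, 1, 2, 3, 8, 6, 5, 4, 3, 2, 1], 0)),
  (3766, 1, ([6, 4, 5, 2, 3, 4, 0, 1, 2, 3, 8, 9, 5, 4, 1, 2, 3, 8, 7, 6, 5, 4, 3, 2, 1], 0)),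
  (3769, 1, ([8, 6, 5, 2, 3, 4, 0, 1, 2, 3, 8, 9, 5, 4, 1, 2, 3, 8, 7, 6, 5, 4, 3, 2, 1], 0)),
  (7121, 501, ([5, 2, 3, 4, 1, 2, 3, 8, 9, 8, 3, 4, 1, 2, 3, 8, 6, 5, 4, 3, 2, 1], 0)),
  (8812, 1, ([9, 8, 7, 6, 5, 3, 4, 2, 3, 8, 9, 5, 3, 4, 1, 2, 3, 8, 7, 6, 5, 4, 3, 2, 1], 0)),
  (7149, 1, ([8, 6, 5, 3, 4, 1, 2, 3, 8, 9, 8, 3, 4, 1, 2, 3, 8, 7, 6, 5, 4, 3, 2, 1], 0)),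
  (3778, 1, ([4, 5, 3, 4, 1, 2, 3, 8, 9, 6, 5, 4, 1, 2, 3, 8, 7, 6, 5, 4, 3, 2, 1], 0)),
  (3781, 2, ([9, 8, 3, 4, 1, 2, 3, 8, 9, 6, 5, 4, 1, 2, 3, 8, 7, 6, 5, 4, 3, 2, 1], 0)),
  (3795, 500, ([5, 6, 4, 5, 2, 3, 4, 0, 1, 2, 3, 8, 9, 6, 5, 4, 1, 2, 3, 8, 7, 6, 5, 4, 3, 2, 1], 0)),
  (3799, 1, ([9, 8, 4, 5, 2, 3, 4, 0, 1, 2, 3, 8, 9, 6, 5, 4, 1, 2, 3, 8, 7, 6, 5, 4, 3, 2, 1], 0)),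
  (3800, 1, ([8, 7, 6, 5, 2, 3, 4, 0, 1, 2, 3, 8, 9, 6, 5, 4, 1, 2, 3, 8, 7, 6, 5, 4, 3, 2, 1], 0)),
  (3801, 1, ([9, 8, 6, 5, 2, 3, 4, 0, 1, 2, 3, 8, 9, 6, 5, 4, 1, 2, 3, 8, 7, 6, 5, 4, 3, 2, 1], 0)),
  (4542, 500, ([4, 2, 3, 8, 9, 1, 2, 3, 8, 7, 6, 5, 4, 3, 2, 1], 0)),
  (6481, 501, ([6, 5, 3, 4, 0, 1, 2, 3, 8, 9, 5, 3, 4, 1, 2, 3, 8, 6, 5, 4, 3, 2, 1], 0)),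
  (7378, 501, ([9, 8, 4, 5, 3, 4, 1, 2, 3, 8, 9, 8, 4, 5, 3, 4, 1, 2, 3, 8, 6, 5, 4, 3, 2, 1], 0)),
  (7379, 1, ([8, 7, 6, 5, 3, 4, 1, 2, 3, 8, 9, 8, 4, 5, 3, 4, 1, 2, 3, 8, 6, 5, 4, 3, 2, 1], 0)),
  (4058, 1, ([1, 2, 3, 8, 4, 5, 3, 4, 1, 2, 3, 8, 9, 6, 5, 3, 4, 2, 3, 8, 7, 6, 5, 4, 3, 2, 1], 0)),
  (5173, 1, ([8, 3, 4, 5, 2, 3, 4, 1, 2, 3, 8, 9, 5, 6, 4, 5, 3, 4, 2, 3, 8, 7, 6, 5, 4, 3, 2, 1], 0)),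
  (3810, 501, ([5, 6, 3, 4, 5, 2, 3, 4, 1, 2, 3, 8, 9, 6, 5, 4, 1, 2, 3, 8, 7, 6, 5, 4, 3, 2, 1], 0)),
  (10653, 1, ([9, 8, 4, 5, 2, 3, 4, 1, 2, 3, 8, 9, 8, 5, 3, 4, 1, 2, 3, 8, 6, 5, 4, 3, 2, 1], 0)),
  (3816, 501, ([9, 8, 6, 3, 4, 5, 2, 3, 4, 1, 2, 3, 8, 9, 6, 5, 4, 2, 3, 8, 7, 6, 5, 4, 3, 2, 1], 0)),
  (3817, 1, ([7, 5, 6, 3, 4, 5, 2, 3, 4, 0, 1, 2, 3, 8, 9, 6, 5, 4, 1, 2, 3, 8, 7, 6, 5, 4, 3, 2, 1], 0)),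
  (3820, 1, ([3, 8, 6, 3, 4, 5, 2, 3, 4, 0, 1, 2, 3, 8, 9, 6, 5, 4, 1, 2, 3, 8, 7, 6, 5, 4, 3, 2, 1], 0)),
  (4613, 1, ([4, 5, 3, 4, 2, 3, 8, 9, 6, 5, 4, 1, 2, 3, 8, 7, 6, 5, 4, 3, 2, 1], 0)),
  (9630, 2, ([3, 8, 3, 4, 5, 2, 3, 4, 1, 2, 3, 8, 9, 4, 5, 3, 4, 2, 3, 8, 7, 6, 5, 4, 3, 2, 1], 0)),
  (6620, 1, ([9, 8, 4, 5, 3, 4, 2, 3, 8, 9, 3, 8, 6, 5, 2, 3, 4, 1, 2, 3, 8, 7, 6, 5, 4, 3, 2, 1], 0)),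
  (6189, 1, ([7, 5, 6, 4, 5, 2, 3, 4, 0, 1, 2, 3, 8, 9, 5, 4, 1, 2, 3, 8, 7, 6, 5, 4, 3, 2, 1], 0)),
  (5535, 1, ([9, 8, 2, 3, 4, 1, 2, 3, 8, 9, 8, 4, 5, 2, 3, 4, 1, 2, 3, 8, 7, 6, 5, 4, 3, 2, 1], 0)),
  (3835, 501, ([8, 9, 3, 8, 4, 5, 3, 4, 2, 3, 8, 9, 3, 8, 5, 6, 4, 5, 3, 4, 1, 2, 3, 8, 7, 6, 5, 4, 3, 2, 1], 0)),
  (12090, 1, ([8, 9, 3, 8, 2, 3, 4, 1, 2, 3, 8, 9, 4, 5, 2, 3, 4, 1, 2, 3, 8, 6, 5, 4, 3, 2, 1], 0)),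
  (8278, 1, ([8, 5, 3, 4, 1, 2, 3, 8, 9, 3, 4, 5, 2, 3, 4, 1, 2, 3, 8, 6, 5, 4, 3, 2, 1], 0)),
  (3892, 2, ([2, 3, 4, 1, 2, 3, 8, 9, 8, 5, 3, 4, 2, 3, 8, 6, 5, 4, 3, 2, 1], 0)),
  (3908, 2, ([2, 3, 4, 0, 1, 2, 3, 8, 9, 8, 5, 3, 4, 2, 3, 8, 7, 6, 5, 4, 3, 2, 1], 0)),
  (3924, 1, ([5, 2, 3, 4, 1, 2, 3, 8, 9, 6, 5, 3, 4, 2, 3, 8, 7, 6, 5, 4, 3, 2, 1], 0)),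
  (3931, 1, ([5, 2, 3, 4, 0, 1, 2, 3, 8, 9, 8, 6, 5, 3, 4, 2, 3, 8, 7, 6, 5, 4, 3, 2, 1], 0)),
  (3937, 1, ([4, 5, 2, 3, 4, 1, 2, 3, 8, 9, 8, 6, 5, 3, 4, 2, 3, 8, 7, 6, 5, 4, 3, 2, 1], 0)),
  (3938, 2, ([6, 5, 2, 3, 4, 1, 2, 3, 8, 9, 8, 6, 5, 3, 4, 2, 3, 8, 7, 6, 5, 4, 3, 2, 1], 0)),
  (3955, 1, ([2, 3, 4, 1, 2, 3, 8, 9, 4, 5, 3, 4, 2, 3, 8, 6, 5, 4, 3, 2, 1], 0)),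
  (6548, 1, ([7, 6, 5, 4, 3, 8, 9, 2, 3, 8, 6, 5, 4, 3, 2, 1], 0)),
  (6634, 1, ([3, 4, 1, 2, 3, 8, 9, 2, 3, 4, 1, 2, 3, 8, 6, 5, 4, 3, 2, 1], 0)),
  (3977, 1, ([5, 2, 3, 4, 1, 2, 3, 8, 9, 4, 5, 3, 4, 2, 3, 8, 7, 6, 5, 4, 3, 2, 1], 0)),
  (5361, 1, ([5, 4, 1, 2, 3, 8, 9, 8, 2, 3, 4, 1, 2, 3, 8, 6, 5, 4, 3, 2, 1], 0)),
  (6305, 1, ([6, 5, 4, 0, 1, 2, 3, 8, 9, 3, 4, 1, 2, 3, 8, 6, 5, 4, 3, 2, 1], 0)),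
  (4007, 1, ([6, 5, 2, 3, 4, 1, 2, 3, 8, 9, 6, 4, 5, 3, 4, 2, 3, 8, 7, 6, 5, 4, 3, 2, 1], 0)),
  (6645, 1, ([8, 5, 3, 4, 1, 2, 3, 8, 9, 4, 1, 2, 3, 8, 6, 5, 4, 3, 2, 1], 0)),
  (4021, 1, ([8, 6, 5, 2, 3, 4, 1, 2, 3, 8, 9, 6, 5, 3, 4, 2, 3, 8, 7, 6, 5, 4, 3, 2, 1], 0)),
  (5722, 1, ([8, 5, 3, 4, 2, 3, 8, 9, 8, 3, 4, 1, 2, 3, 8, 6, 5, 4, 3, 2, 1], 0)),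
  (4027, 1, ([7, 6, 5, 2, 3, 4, 1, 2, 3, 8, 9, 8, 6, 4, 5, 3, 4, 2, 3, 8, 7, 6, 5, 4, 3, 2, 1], 0)),
  (4028, 1, ([6, 5, 2, 3, 4, 0, 1, 2, 3, 8, 9, 6, 5, 3, 4, 2, 3, 8, 7, 6, 5, 4, 3, 2, 1], 0)),
  (4615, 1, ([8, 5, 3, 4, 2, 3, 8, 9, 6, 5, 4, 1, 2, 3, 8, 7, 6, 5, 4, 3, 2, 1], 0)),
  (4043, 1, ([3, 4, 5, 2, 3, 4, 1, 2, 3, 8, 9, 5, 6, 4, 5, 3, 4, 2, 3, 8, 7, 6, 5, 4, 3, 2, 1], 0)),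
  (4540, 1, ([6, 5, 4, 2, 3, 8, 9, 8, 3, 4, 1, 2, 3, 8, 6, 5, 4, 3, 2, 1], 0)),
  (4060, 1, ([2, 3, 8, 4, 5, 2, 3, 4, 1, 2, 3, 8, 9, 6, 5, 3, 4, 2, 3, 8, 7, 6, 5, 4, 3, 2, 1], 0)),
  (4730, 1, ([7, 6, 5, 4, 0, 1, 2, 3, 8, 9, 6, 4, 5, 3, 4, 1, 2, 3, 8, 7, 6, 5, 4, 3, 2, 1], 0)),
  (4062, 1, ([2, 3, 8, 7, 6, 4, 5, 3, 4, 1, 2, 3, 8, 9, 6, 5, 4, 2, 3, 8, 7, 6, 5, 4, 3, 2, 1], 0)),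
  (4065, 501, ([6, 3, 4, 5, 2, 3, 4, 1, 2, 3, 8, 9, 8, 5, 6, 4, 5, 3, 4, 2, 3, 8, 7, 6, 5, 4, 3, 2, 1], 0)),
  (4890, 1, ([9, 8, 7, 6, 5, 3, 4, 2, 3, 8, 9, 3, 8, 4, 5, 3, 4, 1, 2, 3, 8, 7, 6, 5, 4, 3, 2, 1], 0)),
  (4067, 1, ([5, 6, 4, 5, 2, 3, 4, 1, 2, 3, 8, 9, 8, 5, 6, 4, 5, 3, 4, 2, 3, 8, 7, 6, 5, 4, 3, 2, 1], 0)),
  (7505, 1, ([3, 8, 5, 6, 4, 5, 3, 4, 2, 3, 8, 9, 6, 4, 5, 3, 4, 1, 2, 3, 8, 7, 6, 5, 4, 3, 2, 1], 0)),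
  (4084, 1, ([5, 4, 1, 2, 3, 8, 9, 4, 1, 2, 3, 8, 7, 6, 5, 4, 3, 2, 1], 0)),
  (4085, 2, ([6, 5, 4, 1, 2, 3, 8, 9, 5, 4, 1, 2, 3, 8, 7, 6, 5, 4, 3, 2, 1], 0)),
  (4102, 1, ([7, 6, 5, 4, 1, 2, 3, 8, 9, 6, 5, 4, 1, 2, 3, 8, 7, 6, 5, 4, 3, 2, 1], 0)),
  (4126, 1, ([2, 3, 4, 0, 1, 2, 3, 8, 9, 3, 4, 2, 3, 8, 7, 6, 5, 4, 3, 2, 1], 0)),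
  (6326, 1, ([6, 5, 2, 3, 4, 1, 2, 3, 8, 9, 8, 5, 3, 4, 2, 3, 8, 6, 5, 4, 3, 2, 1], 0)),
  (4241, 1, ([7, 6, 5, 4, 2, 3, 8, 9, 1, 2, 3, 8, 6, 5, 4, 3, 2, 1], 0)),
  (4244, 1, ([1, 2, 3, 8, 9, 3, 8, 2, 3, 4, 1, 2, 3, 8, 6, 5, 4, 3, 2, 1], 0)),
  (4245, 500, ([6, 5, 3, 4, 2, 3, 8, 9, 4, 1, 2, 3, 8, 5, 4, 3, 2, 1], 0))]

/-- Representatives, part 8. -/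
def reps11_8 : List (ℕ × ℕ × (List ℕ × ℕ)) := [(4246, 500, ([6, 5, 3, 4, 2, 3, 8, 9, 1, 2, 3, 8, 6, 5, 4, 3, 2, 1], 0)),
  (4248, 500, ([7, 6, 5, 3, 4, 1, 2, 3, 8, 9, 4, 1, 2, 3, 8, 5, 4, 3, 2, 1], 0)),
  (4249, 1, ([7, 6, 5, 4, 2, 3, 8, 9, 4, 1, 2, 3, 8, 5, 4, 3, 2, 1], 0)),
  (4254, 1, ([3, 4, 2, 3, 8, 9, 3, 8, 5, 2, 3, 4, 1, 2, 3, 8, 6, 5, 4, 3, 2, 1], 0)),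
  (4255, 1, ([6, 4, 5, 3, 4, 2, 3, 8, 9, 4, 1, 2, 3, 8, 6, 5, 4, 3, 2, 1], 0)),
  (4256, 1, ([4, 5, 3, 4, 2, 3, 8, 9, 1, 2, 3, 8, 6, 5, 4, 3, 2, 1], 0)),
  (4258, 1, ([3, 4, 1, 2, 3, 8, 9, 3, 8, 5, 2, 3, 4, 1, 2, 3, 8, 7, 6, 5, 4, 3, 2, 1], 0)),
  (4259, 1, ([7, 6, 4, 5, 3, 4, 1, 2, 3, 8, 9, 4, 1, 2, 3, 8, 6, 5, 4, 3, 2, 1], 0)),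
  (4260, 1, ([7, 6, 4, 5, 3, 4, 2, 3, 8, 9, 5, 4, 1, 2, 3, 8, 6, 5, 4, 3, 2, 1], 0)),
  (7128, 1, ([9, 8, 5, 3, 4, 2, 3, 8, 9, 2, 3, 4, 1, 2, 3, 8, 6, 5, 4, 3, 2, 1], 0)),
  (4262, 1, ([7, 6, 4, 5, 3, 4, 2, 3, 8, 9, 4, 1, 2, 3, 8, 7, 6, 5, 4, 3, 2, 1], 0)),
  (4263, 2, ([6, 4, 5, 3, 4, 2, 3, 8, 9, 1, 2, 3, 8, 7, 6, 5, 4, 3, 2, 1], 0)),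
  (4266, 500, ([2, 3, 4, 1, 2, 3, 8, 9, 3, 8, 6, 5, 2, 3, 4, 1, 2, 3, 8, 7, 6, 5, 4, 3, 2, 1], 0)),
  (7156, 1, ([9, 8, 6, 5, 3, 4, 2, 3, 8, 9, 2, 3, 4, 1, 2, 3, 8, 7, 6, 5, 4, 3, 2, 1], 0)),
  (4271, 500, ([7, 5, 6, 4, 5, 3, 4, 2, 3, 8, 9, 5, 4, 1, 2, 3, 8, 7, 6, 5, 4, 3, 2, 1], 0)),
  (5355, 1, ([4, 1, 2, 3, 8, 9, 2, 3, 4, 1, 2, 3, 8, 6, 5, 4, 3, 2, 1], 0)),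
  (4273, 1, ([9, 8, 3, 4, 2, 3, 8, 9, 3, 8, 6, 5, 2, 3, 4, 1, 2, 3, 8, 7, 6, 5, 4, 3, 2, 1], 0)),
  (4274, 1, ([5, 6, 4, 5, 3, 4, 2, 3, 8, 9, 4, 1, 2, 3, 8, 7, 6, 5, 4, 3, 2, 1], 0)),
  (4278, 1, ([4, 2, 3, 8, 9, 8, 2, 3, 4, 1, 2, 3, 8, 5, 4, 3, 2, 1], 0)),
  (4284, 1, ([4, 1, 2, 3, 8, 9, 8, 2, 3, 4, 1, 2, 3, 8, 6, 5, 4, 3, 2, 1], 0)),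
  (4285, 1, ([3, 4, 2, 3, 8, 9, 8, 2, 3, 4, 1, 2, 3, 8, 6, 5, 4, 3, 2, 1], 0)),
  (4286, 1, ([5, 4, 2, 3, 8, 9, 8, 2, 3, 4, 1, 2, 3, 8, 6, 5, 4, 3, 2, 1], 0)),
  (4289, 1, ([3, 4, 2, 3, 8, 9, 2, 3, 4, 1, 2, 3, 8, 7, 6, 5, 4, 3, 2, 1], 0)),
  (4295, 1, ([5, 3, 4, 2, 3, 8, 9, 8, 2, 3, 4, 1, 2, 3, 8, 7, 6, 5, 4, 3, 2, 1], 0)),
  (5347, 1, ([1, 2, 3, 8, 9, 2, 3, 4, 1, 2, 3, 8, 5, 4, 3, 2, 1], 0)),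
  (4304, 2, ([3, 4, 1, 2, 3, 8, 9, 8, 5, 2, 3, 4, 1, 2, 3, 8, 6, 5, 4, 3, 2, 1], 0)),
  (4517, 1, ([2, 3, 8, 9, 4, 1, 2, 3, 8, 5, 4, 3, 2, 1], 0)),
  (4544, 1, ([3, 4, 2, 3, 8, 9, 4, 1, 2, 3, 8, 7, 6, 5, 4, 3, 2, 1], 0)),
  (4311, 1, ([5, 4, 1, 2, 3, 8, 9, 5, 2, 3, 4, 1, 2, 3, 8, 7, 6, 5, 4, 3, 2, 1], 0)),
  (4312, 1, ([5, 3, 4, 2, 3, 8, 9, 5, 2, 3, 4, 1, 2, 3, 8, 7, 6, 5, 4, 3, 2, 1], 0)),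
  (4315, 500, ([7, 6, 5, 4, 3, 8, 9, 5, 2, 3, 4, 1, 2, 3, 8, 7, 6, 5, 4, 3, 2, 1], 0)),
  (4362, 1, ([6, 5, 4, 2, 3, 8, 9, 4, 5, 2, 3, 4, 1, 2, 3, 8, 6, 5, 4, 3, 2, 1], 0)),
  (4319, 1, ([5, 3, 4, 1, 2, 3, 8, 9, 8, 5, 2, 3, 4, 1, 2, 3, 8, 7, 6, 5, 4, 3, 2, 1], 0)),
  (4325, 500, ([9, 8, 3, 4, 2, 3, 8, 9, 8, 5, 2, 3, 4, 1, 2, 3, 8, 7, 6, 5, 4, 3, 2, 1], 0)),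
  (4331, 1, ([4, 5, 3, 4, 2, 3, 8, 9, 6, 5, 2, 3, 4, 1, 2, 3, 8, 7, 6, 5, 4, 3, 2, 1], 0)),
  (4333, 1, ([8, 5, 3, 4, 2, 3, 8, 9, 6, 5, 2, 3, 4, 1, 2, 3, 8, 7, 6, 5, 4, 3, 2, 1], 0)),
  (4335, 1, ([7, 6, 5, 4, 2, 3, 8, 9, 6, 5, 2, 3, 4, 1, 2, 3, 8, 7, 6, 5, 4, 3, 2, 1], 0)),
  (5328, 1, ([8, 7, 6, 4, 5, 3, 4, 2, 3, 8, 9, 5, 4, 1, 2, 3, 8, 6, 5, 4, 3, 2, 1], 0)),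
  (4340, 1, ([5, 2, 3, 4, 1, 2, 3, 8, 9, 8, 6, 5, 2, 3, 4, 1, 2, 3, 8, 7, 6, 5, 4, 3, 2, 1], 0)),
  (8133, 1, ([3, 8, 4, 5, 3, 4, 2, 3, 8, 9, 3, 4, 1, 2, 3, 8, 7, 6, 5, 4, 3, 2, 1], 0)),
  (7971, 2, ([4, 5, 3, 4, 0, 1, 2, 3, 8, 9, 5, 2, 3, 4, 1, 2, 3, 8, 6, 5, 4, 3, 2, 1], 0)),
  (4353, 500, ([4, 1, 2, 3, 8, 9, 3, 4, 5, 2, 3, 4, 1, 2, 3, 8, 6, 5, 4, 3, 2, 1], 0)),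
  (6639, 2, ([9, 8, 5, 3, 4, 2, 3, 8, 9, 1, 2, 3, 8, 7, 6, 5, 4, 3, 2, 1], 0)),
  (4358, 1, ([3, 4, 1, 2, 3, 8, 9, 4, 5, 2, 3, 4, 1, 2, 3, 8, 6, 5, 4, 3, 2, 1], 0)),
  (4363, 2, ([9, 3, 8, 4, 5, 3, 4, 2, 3, 8, 9, 1, 2, 3, 8, 7, 6, 5, 4, 3, 2, 1], 0)),
  (4586, 1, ([6, 5, 4, 2, 3, 8, 9, 5, 4, 1, 2, 3, 8, 7, 6, 5, 4, 3, 2, 1], 0)),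
  (4370, 1, ([4, 5, 3, 4, 2, 3, 8, 9, 8, 4, 5, 2, 3, 4, 1, 2, 3, 8, 6, 5, 4, 3, 2, 1], 0)),
  (4372, 501, ([8, 5, 3, 4, 2, 3, 8, 9, 8, 4, 5, 2, 3, 4, 1, 2, 3, 8, 6, 5, 4, 3, 2, 1], 0)),
  (6163, 1, ([6, 4, 5, 3, 4, 1, 2, 3, 8, 9, 5, 4, 1, 2, 3, 8, 7, 6, 5, 4, 3, 2, 1], 0)),
  (4374, 1, ([2, 3, 8, 4, 5, 3, 4, 2, 3, 8, 9, 1, 2, 3, 8, 7, 6, 5, 4, 3, 2, 1], 0)),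
  (4379, 1, ([8, 3, 4, 2, 3, 8, 9, 3, 4, 5, 2, 3, 4, 1, 2, 3, 8, 7, 6, 5, 4, 3, 2, 1], 0)),
  (4381, 500, ([7, 6, 5, 4, 3, 8, 9, 3, 4, 5, 2, 3, 4, 1, 2, 3, 8, 7, 6, 5, 4, 3, 2, 1], 0)),
  (4384, 1, ([2, 3, 4, 1, 2, 3, 8, 9, 4, 5, 2, 3, 4, 1, 2, 3, 8, 7, 6, 5, 4, 3, 2, 1], 0)),
  (4529, 500, ([4, 2, 3, 8, 9, 4, 1, 2, 3, 8, 6, 5, 4, 3, 2, 1], 0)),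
  (4395, 1, ([4, 3, 8, 2, 3, 4, 1, 2, 3, 8, 9, 5, 4, 1, 2, 3, 8, 7, 6, 5, 4, 3, 2, 1], 0)),
  (7888, 2, ([5, 2, 3, 4, 0, 1, 2, 3, 8, 9, 5, 2, 3, 4, 1, 2, 3, 8, 6, 5, 4, 3, 2, 1], 0)),
  (4399, 1, ([4, 5, 3, 4, 1, 2, 3, 8, 9, 8, 4, 5, 2, 3, 4, 1, 2, 3, 8, 7, 6, 5, 4, 3, 2, 1], 0)),
  (4401, 1, ([8, 5, 3, 4, 1, 2, 3, 8, 9, 8, 4, 5, 2, 3, 4, 1, 2, 3, 8, 7, 6, 5, 4, 3, 2, 1], 0)),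
  (4576, 1, ([5, 3, 4, 1, 2, 3, 8, 9, 8, 5, 3, 4, 1, 2, 3, 8, 6, 5, 4, 3, 2, 1], 0)),
  (7173, 1, ([5, 2, 3, 4, 0, 1, 2, 3, 8, 9, 8, 5, 3, 4, 1, 2, 3, 8, 6, 5, 4, 3, 2, 1], 0)),
  (5914, 1, ([8, 6, 5, 3, 4, 1, 2, 3, 8, 9, 8, 4, 5, 3, 4, 1, 2, 3, 8, 6, 5, 4, 3, 2, 1], 0)),
  (4416, 1, ([6, 5, 3, 4, 2, 3, 8, 9, 6, 3, 4, 5, 2, 3, 4, 1, 2, 3, 8, 7, 6, 5, 4, 3, 2, 1], 0)),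
  (4418, 1, ([9, 8, 3, 4, 2, 3, 8, 9, 6, 3, 4, 5, 2, 3, 4, 1, 2, 3, 8, 7, 6, 5, 4, 3, 2, 1], 0)),
  (4419, 1, ([7, 6, 5, 4, 2, 3, 8, 9, 6, 3, 4, 5, 2, 3, 4, 1, 2, 3, 8, 7, 6, 5, 4, 3, 2, 1], 0)),
  (7698, 1, ([8, 7, 6, 5, 3, 4, 1, 2, 3, 8, 9, 5, 4, 1, 2, 3, 8, 7, 6, 5, 4, 3, 2, 1], 0)),
  (6573, 500, ([2, 3, 4, 1, 2, 3, 8, 9, 3, 8, 5, 2, 3, 4, 1, 2, 3, 8, 6, 5, 4, 3, 2, 1], 0)),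
  (4426, 1, ([4, 5, 3, 4, 1, 2, 3, 8, 9, 6, 4, 5, 2, 3, 4, 1, 2, 3, 8, 7, 6, 5, 4, 3, 2, 1], 0)),
  (4690, 1, ([8, 5, 3, 4, 1, 2, 3, 8, 9, 4, 5, 3, 4, 1, 2, 3, 8, 7, 6, 5, 4, 3, 2, 1], 0)),
  (5518, 1, ([6, 4, 5, 3, 4, 2, 3, 8, 9, 4, 5, 2, 3, 4, 1, 2, 3, 8, 7, 6, 5, 4, 3, 2, 1], 0)),
  (4441, 1, ([5, 4, 3, 8, 2, 3, 4, 1, 2, 3, 8, 9, 6, 5, 4, 1, 2, 3, 8, 7, 6, 5, 4, 3, 2, 1], 0)),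
  (4696, 501, ([8, 6, 5, 3, 4, 2, 3, 8, 9, 4, 5, 3, 4, 1, 2, 3, 8, 7, 6, 5, 4, 3, 2, 1], 0)),
  (11755, 500, ([9, 8, 6, 4, 5, 3, 4, 2, 3, 8, 9, 5, 2, 3, 4, 1, 2, 3, 8, 6, 5, 4, 3, 2, 1], 0)),
  (7206, 1, ([7, 6, 5, 3, 4, 1, 2, 3, 8, 9, 5, 3, 4, 1, 2, 3, 8, 7, 6, 5, 4, 3, 2, 1], 0)),
  (7165, 500, ([9, 8, 3, 4, 1, 2, 3, 8, 9, 5, 3, 4, 1, 2, 3, 8, 6, 5, 4, 3, 2, 1], 0)),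
  (4451, 501, ([1, 2, 3, 8, 5, 6, 4, 5, 3, 4, 2, 3, 8, 9, 4, 1, 2, 3, 8, 7, 6, 5, 4, 3, 2, 1], 0)),
  (5944, 1, ([3, 8, 4, 5, 3, 4, 2, 3, 8, 9, 4, 5, 3, 4, 1, 2, 3, 8, 7, 6, 5, 4, 3, 2, 1], 0)),
  (4453, 1, ([9, 8, 5, 3, 4, 1, 2, 3, 8, 9, 8, 6, 4, 5, 2, 3, 4, 1, 2, 3, 8, 7, 6, 5, 4, 3, 2, 1], 0)),
  (10646, 500, ([9, 8, 4, 5, 3, 4, 0, 1, 2, 3, 8, 9, 8, 5, 3, 4, 1, 2, 3, 8, 6, 5, 4, 3, 2, 1], 0)),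
  (12166, 1, ([3, 8, 6, 4, 5, 3, 4, 0, 1, 2, 3, 8, 9, 4, 5, 3, 4, 1, 2, 3, 8, 6, 5, 4, 3, 2, 1], 0)),
  (4459, 3, ([2, 3, 8, 5, 6, 4, 5, 3, 4, 2, 3, 8, 9, 5, 4, 1, 2, 3, 8, 7, 6, 5, 4, 3, 2, 1], 0)),
  (4460, 1, ([9, 8, 6, 5, 3, 4, 2, 3, 8, 9, 8, 6, 4, 5, 2, 3, 4, 1, 2, 3, 8, 7, 6, 5, 4, 3, 2, 1], 0)),
  (13863, 1, ([9, 8, 6, 5, 2, 3, 4, 1, 2, 3, 8, 9, 5, 2, 3, 4, 1, 2, 3, 8, 6, 5, 4, 3, 2, 1], 0)),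
  (5846, 1, ([5, 1, 2, 3, 4, 0, 1, 2, 3, 8, 9, 8, 6, 5, 3, 4, 1, 2, 3, 8, 7, 6, 5, 4, 3, 2, 1], 0)),
  (4480, 1, ([7, 6, 5, 3, 4, 1, 2, 3, 8, 9, 5, 6, 4, 5, 2, 3, 4, 1, 2, 3, 8, 7, 6, 5, 4, 3, 2, 1], 0)),
  (9121, 1, ([3, 8, 4, 5, 2, 3, 4, 0, 1, 2, 3, 8, 9, 5, 3, 4, 1, 2, 3, 8, 7, 6, 5, 4, 3, 2, 1], 0)),
  (4489, 500, ([9, 8, 4, 5, 3, 4, 1, 2, 3, 8, 9, 5, 6, 4, 5, 3, 4, 1, 2, 3, 8, 7, 6, 5, 4, 3, 2, 1], 0)),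
  (5404, 2, ([4, 5, 3, 4, 2, 3, 8, 9, 5, 2, 3, 4, 1, 2, 3, 8, 7, 6, 5, 4, 3, 2, 1], 0)),
  (5838, 2, ([9, 8, 5, 3, 4, 1, 2, 3, 8, 9, 6, 5, 3, 4, 1, 2, 3, 8, 7, 6, 5, 4, 3, 2, 1], 0)),
  (6398, 1, ([8, 6, 5, 2, 3, 4, 1, 2, 3, 8, 9, 4, 5, 3, 4, 2, 3, 8, 7, 6, 5, 4, 3, 2, 1], 0)),
  (5491, 1, ([2, 3, 8, 4, 5, 3, 4, 2, 3, 8, 9, 3, 4, 1, 2, 3, 8, 6, 5, 4, 3, 2, 1], 0)),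
  (5218, 1, ([8, 5, 3, 4, 0, 1, 2, 3, 8, 9, 4, 1, 2, 3, 8, 7, 6, 5, 4, 3, 2, 1], 0)),
  (4507, 1, ([3, 4, 2, 3, 8, 5, 6, 4, 5, 3, 4, 2, 3, 8, 9, 3, 4, 1, 2, 3, 8, 7, 6, 5, 4, 3, 2, 1], 0)),
  (7902, 500, ([4, 5, 2, 3, 4, 0, 1, 2, 3, 8, 9, 5, 2, 3, 4, 1, 2, 3, 8, 7, 6, 5, 4, 3, 2, 1], 0)),
  (13847, 1, ([5, 6, 4, 5, 2, 3, 4, 1, 2, 3, 8, 9, 2, 3, 4, 1, 2, 3, 8, 7, 6, 5, 4, 3, 2, 1], 0)),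
  (4519, 1, ([1, 2, 3, 8, 9, 3, 4, 1, 2, 3, 8, 5, 4, 3, 2, 1], 0)),
  (4523, 1, ([4, 1, 2, 3, 8, 9, 8, 3, 4, 1, 2, 3, 8, 5, 4, 3, 2, 1], 0)),
  (4531, 1, ([4, 1, 2, 3, 8, 9, 3, 4, 1, 2, 3, 8, 6, 5, 4, 3, 2, 1], 0)),
  (4533, 1, ([5, 4, 2, 3, 8, 9, 3, 4, 1, 2, 3, 8, 6, 5, 4, 3, 2, 1], 0)),
  (4537, 1, ([5, 4, 1, 2, 3, 8, 9, 8, 3, 4, 1, 2, 3, 8, 6, 5, 4, 3, 2, 1], 0)),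
  (4547, 1, ([3, 4, 1, 2, 3, 8, 9, 3, 4, 1, 2, 3, 8, 7, 6, 5, 4, 3, 2, 1], 0)),
  (4559, 1, ([4, 5, 3, 4, 2, 3, 8, 9, 8, 3, 4, 1, 2, 3, 8, 7, 6, 5, 4, 3, 2, 1], 0)),
  (4562, 1, ([9, 8, 3, 4, 2, 3, 8, 9, 8, 3, 4, 1, 2, 3, 8, 7, 6, 5, 4, 3, 2, 1], 0)),
  (4565, 1, ([5, 4, 2, 3, 8, 9, 5, 4, 1, 2, 3, 8, 6, 5, 4, 3, 2, 1], 0)),
  (4567, 501, ([3, 4, 1, 2, 3, 8, 9, 5, 3, 4, 1, 2, 3, 8, 6, 5, 4, 3, 2, 1], 0)),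
  (4568, 1, ([5, 4, 1, 2, 3, 8, 9, 5, 3, 4, 1, 2, 3, 8, 6, 5, 4, 3, 2, 1], 0)),
  (4569, 1, ([5, 3, 4, 2, 3, 8, 9, 5, 3, 4, 1, 2, 3, 8, 6, 5, 4, 3, 2, 1], 0)),
  (4579, 1, ([4, 5, 3, 4, 2, 3, 8, 9, 8, 5, 3, 4, 1, 2, 3, 8, 6, 5, 4, 3, 2, 1], 0)),
  (6297, 1, ([5, 4, 0, 1, 2, 3, 8, 9, 3, 4, 1, 2, 3, 8, 5, 4, 3, 2, 1], 0)),
  (4583, 1, ([7, 6, 5, 4, 2, 3, 8, 9, 8, 5, 3, 4, 1, 2, 3, 8, 6, 5, 4, 3, 2, 1], 0)),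
  (4584, 1, ([5, 3, 4, 2, 3, 8, 9, 5, 4, 1, 2, 3, 8, 7, 6, 5, 4, 3, 2, 1], 0)),
  (4589, 501, ([5, 3, 4, 1, 2, 3, 8, 9, 5, 3, 4, 1, 2, 3, 8, 7, 6, 5, 4, 3, 2, 1], 0)),
  (4592, 1, ([4, 5, 3, 4, 2, 3, 8, 9, 5, 3, 4, 1, 2, 3, 8, 7, 6, 5, 4, 3, 2, 1], 0)),
  (4594, 501, ([8, 5, 3, 4, 2, 3, 8, 9, 5, 3, 4, 1, 2, 3, 8, 7, 6, 5, 4, 3, 2, 1], 0)),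
  (4599, 1, ([8, 3, 4, 0, 1, 2, 3, 8, 9, 8, 5, 3, 4, 1, 2, 3, 8, 7, 6, 5, 4, 3, 2, 1], 0)),
  (4600, 2, ([6, 5, 4, 0, 1, 2, 3, 8, 9, 8, 5, 3, 4, 1, 2, 3, 8, 7, 6, 5, 4, 3, 2, 1], 0)),
  (4602, 1, ([8, 2, 3, 4, 1, 2, 3, 8, 9, 8, 5, 3, 4, 1, 2, 3, 8, 7, 6, 5, 4, 3, 2, 1], 0)),
  (4603, 1, ([4, 5, 3, 4, 1, 2, 3, 8, 9, 8, 5, 3, 4, 1, 2, 3, 8, 7, 6, 5, 4, 3, 2, 1], 0)),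
  (4605, 1, ([8, 5, 3, 4, 1, 2, 3, 8, 9, 8, 5, 3, 4, 1, 2, 3, 8, 7, 6, 5, 4, 3, 2, 1], 0)),
  (4606, 1, ([9, 8, 3, 4, 1, 2, 3, 8, 9, 8, 5, 3, 4, 1, 2, 3, 8, 7, 6, 5, 4, 3, 2, 1], 0)),
  (4607, 1, ([7, 6, 5, 4, 1, 2, 3, 8, 9, 8, 5, 3, 4, 1, 2, 3, 8, 7, 6, 5, 4, 3, 2, 1], 0)),
  (4614, 500, ([6, 5, 3, 4, 2, 3, 8, 9, 6, 5, 4, 1, 2, 3, 8, 7, 6, 5, 4, 3, 2, 1], 0)),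
  (4617, 1, ([7, 6, 5, 4, 2, 3, 8, 9, 6, 5, 4, 1, 2, 3, 8, 7, 6, 5, 4, 3, 2, 1], 0)),
  (4620, 1, ([4, 5, 3, 4, 1, 2, 3, 8, 9, 6, 5, 3, 4, 1, 2, 3, 8, 7, 6, 5, 4, 3, 2, 1], 0)),
  (4622, 1, ([8, 5, 3, 4, 1, 2, 3, 8, 9, 6, 5, 3, 4, 1, 2, 3, 8, 7, 6, 5, 4, 3, 2, 1], 0)),
  (4624, 1, ([7, 6, 5, 4, 1, 2, 3, 8, 9, 6, 5, 3, 4, 1, 2, 3, 8, 7, 6, 5, 4, 3, 2, 1], 0)),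
  (4625, 1, ([6, 4, 5, 3, 4, 2, 3, 8, 9, 6, 5, 3, 4, 1, 2, 3, 8, 7, 6, 5, 4, 3, 2, 1], 0)),
  (4635, 1, ([8, 5, 3, 4, 0, 1, 2, 3, 8, 9, 8, 6, 5, 3, 4, 1, 2, 3, 8, 7, 6, 5, 4, 3, 2, 1], 0)),
  (4638, 1, ([4, 5, 2, 3, 4, 1, 2, 3, 8, 9, 8, 6, 5, 3, 4, 1, 2, 3, 8, 7, 6, 5, 4, 3, 2, 1], 0)),
  (4641, 501, ([3, 8, 2, 3, 4, 1, 2, 3, 8, 9, 8, 6, 5, 3, 4, 1, 2, 3, 8, 7, 6, 5, 4, 3, 2, 1], 0)),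
  (4646, 2, ([8, 6, 5, 3, 4, 1, 2, 3, 8, 9, 8, 6, 5, 3, 4, 1, 2, 3, 8, 7, 6, 5, 4, 3, 2, 1], 0)),
  (4647, 1, ([9, 8, 5, 3, 4, 1, 2, 3, 8, 9, 8, 6, 5, 3, 4, 1, 2, 3, 8, 7, 6, 5, 4, 3, 2, 1], 0)),
  (4649, 1, ([7, 6, 4, 5, 3, 4, 2, 3, 8, 9, 8, 6, 5, 3, 4, 1, 2, 3, 8, 7, 6, 5, 4, 3, 2, 1], 0)),
  (5932, 1, ([6, 5, 2, 3, 4, 1, 2, 3, 8, 9, 4, 5, 3, 4, 1, 2, 3, 8, 7, 6, 5, 4, 3, 2, 1], 0)),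
  (5801, 501, ([5, 2, 3, 4, 0, 1, 2, 3, 8, 9, 8, 5, 3, 4, 1, 2, 3, 8, 7, 6, 5, 4, 3, 2, 1], 0)),
  (4659, 501, ([8, 3, 4, 1, 2, 3, 8, 9, 4, 5, 3, 4, 1, 2, 3, 8, 6, 5, 4, 3, 2, 1], 0)),
  (4661, 3, ([4, 5, 3, 4, 2, 3, 8, 9, 4, 5, 3, 4, 1, 2, 3, 8, 6, 5, 4, 3, 2, 1], 0)),
  (4663, 3, ([8, 5, 3, 4, 2, 3, 8, 9, 4, 5, 3, 4, 1, 2, 3, 8, 6, 5, 4, 3, 2, 1], 0)),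
  (4664, 1, ([9, 8, 3, 4, 2, 3, 8, 9, 4, 5, 3, 4, 1, 2, 3, 8, 6, 5, 4, 3, 2, 1], 0)),
  (6475, 1, ([5, 3, 4, 1, 2, 3, 8, 9, 4, 1, 2, 3, 8, 6, 5, 4, 3, 2, 1], 0)),
  (4671, 1, ([8, 2, 3, 4, 1, 2, 3, 8, 9, 8, 4, 5, 3, 4, 1, 2, 3, 8, 6, 5, 4, 3, 2, 1], 0)),
  (4672, 2, ([4, 5, 3, 4, 1, 2, 3, 8, 9, 8, 4, 5, 3, 4, 1, 2, 3, 8, 6, 5, 4, 3, 2, 1], 0)),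
  (4674, 1, ([8, 5, 3, 4, 1, 2, 3, 8, 9, 8, 4, 5, 3, 4, 1, 2, 3, 8, 6, 5, 4, 3, 2, 1], 0)),
  (4676, 1, ([7, 6, 5, 4, 1, 2, 3, 8, 9, 8, 4, 5, 3, 4, 1, 2, 3, 8, 6, 5, 4, 3, 2, 1], 0)),
  (6493, 1, ([4, 5, 3, 4, 0, 1, 2, 3, 8, 9, 3, 4, 1, 2, 3, 8, 7, 6, 5, 4, 3, 2, 1], 0)),
  (4681, 1, ([9, 8, 5, 3, 4, 2, 3, 8, 9, 8, 4, 5, 3, 4, 1, 2, 3, 8, 6, 5, 4, 3, 2, 1], 0)),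
  (4684, 1, ([8, 3, 4, 0, 1, 2, 3, 8, 9, 4, 5, 3, 4, 1, 2, 3, 8, 7, 6, 5, 4, 3, 2, 1], 0)),
  (4686, 1, ([5, 2, 3, 4, 1, 2, 3, 8, 9, 4, 5, 3, 4, 1, 2, 3, 8, 7, 6, 5, 4, 3, 2, 1], 0)),
  (5765, 500, ([9, 8, 3, 4, 2, 3, 8, 9, 5, 3, 4, 1, 2, 3, 8, 6, 5, 4, 3, 2, 1], 0)),
  (4691, 1, ([9, 8, 3, 4, 1, 2, 3, 8, 9, 4, 5, 3, 4, 1, 2, 3, 8, 7, 6, 5, 4, 3, 2, 1], 0)),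
  (4697, 501, ([9, 8, 5, 3, 4, 2, 3, 8, 9, 4, 5, 3, 4, 1, 2, 3, 8, 7, 6, 5, 4, 3, 2, 1], 0)),
  (4703, 1, ([3, 8, 5, 2, 3, 4, 1, 2, 3, 8, 9, 5, 4, 1, 2, 3, 8, 7, 6, 5, 4, 3, 2, 1], 0)),
  (6687, 1, ([4, 5, 3, 4, 1, 2, 3, 8, 9, 8, 5, 2, 3, 4, 1, 2, 3, 8, 6, 5, 4, 3, 2, 1], 0)),
  (5402, 1, ([8, 3, 4, 1, 2, 3, 8, 9, 5, 2, 3, 4, 1, 2, 3, 8, 7, 6, 5, 4, 3, 2, 1], 0)),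
  (4708, 1, ([8, 5, 2, 3, 4, 1, 2, 3, 8, 9, 8, 4, 5, 3, 4, 1, 2, 3, 8, 7, 6, 5, 4, 3, 2, 1], 0)),
  (4709, 1, ([8, 2, 3, 4, 0, 1, 2, 3, 8, 9, 5, 3, 4, 1, 2, 3, 8, 7, 6, 5, 4, 3, 2, 1], 0)),
  (8300, 1, ([8, 4, 5, 3, 4, 1, 2, 3, 8, 9, 4, 5, 2, 3, 4, 1, 2, 3, 8, 6, 5, 4, 3, 2, 1], 0)),
  (4719, 1, ([3, 8, 4, 5, 3, 4, 2, 3, 8, 9, 8, 4, 5, 3, 4, 1, 2, 3, 8, 7, 6, 5, 4, 3, 2, 1], 0)),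
  (9828, 1, ([3, 8, 4, 5, 3, 4, 0, 1, 2, 3, 8, 9, 3, 4, 1, 2, 3, 8, 6, 5, 4, 3, 2, 1], 0)),
  (4725, 1, ([8, 2, 3, 4, 0, 1, 2, 3, 8, 9, 6, 4, 5, 3, 4, 1, 2, 3, 8, 7, 6, 5, 4, 3, 2, 1], 0)),
  (4728, 1, ([8, 5, 3, 4, 0, 1, 2, 3, 8, 9, 6, 4, 5, 3, 4, 1, 2, 3, 8, 7, 6, 5, 4, 3, 2, 1], 0)),
  (4733, 1, ([8, 5, 2, 3, 4, 1, 2, 3, 8, 9, 6, 4, 5, 3, 4, 1, 2, 3, 8, 7, 6, 5, 4, 3, 2, 1], 0)),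
  (4738, 501, ([7, 6, 5, 3, 4, 1, 2, 3, 8, 9, 6, 4, 5, 3, 4, 1, 2, 3, 8, 7, 6, 5, 4, 3, 2, 1], 0)),
  (4739, 1, ([8, 6, 5, 3, 4, 1, 2, 3, 8, 9, 6, 4, 5, 3, 4, 1, 2, 3, 8, 7, 6, 5, 4, 3, 2, 1], 0)),
  (4740, 1, ([9, 8, 5, 3, 4, 1, 2, 3, 8, 9, 6, 4, 5, 3, 4, 1, 2, 3, 8, 7, 6, 5, 4, 3, 2, 1], 0)),
  (4744, 2, ([3, 8, 4, 5, 3, 4, 2, 3, 8, 9, 6, 4, 5, 3, 4, 1, 2, 3, 8, 7, 6, 5, 4, 3, 2, 1], 0)),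
  (4745, 500, ([9, 8, 4, 5, 3, 4, 2, 3, 8, 9, 6, 4, 5, 3, 4, 1, 2, 3, 8, 7, 6, 5, 4, 3, 2, 1], 0)),
  (4752, 1, ([9, 3, 8, 2, 3, 4, 1, 2, 3, 8, 9, 6, 5, 3, 4, 1, 2, 3, 8, 7, 6, 5, 4, 3, 2, 1], 0)),
  (5744, 1, ([4, 5, 3, 4, 1, 2, 3, 8, 9, 8, 3, 4, 1, 2, 3, 8, 7, 6, 5, 4, 3, 2, 1], 0)),
  (8717, 1, ([9, 8, 5, 3, 4, 1, 2, 3, 8, 9, 2, 3, 4, 1, 2, 3, 8, 6, 5, 4, 3, 2, 1], 0)),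
  (4762, 1, ([8, 6, 5, 2, 3, 4, 1, 2, 3, 8, 9, 8, 6, 4, 5, 3, 4, 1, 2, 3, 8, 7, 6, 5, 4, 3, 2, 1], 0)),
  (4763, 1, ([8, 5, 2, 3, 4, 0, 1, 2, 3, 8, 9, 6, 5, 3, 4, 1, 2, 3, 8, 7, 6, 5, 4, 3, 2, 1], 0)),
  (10628, 2, ([3, 4, 5, 2, 3, 4, 1, 2, 3, 8, 9, 5, 3, 4, 1, 2, 3, 8, 6, 5, 4, 3, 2, 1], 0)),
  (4771, 1, ([9, 8, 4, 5, 3, 4, 1, 2, 3, 8, 9, 8, 6, 4, 5, 3, 4, 1, 2, 3, 8, 7, 6, 5, 4, 3, 2, 1], 0)),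
  (8160, 1, ([8, 5, 2, 3, 4, 0, 1, 2, 3, 8, 9, 8, 5, 2, 3, 4, 1, 2, 3, 8, 7, 6, 5, 4, 3, 2, 1], 0)),
  (4897, 1, ([7, 6, 4, 5, 2, 3, 4, 1, 2, 3, 8, 9, 6, 5, 4, 1, 2, 3, 8, 7, 6, 5, 4, 3, 2, 1], 0)),
  (4780, 1, ([9, 3, 8, 4, 5, 3, 4, 2, 3, 8, 9, 8, 6, 4, 5, 3, 4, 1, 2, 3, 8, 7, 6, 5, 4, 3, 2, 1], 0)),
  (11828, 1, ([2, 3, 8, 6, 4, 5, 3, 4, 1, 2, 3, 8, 9, 8, 3, 4, 1, 2, 3, 8, 7, 6, 5, 4, 3, 2, 1], 0)),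
  (7901, 1, ([6, 4, 5, 2, 3, 4, 0, 1, 2, 3, 8, 9, 5, 3, 4, 1, 2, 3, 8, 7, 6, 5, 4, 3, 2, 1], 0)),
  (4791, 1, ([8, 7, 6, 5, 3, 4, 1, 2, 3, 8, 9, 5, 6, 4, 5, 3, 4, 1, 2, 3, 8, 7, 6, 5, 4, 3, 2, 1], 0)),
  (9441, 2, ([3, 8, 5, 6, 4, 5, 2, 3, 4, 1, 2, 3, 8, 9, 5, 4, 1, 2, 3, 8, 7, 6, 5, 4, 3, 2, 1], 0)),
  (4850, 1, ([9, 8, 5, 2, 3, 4, 0, 1, 2, 3, 8, 9, 5, 4, 1, 2, 3, 8, 6, 5, 4, 3, 2, 1], 0)),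
  (4800, 1, ([4, 2, 3, 8, 4, 5, 2, 3, 4, 1, 2, 3, 8, 9, 6, 5, 3, 4, 2, 3, 8, 7, 6, 5, 4, 3, 2, 1], 0)),
  (4801, 1, ([4, 2, 3, 8, 6, 4, 5, 2, 3, 4, 1, 2, 3, 8, 9, 6, 5, 4, 2, 3, 8, 7, 6, 5, 4, 3, 2, 1], 0)),
  (5557, 501, ([9, 8, 3, 4, 1, 2, 3, 8, 9, 6, 3, 4, 5, 2, 3, 4, 1, 2, 3, 8, 7, 6, 5, 4, 3, 2, 1], 0)),
  (8131, 1, ([9, 8, 5, 3, 4, 1, 2, 3, 8, 9, 8, 5, 2, 3, 4, 1, 2, 3, 8, 6, 5, 4, 3, 2, 1], 0)),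
  (8776, 1, ([9, 8, 5, 2, 3, 4, 1, 2, 3, 8, 9, 8, 5, 3, 4, 1, 2, 3, 8, 6, 5, 4, 3, 2, 1], 0)),
  (9083, 1, ([3, 8, 5, 6, 4, 5, 3, 4, 2, 3, 8, 9, 4, 5, 3, 4, 1, 2, 3, 8, 7, 6, 5, 4, 3, 2, 1], 0)),
  (12844, 1, ([8, 9, 2, 3, 8, 6, 4, 5, 3, 4, 1, 2, 3, 8, 9, 2, 3, 4, 1, 2, 3, 8, 7, 6, 5, 4, 3, 2, 1], 0)),
  (15812, 1, ([9, 2, 3, 8, 4, 5, 3, 4, 0, 1, 2, 3, 8, 9, 5, 2, 3, 4, 1, 2, 3, 8, 6, 5, 4, 3, 2, 1], 0)),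
  (6150, 1, ([3, 8, 4, 5, 2, 3, 4, 0, 1, 2, 3, 8, 9, 5, 4, 1, 2, 3, 8, 6, 5, 4, 3, 2, 1], 0)),
  (9784, 1, ([6, 5, 2, 3, 4, 1, 2, 3, 8, 9, 2, 3, 4, 1, 2, 3, 8, 7, 6, 5, 4, 3, 2, 1], 0)),
  (13086, 2, ([9, 3, 8, 3, 4, 5, 2, 3, 4, 1, 2, 3, 8, 9, 8, 4, 5, 3, 4, 1, 2, 3, 8, 6, 5, 4, 3, 2, 1], 0)),
  (7450, 1, ([9, 8, 2, 3, 4, 0, 1, 2, 3, 8, 9, 5, 2, 3, 4, 1, 2, 3, 8, 7, 6, 5, 4, 3, 2, 1], 0)),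
  (4830, 1, ([9, 3, 8, 6, 4, 5, 3, 4, 2, 3, 8, 9, 8, 5, 6, 4, 5, 3, 4, 1, 2, 3, 8, 7, 6, 5, 4, 3, 2, 1], 0)),
  (7979, 1, ([6, 4, 5, 3, 4, 0, 1, 2, 3, 8, 9, 3, 4, 1, 2, 3, 8, 7, 6, 5, 4, 3, 2, 1], 0)),
  (4834, 1, ([5, 3, 4, 1, 2, 3, 8, 9, 5, 4, 1, 2, 3, 8, 6, 5, 4, 3, 2, 1], 0)),
  (4836, 1, ([4, 5, 2, 3, 4, 1, 2, 3, 8, 9, 5, 4, 1, 2, 3, 8, 6, 5, 4, 3, 2, 1], 0)),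
  (4838, 1, ([8, 5, 2, 3, 4, 1, 2, 3, 8, 9, 5, 4, 1, 2, 3, 8, 6, 5, 4, 3, 2, 1], 0)),
  (4842, 1, ([6, 5, 3, 4, 0, 1, 2, 3, 8, 9, 5, 4, 1, 2, 3, 8, 6, 5, 4, 3, 2, 1], 0)),
  (6165, 1, ([7, 6, 5, 3, 4, 1, 2, 3, 8, 9, 5, 4, 1, 2, 3, 8, 7, 6, 5, 4, 3, 2, 1], 0))]

/-- Representatives, part 9. -/
def reps11_9 : List (ℕ × ℕ × (List ℕ × ℕ)) := [(4858, 1, ([4, 5, 3, 4, 1, 2, 3, 8, 9, 5, 4, 1, 2, 3, 8, 7, 6, 5, 4, 3, 2, 1], 0)),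
  (5762, 1, ([4, 5, 3, 4, 2, 3, 8, 9, 5, 3, 4, 1, 2, 3, 8, 6, 5, 4, 3, 2, 1], 0)),
  (4861, 1, ([9, 8, 3, 4, 1, 2, 3, 8, 9, 5, 4, 1, 2, 3, 8, 7, 6, 5, 4, 3, 2, 1], 0)),
  (4862, 1, ([6, 4, 5, 2, 3, 4, 1, 2, 3, 8, 9, 5, 4, 1, 2, 3, 8, 7, 6, 5, 4, 3, 2, 1], 0)),
  (4865, 1, ([8, 6, 5, 2, 3, 4, 1, 2, 3, 8, 9, 5, 4, 1, 2, 3, 8, 7, 6, 5, 4, 3, 2, 1], 0)),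
  (6555, 1, ([3, 4, 2, 3, 8, 9, 4, 1, 2, 3, 8, 5, 4, 3, 2, 1], 0)),
  (5357, 2, ([5, 4, 2, 3, 8, 9, 2, 3, 4, 1, 2, 3, 8, 6, 5, 4, 3, 2, 1], 0)),
  (4877, 1, ([7, 6, 4, 5, 2, 3, 4, 0, 1, 2, 3, 8, 9, 5, 4, 1, 2, 3, 8, 7, 6, 5, 4, 3, 2, 1], 0)),
  (4881, 1, ([8, 7, 6, 5, 2, 3, 4, 0, 1, 2, 3, 8, 9, 5, 4, 1, 2, 3, 8, 7, 6, 5, 4, 3, 2, 1], 0)),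
  (4882, 1, ([9, 8, 6, 5, 2, 3, 4, 0, 1, 2, 3, 8, 9, 5, 4, 1, 2, 3, 8, 7, 6, 5, 4, 3, 2, 1], 0)),
  (7400, 1, ([6, 4, 5, 2, 3, 4, 1, 2, 3, 8, 9, 4, 5, 3, 4, 1, 2, 3, 8, 7, 6, 5, 4, 3, 2, 1], 0)),
  (4903, 1, ([5, 6, 4, 5, 3, 4, 0, 1, 2, 3, 8, 9, 6, 5, 4, 1, 2, 3, 8, 7, 6, 5, 4, 3, 2, 1], 0)),
  (5777, 1, ([4, 5, 2, 3, 4, 0, 1, 2, 3, 8, 9, 3, 4, 2, 3, 8, 7, 6, 5, 4, 3, 2, 1], 0)),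
  (4891, 1, ([6, 4, 5, 3, 4, 1, 2, 3, 8, 9, 6, 5, 4, 1, 2, 3, 8, 7, 6, 5, 4, 3, 2, 1], 0)),
  (4899, 501, ([3, 8, 4, 5, 2, 3, 4, 1, 2, 3, 8, 9, 6, 5, 4, 1, 2, 3, 8, 7, 6, 5, 4, 3, 2, 1], 0)),
  (4902, 1, ([9, 8, 6, 5, 2, 3, 4, 1, 2, 3, 8, 9, 6, 5, 4, 1, 2, 3, 8, 7, 6, 5, 4, 3, 2, 1], 0)),
  (4904, 1, ([7, 6, 4, 5, 3, 4, 0, 1, 2, 3, 8, 9, 6, 5, 4, 1, 2, 3, 8, 7, 6, 5, 4, 3, 2, 1], 0)),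
  (4907, 1, ([9, 8, 4, 5, 3, 4, 0, 1, 2, 3, 8, 9, 6, 5, 4, 1, 2, 3, 8, 7, 6, 5, 4, 3, 2, 1], 0)),
  (4910, 2, ([9, 8, 6, 5, 3, 4, 0, 1, 2, 3, 8, 9, 6, 5, 4, 1, 2, 3, 8, 7, 6, 5, 4, 3, 2, 1], 0)),
  (4913, 501, ([8, 5, 3, 4, 0, 1, 2, 3, 8, 9, 6, 5, 2, 3, 4, 1, 2, 3, 8, 7, 6, 5, 4, 3, 2, 1], 0)),
  (4919, 501, ([9, 8, 6, 4, 5, 2, 3, 4, 0, 1, 2, 3, 8, 9, 6, 5, 4, 1, 2, 3, 8, 7, 6, 5, 4, 3, 2, 1], 0)),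
  (11797, 1, ([4, 3, 8, 5, 2, 3, 4, 1, 2, 3, 8, 9, 5, 2, 3, 4, 1, 2, 3, 8, 7, 6, 5, 4, 3, 2, 1], 0)),
  (6849, 1, ([7, 6, 5, 4, 1, 2, 3, 8, 9, 3, 4, 5, 2, 3, 4, 1, 2, 3, 8, 7, 6, 5, 4, 3, 2, 1], 0)),
  (5085, 1, ([5, 2, 3, 4, 1, 2, 3, 8, 9, 4, 5, 3, 4, 2, 3, 8, 6, 5, 4, 3, 2, 1], 0)),
  (5888, 2, ([4, 5, 3, 4, 1, 2, 3, 8, 9, 4, 5, 3, 4, 1, 2, 3, 8, 6, 5, 4, 3, 2, 1], 0)),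
  (5041, 1, ([6, 5, 2, 3, 4, 1, 2, 3, 8, 9, 8, 5, 3, 4, 2, 3, 8, 7, 6, 5, 4, 3, 2, 1], 0)),
  (5748, 1, ([7, 6, 5, 4, 1, 2, 3, 8, 9, 8, 3, 4, 1, 2, 3, 8, 7, 6, 5, 4, 3, 2, 1], 0)),
  (6878, 1, ([8, 7, 6, 5, 3, 4, 2, 3, 8, 9, 4, 5, 2, 3, 4, 1, 2, 3, 8, 7, 6, 5, 4, 3, 2, 1], 0)),
  (4934, 1, ([7, 5, 6, 3, 4, 5, 2, 3, 4, 1, 2, 3, 8, 9, 6, 5, 4, 1, 2, 3, 8, 7, 6, 5, 4, 3, 2, 1], 0)),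
  (9111, 1, ([6, 4, 5, 1, 2, 3, 4, 0, 1, 2, 3, 8, 9, 5, 3, 4, 1, 2, 3, 8, 7, 6, 5, 4, 3, 2, 1], 0)),
  (7254, 2, ([9, 8, 4, 5, 3, 4, 2, 3, 8, 9, 6, 5, 4, 1, 2, 3, 8, 7, 6, 5, 4, 3, 2, 1], 0)),
  (4947, 1, ([9, 8, 7, 6, 3, 4, 5, 2, 3, 4, 0, 1, 2, 3, 8, 9, 6, 5, 4, 1, 2, 3, 8, 7, 6, 5, 4, 3, 2, 1], 0)),
  (5489, 1, ([9, 8, 3, 4, 1, 2, 3, 8, 9, 8, 4, 5, 2, 3, 4, 1, 2, 3, 8, 6, 5, 4, 3, 2, 1], 0)),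
  (7154, 2, ([3, 8, 4, 5, 3, 4, 2, 3, 8, 9, 8, 3, 4, 1, 2, 3, 8, 7, 6, 5, 4, 3, 2, 1], 0)),
  (5252, 1, ([7, 6, 5, 4, 2, 3, 8, 9, 8, 3, 4, 1, 2, 3, 8, 5, 4, 3, 2, 1], 0)),
  (12871, 1, ([7, 5, 6, 3, 4, 5, 2, 3, 4, 1, 2, 3, 8, 9, 6, 5, 3, 4, 1, 2, 3, 8, 7, 6, 5, 4, 3, 2, 1], 0)),
  (6664, 1, ([6, 5, 3, 4, 1, 2, 3, 8, 9, 8, 2, 3, 4, 1, 2, 3, 8, 7, 6, 5, 4, 3, 2, 1], 0)),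
  (6470, 1, ([7, 6, 2, 3, 4, 5, 1, 2, 3, 4, 0, 1, 2, 3, 8, 9, 6, 5, 3, 4, 1, 2, 3, 8, 7, 6, 5, 4, 3, 2, 1], 0)),
  (4962, 1, ([9, 8, 7, 5, 6, 3, 4, 5, 2, 3, 4, 1, 2, 3, 8, 9, 6, 5, 4, 1, 2, 3, 8, 7, 6, 5, 4, 3, 2, 1], 0)),
  (5002, 1, ([5, 2, 3, 4, 1, 2, 3, 8, 9, 8, 3, 4, 2, 3, 8, 7, 6, 5, 4, 3, 2, 1], 0)),
  (5015, 1, ([2, 3, 4, 0, 1, 2, 3, 8, 9, 8, 5, 3, 4, 2, 3, 8, 6, 5, 4, 3, 2, 1], 0)),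
  (5019, 1, ([5, 2, 3, 4, 1, 2, 3, 8, 9, 8, 5, 3, 4, 2, 3, 8, 6, 5, 4, 3, 2, 1], 0)),
  (5027, 3, ([5, 2, 3, 4, 1, 2, 3, 8, 9, 5, 3, 4, 2, 3, 8, 7, 6, 5, 4, 3, 2, 1], 0)),
  (5034, 2, ([5, 2, 3, 4, 0, 1, 2, 3, 8, 9, 8, 5, 3, 4, 2, 3, 8, 7, 6, 5, 4, 3, 2, 1], 0)),
  (5059, 1, ([6, 5, 2, 3, 4, 0, 1, 2, 3, 8, 9, 8, 6, 5, 3, 4, 2, 3, 8, 7, 6, 5, 4, 3, 2, 1], 0)),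
  (8330, 1, ([3, 8, 2, 3, 4, 0, 1, 2, 3, 8, 9, 5, 2, 3, 4, 1, 2, 3, 8, 6, 5, 4, 3, 2, 1], 0)),
  (5069, 1, ([8, 6, 5, 2, 3, 4, 1, 2, 3, 8, 9, 8, 6, 5, 3, 4, 2, 3, 8, 7, 6, 5, 4, 3, 2, 1], 0)),
  (5728, 1, ([5, 3, 4, 2, 3, 8, 9, 4, 1, 2, 3, 8, 7, 6, 5, 4, 3, 2, 1], 0)),
  (5106, 1, ([4, 5, 2, 3, 4, 1, 2, 3, 8, 9, 4, 5, 3, 4, 2, 3, 8, 7, 6, 5, 4, 3, 2, 1], 0)),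
  (7989, 1, ([9, 8, 3, 4, 1, 2, 3, 8, 9, 4, 1, 2, 3, 8, 6, 5, 4, 3, 2, 1], 0)),
  (5125, 1, ([7, 6, 5, 2, 3, 4, 1, 2, 3, 8, 9, 8, 4, 5, 3, 4, 2, 3, 8, 7, 6, 5, 4, 3, 2, 1], 0)),
  (5126, 1, ([6, 5, 2, 3, 4, 0, 1, 2, 3, 8, 9, 5, 3, 4, 2, 3, 8, 7, 6, 5, 4, 3, 2, 1], 0)),
  (5130, 1, ([6, 5, 2, 3, 4, 0, 1, 2, 3, 8, 9, 6, 4, 5, 3, 4, 2, 3, 8, 7, 6, 5, 4, 3, 2, 1], 0)),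
  (8109, 1, ([9, 8, 4, 5, 3, 4, 1, 2, 3, 8, 9, 4, 1, 2, 3, 8, 7, 6, 5, 4, 3, 2, 1], 0)),
  (7124, 1, ([8, 5, 3, 4, 1, 2, 3, 8, 9, 8, 3, 4, 1, 2, 3, 8, 6, 5, 4, 3, 2, 1], 0)),
  (5525, 2, ([4, 3, 8, 2, 3, 4, 1, 2, 3, 8, 9, 5, 3, 4, 1, 2, 3, 8, 7, 6, 5, 4, 3, 2, 1], 0)),
  (8114, 1, ([9, 8, 5, 3, 4, 2, 3, 8, 9, 5, 2, 3, 4, 1, 2, 3, 8, 6, 5, 4, 3, 2, 1], 0)),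
  (6647, 1, ([8, 5, 3, 4, 2, 3, 8, 9, 3, 4, 1, 2, 3, 8, 6, 5, 4, 3, 2, 1], 0)),
  (5176, 1, ([8, 6, 4, 5, 2, 3, 4, 1, 2, 3, 8, 9, 5, 6, 4, 5, 3, 4, 2, 3, 8, 7, 6, 5, 4, 3, 2, 1], 0)),
  (5551, 1, ([6, 5, 4, 0, 1, 2, 3, 8, 9, 6, 3, 4, 5, 2, 3, 4, 1, 2, 3, 8, 7, 6, 5, 4, 3, 2, 1], 0)),
  (10081, 1, ([3, 8, 4, 5, 3, 4, 1, 2, 3, 8, 9, 4, 5, 2, 3, 4, 1, 2, 3, 8, 6, 5, 4, 3, 2, 1], 0)),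
  (5566, 1, ([8, 2, 3, 4, 0, 1, 2, 3, 8, 9, 6, 4, 5, 2, 3, 4, 1, 2, 3, 8, 7, 6, 5, 4, 3, 2, 1], 0)),
  (6331, 1, ([6, 5, 2, 3, 4, 1, 2, 3, 8, 9, 5, 3, 4, 2, 3, 8, 7, 6, 5, 4, 3, 2, 1], 0)),
  (10687, 500, ([8, 9, 3, 8, 4, 5, 3, 4, 2, 3, 8, 9, 5, 3, 4, 1, 2, 3, 8, 7, 6, 5, 4, 3, 2, 1], 0)),
  (8407, 1, ([9, 8, 7, 6, 5, 3, 4, 2, 3, 8, 9, 4, 5, 2, 3, 4, 1, 2, 3, 8, 7, 6, 5, 4, 3, 2, 1], 0)),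
  (5201, 1, ([2, 3, 8, 6, 4, 5, 3, 4, 1, 2, 3, 8, 9, 8, 6, 5, 3, 4, 2, 3, 8, 7, 6, 5, 4, 3, 2, 1], 0)),
  (5202, 1, ([5, 4, 1, 2, 3, 8, 9, 4, 1, 2, 3, 8, 6, 5, 4, 3, 2, 1], 0)),
  (5213, 1, ([5, 3, 4, 1, 2, 3, 8, 9, 4, 1, 2, 3, 8, 7, 6, 5, 4, 3, 2, 1], 0)),
  (5219, 1, ([7, 6, 5, 4, 0, 1, 2, 3, 8, 9, 4, 1, 2, 3, 8, 7, 6, 5, 4, 3, 2, 1], 0)),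
  (5226, 1, ([5, 2, 3, 4, 0, 1, 2, 3, 8, 9, 3, 4, 2, 3, 8, 7, 6, 5, 4, 3, 2, 1], 0)),
  (8341, 500, ([2, 3, 8, 4, 5, 3, 4, 2, 3, 8, 9, 5, 3, 4, 1, 2, 3, 8, 7, 6, 5, 4, 3, 2, 1], 0)),
  (5236, 501, ([8, 3, 4, 0, 1, 2, 3, 8, 9, 4, 1, 2, 3, 8, 6, 5, 4, 3, 2, 1], 0)),
  (5243, 1, ([2, 3, 4, 0, 1, 2, 3, 8, 9, 3, 4, 2, 3, 8, 6, 5, 4, 3, 2, 1], 0)),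
  (5248, 500, ([2, 3, 4, 0, 1, 2, 3, 8, 9, 3, 4, 1, 2, 3, 8, 7, 6, 5, 4, 3, 2, 1], 0)),
  (5289, 2, ([5, 4, 2, 3, 8, 9, 1, 2, 3, 8, 5, 4, 3, 2, 1], 0)),
  (5292, 1, ([6, 5, 4, 2, 3, 8, 9, 1, 2, 3, 8, 6, 5, 4, 3, 2, 1], 0)),
  (5298, 1, ([1, 2, 3, 8, 9, 3, 8, 2, 3, 4, 1, 2, 3, 8, 5, 4, 3, 2, 1], 0)),
  (5304, 501, ([6, 5, 3, 4, 2, 3, 8, 9, 4, 1, 2, 3, 8, 6, 5, 4, 3, 2, 1], 0)),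
  (5308, 1, ([7, 6, 5, 3, 4, 1, 2, 3, 8, 9, 4, 1, 2, 3, 8, 6, 5, 4, 3, 2, 1], 0)),
  (5309, 1, ([7, 6, 5, 4, 2, 3, 8, 9, 4, 1, 2, 3, 8, 6, 5, 4, 3, 2, 1], 0)),
  (5316, 1, ([6, 4, 5, 3, 4, 2, 3, 8, 9, 5, 4, 1, 2, 3, 8, 6, 5, 4, 3, 2, 1], 0)),
  (5319, 1, ([4, 5, 3, 4, 2, 3, 8, 9, 1, 2, 3, 8, 7, 6, 5, 4, 3, 2, 1], 0)),
  (5323, 1, ([7, 6, 4, 5, 3, 4, 1, 2, 3, 8, 9, 5, 4, 1, 2, 3, 8, 6, 5, 4, 3, 2, 1], 0)),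
  (5327, 1, ([7, 6, 4, 5, 3, 4, 2, 3, 8, 9, 5, 4, 1, 2, 3, 8, 7, 6, 5, 4, 3, 2, 1], 0)),
  (5330, 1, ([6, 4, 5, 3, 4, 2, 3, 8, 9, 4, 1, 2, 3, 8, 7, 6, 5, 4, 3, 2, 1], 0)),
  (5335, 1, ([5, 2, 3, 4, 1, 2, 3, 8, 9, 3, 8, 6, 5, 2, 3, 4, 1, 2, 3, 8, 7, 6, 5, 4, 3, 2, 1], 0)),
  (5340, 1, ([9, 8, 3, 4, 1, 2, 3, 8, 9, 3, 8, 6, 5, 2, 3, 4, 1, 2, 3, 8, 7, 6, 5, 4, 3, 2, 1], 0)),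
  (5341, 1, ([5, 6, 4, 5, 3, 4, 1, 2, 3, 8, 9, 4, 1, 2, 3, 8, 7, 6, 5, 4, 3, 2, 1], 0)),
  (8084, 1, ([7, 6, 5, 4, 1, 2, 3, 8, 9, 2, 3, 4, 1, 2, 3, 8, 7, 6, 5, 4, 3, 2, 1], 0)),
  (5351, 1, ([4, 1, 2, 3, 8, 9, 8, 2, 3, 4, 1, 2, 3, 8, 5, 4, 3, 2, 1], 0)),
  (5366, 1, ([3, 4, 1, 2, 3, 8, 9, 2, 3, 4, 1, 2, 3, 8, 7, 6, 5, 4, 3, 2, 1], 0)),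
  (5367, 1, ([5, 4, 1, 2, 3, 8, 9, 2, 3, 4, 1, 2, 3, 8, 7, 6, 5, 4, 3, 2, 1], 0)),
  (5371, 1, ([7, 6, 5, 4, 3, 8, 9, 2, 3, 4, 1, 2, 3, 8, 7, 6, 5, 4, 3, 2, 1], 0)),
  (5375, 1, ([5, 3, 4, 1, 2, 3, 8, 9, 8, 2, 3, 4, 1, 2, 3, 8, 7, 6, 5, 4, 3, 2, 1], 0)),
  (5377, 1, ([6, 5, 4, 1, 2, 3, 8, 9, 8, 2, 3, 4, 1, 2, 3, 8, 7, 6, 5, 4, 3, 2, 1], 0)),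
  (5383, 1, ([3, 4, 1, 2, 3, 8, 9, 5, 2, 3, 4, 1, 2, 3, 8, 6, 5, 4, 3, 2, 1], 0)),
  (5391, 2, ([2, 3, 4, 1, 2, 3, 8, 9, 8, 5, 2, 3, 4, 1, 2, 3, 8, 6, 5, 4, 3, 2, 1], 0)),
  (5392, 501, ([5, 3, 4, 1, 2, 3, 8, 9, 8, 5, 2, 3, 4, 1, 2, 3, 8, 6, 5, 4, 3, 2, 1], 0)),
  (5395, 1, ([4, 5, 3, 4, 2, 3, 8, 9, 8, 5, 2, 3, 4, 1, 2, 3, 8, 6, 5, 4, 3, 2, 1], 0)),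
  (5396, 1, ([3, 8, 4, 5, 3, 4, 2, 3, 8, 9, 4, 1, 2, 3, 8, 6, 5, 4, 3, 2, 1], 0)),
  (5397, 1, ([8, 5, 3, 4, 2, 3, 8, 9, 8, 5, 2, 3, 4, 1, 2, 3, 8, 6, 5, 4, 3, 2, 1], 0)),
  (5409, 2, ([2, 3, 4, 0, 1, 2, 3, 8, 9, 8, 5, 2, 3, 4, 1, 2, 3, 8, 7, 6, 5, 4, 3, 2, 1], 0)),
  (8103, 2, ([5, 2, 3, 4, 1, 2, 3, 8, 9, 5, 2, 3, 4, 1, 2, 3, 8, 6, 5, 4, 3, 2, 1], 0)),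
  (5416, 1, ([6, 5, 3, 4, 1, 2, 3, 8, 9, 8, 5, 2, 3, 4, 1, 2, 3, 8, 7, 6, 5, 4, 3, 2, 1], 0)),
  (5424, 501, ([9, 8, 5, 3, 4, 2, 3, 8, 9, 8, 5, 2, 3, 4, 1, 2, 3, 8, 7, 6, 5, 4, 3, 2, 1], 0)),
  (5425, 1, ([5, 2, 3, 4, 1, 2, 3, 8, 9, 6, 5, 2, 3, 4, 1, 2, 3, 8, 7, 6, 5, 4, 3, 2, 1], 0)),
  (5430, 2, ([9, 8, 3, 4, 1, 2, 3, 8, 9, 6, 5, 2, 3, 4, 1, 2, 3, 8, 7, 6, 5, 4, 3, 2, 1], 0)),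
  (8055, 1, ([5, 4, 1, 2, 3, 8, 9, 2, 3, 4, 1, 2, 3, 8, 5, 4, 3, 2, 1], 0)),
  (5450, 1, ([6, 4, 5, 3, 4, 1, 2, 3, 8, 9, 8, 6, 5, 2, 3, 4, 1, 2, 3, 8, 7, 6, 5, 4, 3, 2, 1], 0)),
  (5454, 1, ([9, 8, 5, 3, 4, 1, 2, 3, 8, 9, 8, 6, 5, 2, 3, 4, 1, 2, 3, 8, 7, 6, 5, 4, 3, 2, 1], 0)),
  (5459, 1, ([9, 8, 4, 5, 3, 4, 2, 3, 8, 9, 8, 6, 5, 2, 3, 4, 1, 2, 3, 8, 7, 6, 5, 4, 3, 2, 1], 0)),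
  (8761, 1, ([4, 5, 2, 3, 4, 0, 1, 2, 3, 8, 9, 8, 5, 3, 4, 1, 2, 3, 8, 6, 5, 4, 3, 2, 1], 0)),
  (5464, 501, ([5, 4, 1, 2, 3, 8, 9, 3, 4, 5, 2, 3, 4, 1, 2, 3, 8, 6, 5, 4, 3, 2, 1], 0)),
  (5726, 1, ([5, 4, 2, 3, 8, 9, 1, 2, 3, 8, 7, 6, 5, 4, 3, 2, 1], 0)),
  (5471, 1, ([2, 3, 4, 1, 2, 3, 8, 9, 4, 5, 2, 3, 4, 1, 2, 3, 8, 6, 5, 4, 3, 2, 1], 0)),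
  (5474, 501, ([6, 5, 4, 1, 2, 3, 8, 9, 4, 5, 2, 3, 4, 1, 2, 3, 8, 6, 5, 4, 3, 2, 1], 0)),
  (5475, 1, ([4, 5, 3, 4, 2, 3, 8, 9, 4, 5, 2, 3, 4, 1, 2, 3, 8, 6, 5, 4, 3, 2, 1], 0)),
  (5478, 500, ([9, 8, 3, 4, 2, 3, 8, 9, 4, 5, 2, 3, 4, 1, 2, 3, 8, 6, 5, 4, 3, 2, 1], 0)),
  (7166, 1, ([7, 6, 5, 4, 1, 2, 3, 8, 9, 5, 3, 4, 1, 2, 3, 8, 6, 5, 4, 3, 2, 1], 0)),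
  (6560, 1, ([6, 5, 4, 2, 3, 8, 9, 4, 1, 2, 3, 8, 6, 5, 4, 3, 2, 1], 0)),
  (5501, 1, ([6, 5, 4, 1, 2, 3, 8, 9, 3, 4, 5, 2, 3, 4, 1, 2, 3, 8, 7, 6, 5, 4, 3, 2, 1], 0)),
  (5502, 1, ([4, 5, 3, 4, 2, 3, 8, 9, 3, 4, 5, 2, 3, 4, 1, 2, 3, 8, 7, 6, 5, 4, 3, 2, 1], 0)),
  (5505, 1, ([9, 8, 3, 4, 2, 3, 8, 9, 3, 4, 5, 2, 3, 4, 1, 2, 3, 8, 7, 6, 5, 4, 3, 2, 1], 0)),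
  (5509, 500, ([8, 3, 4, 0, 1, 2, 3, 8, 9, 4, 5, 2, 3, 4, 1, 2, 3, 8, 7, 6, 5, 4, 3, 2, 1], 0)),
  (5511, 501, ([5, 2, 3, 4, 1, 2, 3, 8, 9, 4, 5, 2, 3, 4, 1, 2, 3, 8, 7, 6, 5, 4, 3, 2, 1], 0)),
  (7194, 500, ([9, 8, 4, 5, 3, 4, 2, 3, 8, 9, 8, 5, 3, 4, 1, 2, 3, 8, 6, 5, 4, 3, 2, 1], 0)),
  (5528, 2, ([5, 4, 3, 8, 2, 3, 4, 1, 2, 3, 8, 9, 5, 4, 1, 2, 3, 8, 7, 6, 5, 4, 3, 2, 1], 0)),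
  (5538, 500, ([1, 2, 3, 8, 6, 4, 5, 3, 4, 2, 3, 8, 9, 4, 1, 2, 3, 8, 7, 6, 5, 4, 3, 2, 1], 0)),
  (5539, 1, ([8, 6, 5, 3, 4, 1, 2, 3, 8, 9, 8, 4, 5, 2, 3, 4, 1, 2, 3, 8, 7, 6, 5, 4, 3, 2, 1], 0)),
  (5771, 1, ([5, 2, 3, 4, 1, 2, 3, 8, 9, 8, 5, 3, 4, 1, 2, 3, 8, 6, 5, 4, 3, 2, 1], 0)),
  (5542, 1, ([2, 3, 8, 6, 4, 5, 3, 4, 2, 3, 8, 9, 3, 4, 1, 2, 3, 8, 7, 6, 5, 4, 3, 2, 1], 0)),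
  (8722, 1, ([4, 5, 2, 3, 4, 1, 2, 3, 8, 9, 3, 4, 1, 2, 3, 8, 7, 6, 5, 4, 3, 2, 1], 0)),
  (5758, 500, ([2, 3, 4, 1, 2, 3, 8, 9, 5, 3, 4, 1, 2, 3, 8, 6, 5, 4, 3, 2, 1], 0)),
  (5546, 1, ([2, 3, 8, 6, 4, 5, 3, 4, 2, 3, 8, 9, 5, 4, 1, 2, 3, 8, 7, 6, 5, 4, 3, 2, 1], 0)),
  (5547, 1, ([9, 8, 6, 5, 3, 4, 2, 3, 8, 9, 8, 4, 5, 2, 3, 4, 1, 2, 3, 8, 7, 6, 5, 4, 3, 2, 1], 0)),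
  (10654, 2, ([9, 8, 6, 5, 2, 3, 4, 1, 2, 3, 8, 9, 8, 5, 3, 4, 1, 2, 3, 8, 6, 5, 4, 3, 2, 1], 0)),
  (5553, 1, ([8, 2, 3, 4, 1, 2, 3, 8, 9, 6, 3, 4, 5, 2, 3, 4, 1, 2, 3, 8, 7, 6, 5, 4, 3, 2, 1], 0)),
  (7236, 1, ([9, 3, 8, 2, 3, 4, 1, 2, 3, 8, 9, 8, 5, 3, 4, 1, 2, 3, 8, 7, 6, 5, 4, 3, 2, 1], 0)),
  (9720, 1, ([9, 8, 2, 3, 4, 1, 2, 3, 8, 9, 3, 8, 5, 2, 3, 4, 1, 2, 3, 8, 6, 5, 4, 3, 2, 1], 0)),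
  (5558, 1, ([7, 6, 5, 4, 1, 2, 3, 8, 9, 6, 3, 4, 5, 2, 3, 4, 1, 2, 3, 8, 7, 6, 5, 4, 3, 2, 1], 0)),
  (6635, 1, ([5, 4, 1, 2, 3, 8, 9, 2, 3, 4, 1, 2, 3, 8, 6, 5, 4, 3, 2, 1], 0)),
  (6568, 1, ([7, 6, 5, 4, 2, 3, 8, 9, 4, 1, 2, 3, 8, 7, 6, 5, 4, 3, 2, 1], 0)),
  (6173, 1, ([8, 7, 6, 5, 2, 3, 4, 1, 2, 3, 8, 9, 5, 4, 1, 2, 3, 8, 7, 6, 5, 4, 3, 2, 1], 0)),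
  (5569, 1, ([8, 5, 3, 4, 0, 1, 2, 3, 8, 9, 6, 4, 5, 2, 3, 4, 1, 2, 3, 8, 7, 6, 5, 4, 3, 2, 1], 0)),
  (5573, 1, ([6, 5, 2, 3, 4, 1, 2, 3, 8, 9, 6, 4, 5, 2, 3, 4, 1, 2, 3, 8, 7, 6, 5, 4, 3, 2, 1], 0)),
  (5581, 501, ([9, 8, 5, 3, 4, 1, 2, 3, 8, 9, 6, 4, 5, 2, 3, 4, 1, 2, 3, 8, 7, 6, 5, 4, 3, 2, 1], 0)),
  (5586, 501, ([9, 8, 4, 5, 3, 4, 2, 3, 8, 9, 6, 4, 5, 2, 3, 4, 1, 2, 3, 8, 7, 6, 5, 4, 3, 2, 1], 0)),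
  (5587, 1, ([8, 7, 6, 5, 3, 4, 2, 3, 8, 9, 6, 4, 5, 2, 3, 4, 1, 2, 3, 8, 7, 6, 5, 4, 3, 2, 1], 0)),
  (10676, 2, ([3, 8, 4, 5, 2, 3, 4, 1, 2, 3, 8, 9, 5, 3, 4, 1, 2, 3, 8, 7, 6, 5, 4, 3, 2, 1], 0)),
  (8028, 1, ([9, 8, 7, 6, 4, 5, 3, 4, 2, 3, 8, 9, 5, 4, 1, 2, 3, 8, 7, 6, 5, 4, 3, 2, 1], 0)),
  (6213, 501, ([8, 7, 6, 5, 3, 4, 1, 2, 3, 8, 9, 6, 5, 4, 1, 2, 3, 8, 7, 6, 5, 4, 3, 2, 1], 0)),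
  (6623, 1, ([4, 1, 2, 3, 8, 9, 2, 3, 4, 1, 2, 3, 8, 5, 4, 3, 2, 1], 0)),
  (5601, 1, ([3, 4, 5, 2, 3, 4, 1, 2, 3, 8, 9, 8, 6, 4, 5, 2, 3, 4, 1, 2, 3, 8, 7, 6, 5, 4, 3, 2, 1], 0)),
  (8756, 1, ([9, 8, 5, 3, 4, 1, 2, 3, 8, 9, 5, 3, 4, 1, 2, 3, 8, 6, 5, 4, 3, 2, 1], 0)),
  (5606, 1, ([3, 8, 5, 2, 3, 4, 1, 2, 3, 8, 9, 8, 6, 4, 5, 2, 3, 4, 1, 2, 3, 8, 7, 6, 5, 4, 3, 2, 1], 0)),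
  (7454, 1, ([3, 8, 6, 4, 5, 3, 4, 1, 2, 3, 8, 9, 8, 4, 5, 3, 4, 1, 2, 3, 8, 7, 6, 5, 4, 3, 2, 1], 0)),
  (5608, 1, ([3, 8, 2, 3, 4, 0, 1, 2, 3, 8, 9, 6, 5, 2, 3, 4, 1, 2, 3, 8, 7, 6, 5, 4, 3, 2, 1], 0)),
  (10050, 1, ([9, 8, 5, 3, 4, 1, 2, 3, 8, 9, 3, 4, 5, 2, 3, 4, 1, 2, 3, 8, 6, 5, 4, 3, 2, 1], 0)),
  (8826, 1, ([6, 3, 4, 5, 2, 3, 4, 1, 2, 3, 8, 9, 3, 4, 1, 2, 3, 8, 7, 6, 5, 4, 3, 2, 1], 0)),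
  (5615, 1, ([1, 2, 3, 8, 5, 6, 4, 5, 3, 4, 2, 3, 8, 9, 5, 4, 1, 2, 3, 8, 7, 6, 5, 4, 3, 2, 1], 0)),
  (9935, 501, ([9, 3, 8, 5, 2, 3, 4, 1, 2, 3, 8, 9, 6, 5, 2, 3, 4, 1, 2, 3, 8, 7, 6, 5, 4, 3, 2, 1], 0)),
  (5800, 500, ([1, 2, 3, 4, 0, 1, 2, 3, 8, 9, 8, 5, 3, 4, 1, 2, 3, 8, 7, 6, 5, 4, 3, 2, 1], 0)),
  (10666, 1, ([9, 3, 8, 6, 4, 5, 3, 4, 2, 3, 8, 9, 5, 2, 3, 4, 1, 2, 3, 8, 6, 5, 4, 3, 2, 1], 0)),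
  (5623, 501, ([9, 3, 8, 4, 5, 3, 4, 2, 3, 8, 9, 8, 6, 4, 5, 2, 3, 4, 1, 2, 3, 8, 7, 6, 5, 4, 3, 2, 1], 0)),
  (11739, 2, ([3, 4, 5, 2, 3, 4, 1, 2, 3, 8, 9, 5, 2, 3, 4, 1, 2, 3, 8, 6, 5, 4, 3, 2, 1], 0)),
  (7843, 1, ([3, 4, 5, 2, 3, 4, 1, 2, 3, 8, 9, 5, 3, 4, 2, 3, 8, 7, 6, 5, 4, 3, 2, 1], 0)),
  (5632, 1, ([7, 6, 4, 5, 3, 4, 2, 3, 8, 9, 5, 6, 3, 4, 5, 2, 3, 4, 1, 2, 3, 8, 7, 6, 5, 4, 3, 2, 1], 0)),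
  (6666, 1, ([8, 6, 5, 3, 4, 1, 2, 3, 8, 9, 4, 1, 2, 3, 8, 7, 6, 5, 4, 3, 2, 1], 0)),
  (7308, 501, ([9, 3, 8, 5, 2, 3, 4, 1, 2, 3, 8, 9, 8, 6, 5, 3, 4, 1, 2, 3, 8, 7, 6, 5, 4, 3, 2, 1], 0)),
  (6495, 1, ([6, 4, 5, 3, 4, 0, 1, 2, 3, 8, 9, 5, 3, 4, 1, 2, 3, 8, 7, 6, 5, 4, 3, 2, 1], 0)),
  (10257, 1, ([1, 2, 3, 8, 5, 6, 4, 5, 3, 4, 1, 2, 3, 8, 9, 3, 4, 1, 2, 3, 8, 7, 6, 5, 4, 3, 2, 1], 0)),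
  (8360, 1, ([6, 4, 5, 3, 4, 1, 2, 3, 8, 9, 3, 4, 5, 2, 3, 4, 1, 2, 3, 8, 7, 6, 5, 4, 3, 2, 1], 0)),
  (10735, 1, ([9, 3, 8, 6, 4, 5, 3, 4, 1, 2, 3, 8, 9, 8, 5, 3, 4, 1, 2, 3, 8, 7, 6, 5, 4, 3, 2, 1], 0)),
  (10744, 1, ([9, 3, 8, 5, 6, 4, 5, 3, 4, 2, 3, 8, 9, 8, 5, 3, 4, 1, 2, 3, 8, 7, 6, 5, 4, 3, 2, 1], 0)),
  (5675, 2, ([3, 4, 2, 3, 8, 3, 4, 5, 2, 3, 4, 1, 2, 3, 8, 9, 6, 5, 4, 2, 3, 8, 7, 6, 5, 4, 3, 2, 1], 0)),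
  (9852, 2, ([7, 6, 5, 2, 3, 4, 1, 2, 3, 8, 9, 5, 2, 3, 4, 1, 2, 3, 8, 7, 6, 5, 4, 3, 2, 1], 0)),
  (6791, 501, ([8, 3, 4, 1, 2, 3, 8, 9, 3, 4, 5, 2, 3, 4, 1, 2, 3, 8, 6, 5, 4, 3, 2, 1], 0)),
  (5982, 1, ([5, 1, 2, 3, 4, 0, 1, 2, 3, 8, 9, 6, 4, 5, 3, 4, 1, 2, 3, 8, 7, 6, 5, 4, 3, 2, 1], 0)),
  (7232, 501, ([8, 6, 5, 2, 3, 4, 1, 2, 3, 8, 9, 8, 5, 3, 4, 1, 2, 3, 8, 7, 6, 5, 4, 3, 2, 1], 0)),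
  (7757, 1, ([9, 8, 5, 6, 4, 5, 2, 3, 4, 1, 2, 3, 8, 9, 6, 5, 4, 1, 2, 3, 8, 7, 6, 5, 4, 3, 2, 1], 0)),
  (5691, 500, ([4, 2, 3, 8, 9, 4, 1, 2, 3, 8, 5, 4, 3, 2, 1], 0)),
  (5699, 1, ([5, 4, 1, 2, 3, 8, 9, 8, 3, 4, 1, 2, 3, 8, 5, 4, 3, 2, 1], 0)),
  (5706, 1, ([5, 4, 2, 3, 8, 9, 4, 1, 2, 3, 8, 6, 5, 4, 3, 2, 1], 0)),
  (5709, 1, ([5, 4, 1, 2, 3, 8, 9, 3, 4, 1, 2, 3, 8, 6, 5, 4, 3, 2, 1], 0)),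
  (5719, 1, ([6, 5, 4, 1, 2, 3, 8, 9, 8, 3, 4, 1, 2, 3, 8, 6, 5, 4, 3, 2, 1], 0)),
  (6131, 1, ([8, 5, 3, 4, 1, 2, 3, 8, 9, 5, 4, 1, 2, 3, 8, 6, 5, 4, 3, 2, 1], 0)),
  (5756, 1, ([6, 5, 4, 2, 3, 8, 9, 5, 4, 1, 2, 3, 8, 6, 5, 4, 3, 2, 1], 0)),
  (5773, 1, ([4, 5, 3, 4, 1, 2, 3, 8, 9, 8, 5, 3, 4, 1, 2, 3, 8, 6, 5, 4, 3, 2, 1], 0)),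
  (5776, 1, ([9, 8, 3, 4, 1, 2, 3, 8, 9, 8, 5, 3, 4, 1, 2, 3, 8, 6, 5, 4, 3, 2, 1], 0)),
  (5778, 1, ([6, 4, 5, 3, 4, 2, 3, 8, 9, 8, 5, 3, 4, 1, 2, 3, 8, 6, 5, 4, 3, 2, 1], 0)),
  (5782, 1, ([9, 8, 5, 3, 4, 2, 3, 8, 9, 8, 5, 3, 4, 1, 2, 3, 8, 6, 5, 4, 3, 2, 1], 0)),
  (5784, 1, ([6, 5, 3, 4, 2, 3, 8, 9, 5, 4, 1, 2, 3, 8, 7, 6, 5, 4, 3, 2, 1], 0)),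
  (5785, 1, ([8, 5, 3, 4, 2, 3, 8, 9, 5, 4, 1, 2, 3, 8, 7, 6, 5, 4, 3, 2, 1], 0)),
  (5787, 1, ([7, 6, 5, 4, 2, 3, 8, 9, 5, 4, 1, 2, 3, 8, 7, 6, 5, 4, 3, 2, 1], 0)),
  (5788, 1, ([5, 2, 3, 4, 1, 2, 3, 8, 9, 5, 3, 4, 1, 2, 3, 8, 7, 6, 5, 4, 3, 2, 1], 0)),
  (5789, 1, ([8, 2, 3, 4, 1, 2, 3, 8, 9, 5, 3, 4, 1, 2, 3, 8, 7, 6, 5, 4, 3, 2, 1], 0)),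
  (5792, 1, ([8, 5, 3, 4, 1, 2, 3, 8, 9, 5, 3, 4, 1, 2, 3, 8, 7, 6, 5, 4, 3, 2, 1], 0)),
  (5799, 1, ([9, 8, 5, 3, 4, 2, 3, 8, 9, 5, 3, 4, 1, 2, 3, 8, 7, 6, 5, 4, 3, 2, 1], 0)),
  (5812, 1, ([9, 8, 2, 3, 4, 1, 2, 3, 8, 9, 8, 5, 3, 4, 1, 2, 3, 8, 7, 6, 5, 4, 3, 2, 1], 0)),
  (5815, 1, ([7, 6, 5, 3, 4, 1, 2, 3, 8, 9, 8, 5, 3, 4, 1, 2, 3, 8, 7, 6, 5, 4, 3, 2, 1], 0))]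

/-- Representatives, part 10. -/
def reps11_10 : List (ℕ × ℕ × (List ℕ × ℕ)) := [(6819, 1, ([5, 4, 3, 8, 2, 3, 4, 1, 2, 3, 8, 9, 5, 4, 1, 2, 3, 8, 6, 5, 4, 3, 2, 1], 0)),
  (5825, 1, ([6, 4, 5, 3, 4, 2, 3, 8, 9, 6, 5, 4, 1, 2, 3, 8, 7, 6, 5, 4, 3, 2, 1], 0)),
  (5829, 1, ([9, 8, 5, 3, 4, 2, 3, 8, 9, 6, 5, 4, 1, 2, 3, 8, 7, 6, 5, 4, 3, 2, 1], 0)),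
  (5831, 1, ([6, 5, 2, 3, 4, 1, 2, 3, 8, 9, 6, 5, 3, 4, 1, 2, 3, 8, 7, 6, 5, 4, 3, 2, 1], 0)),
  (5833, 1, ([9, 8, 2, 3, 4, 1, 2, 3, 8, 9, 6, 5, 3, 4, 1, 2, 3, 8, 7, 6, 5, 4, 3, 2, 1], 0)),
  (5839, 1, ([5, 6, 4, 5, 3, 4, 2, 3, 8, 9, 6, 5, 3, 4, 1, 2, 3, 8, 7, 6, 5, 4, 3, 2, 1], 0)),
  (5843, 2, ([9, 8, 4, 5, 3, 4, 2, 3, 8, 9, 6, 5, 3, 4, 1, 2, 3, 8, 7, 6, 5, 4, 3, 2, 1], 0)),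
  (5844, 1, ([8, 7, 6, 5, 3, 4, 2, 3, 8, 9, 6, 5, 3, 4, 1, 2, 3, 8, 7, 6, 5, 4, 3, 2, 1], 0)),
  (5845, 1, ([9, 8, 6, 5, 3, 4, 2, 3, 8, 9, 6, 5, 3, 4, 1, 2, 3, 8, 7, 6, 5, 4, 3, 2, 1], 0)),
  (5847, 1, ([3, 8, 2, 3, 4, 0, 1, 2, 3, 8, 9, 6, 4, 5, 3, 4, 1, 2, 3, 8, 7, 6, 5, 4, 3, 2, 1], 0)),
  (5850, 1, ([8, 5, 2, 3, 4, 0, 1, 2, 3, 8, 9, 8, 6, 5, 3, 4, 1, 2, 3, 8, 7, 6, 5, 4, 3, 2, 1], 0)),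
  (5851, 1, ([8, 1, 2, 3, 4, 0, 1, 2, 3, 8, 9, 6, 4, 5, 3, 4, 1, 2, 3, 8, 7, 6, 5, 4, 3, 2, 1], 0)),
  (6724, 1, ([3, 8, 6, 4, 5, 3, 4, 1, 2, 3, 8, 9, 4, 1, 2, 3, 8, 7, 6, 5, 4, 3, 2, 1], 0)),
  (6559, 1, ([6, 5, 3, 4, 1, 2, 3, 8, 9, 4, 1, 2, 3, 8, 6, 5, 4, 3, 2, 1], 0)),
  (5861, 1, ([7, 6, 5, 2, 3, 4, 1, 2, 3, 8, 9, 8, 6, 5, 3, 4, 1, 2, 3, 8, 7, 6, 5, 4, 3, 2, 1], 0)),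
  (5862, 1, ([8, 6, 5, 2, 3, 4, 1, 2, 3, 8, 9, 8, 6, 5, 3, 4, 1, 2, 3, 8, 7, 6, 5, 4, 3, 2, 1], 0)),
  (5878, 500, ([9, 8, 6, 4, 5, 3, 4, 2, 3, 8, 9, 8, 6, 5, 3, 4, 1, 2, 3, 8, 7, 6, 5, 4, 3, 2, 1], 0)),
  (5879, 1, ([2, 3, 8, 4, 5, 3, 4, 2, 3, 8, 9, 8, 6, 5, 3, 4, 1, 2, 3, 8, 7, 6, 5, 4, 3, 2, 1], 0)),
  (7414, 2, ([7, 5, 6, 4, 5, 3, 4, 2, 3, 8, 9, 4, 5, 3, 4, 1, 2, 3, 8, 7, 6, 5, 4, 3, 2, 1], 0)),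
  (5884, 1, ([8, 3, 4, 0, 1, 2, 3, 8, 9, 4, 5, 3, 4, 1, 2, 3, 8, 6, 5, 4, 3, 2, 1], 0)),
  (5887, 1, ([8, 2, 3, 4, 1, 2, 3, 8, 9, 4, 5, 3, 4, 1, 2, 3, 8, 6, 5, 4, 3, 2, 1], 0)),
  (5890, 1, ([8, 5, 3, 4, 1, 2, 3, 8, 9, 4, 5, 3, 4, 1, 2, 3, 8, 6, 5, 4, 3, 2, 1], 0)),
  (5891, 1, ([9, 8, 3, 4, 1, 2, 3, 8, 9, 4, 5, 3, 4, 1, 2, 3, 8, 6, 5, 4, 3, 2, 1], 0)),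
  (5893, 1, ([6, 4, 5, 3, 4, 2, 3, 8, 9, 4, 5, 3, 4, 1, 2, 3, 8, 6, 5, 4, 3, 2, 1], 0)),
  (5903, 3, ([3, 8, 5, 2, 3, 4, 1, 2, 3, 8, 9, 5, 4, 1, 2, 3, 8, 6, 5, 4, 3, 2, 1], 0)),
  (8101, 2, ([7, 6, 4, 5, 3, 4, 2, 3, 8, 9, 5, 3, 4, 1, 2, 3, 8, 6, 5, 4, 3, 2, 1], 0)),
  (9783, 500, ([4, 5, 2, 3, 4, 1, 2, 3, 8, 9, 2, 3, 4, 1, 2, 3, 8, 7, 6, 5, 4, 3, 2, 1], 0)),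
  (7207, 1, ([8, 6, 5, 3, 4, 1, 2, 3, 8, 9, 5, 3, 4, 1, 2, 3, 8, 7, 6, 5, 4, 3, 2, 1], 0)),
  (6566, 1, ([7, 6, 5, 3, 4, 1, 2, 3, 8, 9, 4, 1, 2, 3, 8, 7, 6, 5, 4, 3, 2, 1], 0)),
  (5921, 1, ([8, 7, 6, 5, 3, 4, 2, 3, 8, 9, 8, 4, 5, 3, 4, 1, 2, 3, 8, 6, 5, 4, 3, 2, 1], 0)),
  (7993, 501, ([8, 3, 4, 0, 1, 2, 3, 8, 9, 2, 3, 4, 1, 2, 3, 8, 6, 5, 4, 3, 2, 1], 0)),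
  (5925, 2, ([8, 2, 3, 4, 0, 1, 2, 3, 8, 9, 4, 5, 3, 4, 1, 2, 3, 8, 7, 6, 5, 4, 3, 2, 1], 0)),
  (5928, 1, ([8, 5, 3, 4, 0, 1, 2, 3, 8, 9, 4, 5, 3, 4, 1, 2, 3, 8, 7, 6, 5, 4, 3, 2, 1], 0)),
  (5931, 1, ([4, 5, 2, 3, 4, 1, 2, 3, 8, 9, 4, 5, 3, 4, 1, 2, 3, 8, 7, 6, 5, 4, 3, 2, 1], 0)),
  (5936, 1, ([6, 4, 5, 3, 4, 1, 2, 3, 8, 9, 4, 5, 3, 4, 1, 2, 3, 8, 7, 6, 5, 4, 3, 2, 1], 0)),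
  (5939, 1, ([8, 6, 5, 3, 4, 1, 2, 3, 8, 9, 4, 5, 3, 4, 1, 2, 3, 8, 7, 6, 5, 4, 3, 2, 1], 0)),
  (6806, 1, ([8, 5, 3, 4, 1, 2, 3, 8, 9, 4, 5, 2, 3, 4, 1, 2, 3, 8, 6, 5, 4, 3, 2, 1], 0)),
  (5942, 1, ([7, 6, 4, 5, 3, 4, 2, 3, 8, 9, 4, 5, 3, 4, 1, 2, 3, 8, 7, 6, 5, 4, 3, 2, 1], 0)),
  (7992, 1, ([9, 8, 3, 4, 1, 2, 3, 8, 9, 2, 3, 4, 1, 2, 3, 8, 6, 5, 4, 3, 2, 1], 0)),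
  (5951, 2, ([3, 8, 5, 2, 3, 4, 1, 2, 3, 8, 9, 5, 3, 4, 1, 2, 3, 8, 7, 6, 5, 4, 3, 2, 1], 0)),
  (9774, 2, ([6, 5, 3, 4, 1, 2, 3, 8, 9, 2, 3, 4, 1, 2, 3, 8, 6, 5, 4, 3, 2, 1], 0)),
  (5956, 501, ([3, 8, 6, 5, 2, 3, 4, 1, 2, 3, 8, 9, 5, 4, 1, 2, 3, 8, 7, 6, 5, 4, 3, 2, 1], 0)),
  (5963, 1, ([8, 5, 2, 3, 4, 0, 1, 2, 3, 8, 9, 5, 3, 4, 1, 2, 3, 8, 7, 6, 5, 4, 3, 2, 1], 0)),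
  (10071, 1, ([8, 4, 5, 2, 3, 4, 1, 2, 3, 8, 9, 4, 5, 2, 3, 4, 1, 2, 3, 8, 6, 5, 4, 3, 2, 1], 0)),
  (5966, 501, ([9, 8, 2, 3, 4, 0, 1, 2, 3, 8, 9, 5, 3, 4, 1, 2, 3, 8, 7, 6, 5, 4, 3, 2, 1], 0)),
  (5972, 1, ([8, 7, 6, 5, 3, 4, 1, 2, 3, 8, 9, 8, 4, 5, 3, 4, 1, 2, 3, 8, 7, 6, 5, 4, 3, 2, 1], 0)),
  (7980, 1, ([4, 5, 2, 3, 4, 0, 1, 2, 3, 8, 9, 3, 4, 1, 2, 3, 8, 7, 6, 5, 4, 3, 2, 1], 0)),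
  (5985, 501, ([8, 5, 2, 3, 4, 0, 1, 2, 3, 8, 9, 6, 4, 5, 3, 4, 1, 2, 3, 8, 7, 6, 5, 4, 3, 2, 1], 0)),
  (5995, 1, ([7, 6, 5, 2, 3, 4, 1, 2, 3, 8, 9, 6, 4, 5, 3, 4, 1, 2, 3, 8, 7, 6, 5, 4, 3, 2, 1], 0)),
  (5998, 1, ([9, 8, 5, 2, 3, 4, 1, 2, 3, 8, 9, 6, 4, 5, 3, 4, 1, 2, 3, 8, 7, 6, 5, 4, 3, 2, 1], 0)),
  (9849, 1, ([3, 4, 5, 2, 3, 4, 1, 2, 3, 8, 9, 5, 2, 3, 4, 1, 2, 3, 8, 7, 6, 5, 4, 3, 2, 1], 0)),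
  (9818, 500, ([9, 8, 4, 5, 3, 4, 2, 3, 8, 9, 5, 2, 3, 4, 1, 2, 3, 8, 6, 5, 4, 3, 2, 1], 0)),
  (6005, 1, ([8, 7, 6, 5, 3, 4, 1, 2, 3, 8, 9, 6, 4, 5, 3, 4, 1, 2, 3, 8, 7, 6, 5, 4, 3, 2, 1], 0)),
  (6010, 1, ([3, 8, 6, 4, 5, 3, 4, 2, 3, 8, 9, 6, 4, 5, 3, 4, 1, 2, 3, 8, 7, 6, 5, 4, 3, 2, 1], 0)),
  (12741, 1, ([3, 8, 4, 5, 2, 3, 4, 1, 2, 3, 8, 9, 5, 3, 4, 1, 2, 3, 8, 6, 5, 4, 3, 2, 1], 0)),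
  (6014, 1, ([9, 8, 7, 6, 5, 3, 4, 2, 3, 8, 9, 6, 4, 5, 3, 4, 1, 2, 3, 8, 7, 6, 5, 4, 3, 2, 1], 0)),
  (10606, 1, ([5, 6, 4, 5, 3, 4, 1, 2, 3, 8, 9, 5, 3, 4, 1, 2, 3, 8, 6, 5, 4, 3, 2, 1], 0)),
  (6022, 2, ([9, 3, 8, 5, 2, 3, 4, 1, 2, 3, 8, 9, 6, 5, 3, 4, 1, 2, 3, 8, 7, 6, 5, 4, 3, 2, 1], 0)),
  (7886, 501, ([3, 8, 6, 5, 2, 3, 4, 1, 2, 3, 8, 9, 8, 5, 3, 4, 1, 2, 3, 8, 6, 5, 4, 3, 2, 1], 0)),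
  (6030, 3, ([6, 3, 4, 5, 2, 3, 4, 1, 2, 3, 8, 9, 8, 6, 4, 5, 3, 4, 1, 2, 3, 8, 7, 6, 5, 4, 3, 2, 1], 0)),
  (6035, 1, ([3, 8, 4, 5, 2, 3, 4, 1, 2, 3, 8, 9, 8, 6, 4, 5, 3, 4, 1, 2, 3, 8, 7, 6, 5, 4, 3, 2, 1], 0)),
  (6037, 1, ([8, 7, 6, 5, 2, 3, 4, 1, 2, 3, 8, 9, 8, 6, 4, 5, 3, 4, 1, 2, 3, 8, 7, 6, 5, 4, 3, 2, 1], 0)),
  (6132, 501, ([9, 8, 3, 4, 1, 2, 3, 8, 9, 5, 4, 1, 2, 3, 8, 6, 5, 4, 3, 2, 1], 0)),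
  (11409, 1, ([8, 9, 3, 8, 6, 4, 5, 2, 3, 4, 0, 1, 2, 3, 8, 9, 5, 4, 1, 2, 3, 8, 6, 5, 4, 3, 2, 1], 0)),
  (8363, 501, ([8, 6, 5, 3, 4, 1, 2, 3, 8, 9, 3, 4, 5, 2, 3, 4, 1, 2, 3, 8, 7, 6, 5, 4, 3, 2, 1], 0)),
  (6049, 1, ([2, 3, 8, 4, 5, 3, 4, 1, 2, 3, 8, 9, 8, 6, 4, 5, 3, 4, 1, 2, 3, 8, 7, 6, 5, 4, 3, 2, 1], 0)),
  (10783, 2, ([2, 3, 8, 5, 6, 4, 5, 3, 4, 2, 3, 8, 9, 6, 5, 3, 4, 1, 2, 3, 8, 7, 6, 5, 4, 3, 2, 1], 0)),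
  (6581, 1, ([4, 5, 3, 4, 2, 3, 8, 9, 4, 1, 2, 3, 8, 7, 6, 5, 4, 3, 2, 1], 0)),
  (9716, 2, ([8, 5, 3, 4, 0, 1, 2, 3, 8, 9, 2, 3, 4, 1, 2, 3, 8, 6, 5, 4, 3, 2, 1], 0)),
  (10236, 1, ([5, 4, 3, 8, 4, 5, 2, 3, 4, 1, 2, 3, 8, 9, 5, 3, 4, 1, 2, 3, 8, 7, 6, 5, 4, 3, 2, 1], 0)),
  (6059, 501, ([9, 3, 8, 6, 4, 5, 3, 4, 2, 3, 8, 9, 8, 6, 4, 5, 3, 4, 1, 2, 3, 8, 7, 6, 5, 4, 3, 2, 1], 0)),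
  (11754, 500, ([8, 9, 3, 8, 4, 5, 3, 4, 2, 3, 8, 9, 3, 4, 1, 2, 3, 8, 7, 6, 5, 4, 3, 2, 1], 0)),
  (6084, 501, ([8, 9, 3, 8, 4, 5, 3, 4, 2, 3, 8, 9, 5, 6, 4, 5, 3, 4, 1, 2, 3, 8, 7, 6, 5, 4, 3, 2, 1], 0)),
  (13918, 1, ([9, 8, 5, 6, 4, 5, 3, 4, 1, 2, 3, 8, 9, 5, 2, 3, 4, 1, 2, 3, 8, 7, 6, 5, 4, 3, 2, 1], 0)),
  (12757, 2, ([9, 8, 3, 4, 5, 2, 3, 4, 1, 2, 3, 8, 9, 8, 5, 3, 4, 1, 2, 3, 8, 6, 5, 4, 3, 2, 1], 0)),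
  (8825, 500, ([5, 6, 4, 5, 3, 4, 0, 1, 2, 3, 8, 9, 8, 5, 3, 4, 1, 2, 3, 8, 7, 6, 5, 4, 3, 2, 1], 0)),
  (9923, 500, ([9, 8, 7, 6, 4, 5, 3, 4, 2, 3, 8, 9, 8, 5, 3, 4, 1, 2, 3, 8, 6, 5, 4, 3, 2, 1], 0)),
  (9149, 1, ([9, 3, 8, 7, 6, 4, 5, 3, 4, 2, 3, 8, 9, 8, 4, 5, 3, 4, 1, 2, 3, 8, 7, 6, 5, 4, 3, 2, 1], 0)),
  (10287, 1, ([2, 3, 8, 5, 6, 4, 5, 3, 4, 2, 3, 8, 9, 4, 5, 3, 4, 1, 2, 3, 8, 7, 6, 5, 4, 3, 2, 1], 0)),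
  (7251, 1, ([9, 8, 7, 6, 5, 3, 4, 2, 3, 8, 9, 8, 5, 3, 4, 1, 2, 3, 8, 7, 6, 5, 4, 3, 2, 1], 0)),
  (9626, 500, ([4, 5, 2, 3, 4, 0, 1, 2, 3, 8, 9, 5, 2, 3, 4, 1, 2, 3, 8, 6, 5, 4, 3, 2, 1], 0)),
  (12362, 1, ([2, 3, 8, 7, 6, 4, 5, 3, 4, 1, 2, 3, 8, 9, 4, 5, 3, 4, 1, 2, 3, 8, 7, 6, 5, 4, 3, 2, 1], 0)),
  (12753, 500, ([9, 8, 3, 4, 5, 2, 3, 4, 1, 2, 3, 8, 9, 3, 4, 1, 2, 3, 8, 6, 5, 4, 3, 2, 1], 0)),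
  (7352, 500, ([9, 8, 4, 5, 3, 4, 2, 3, 8, 9, 4, 5, 3, 4, 1, 2, 3, 8, 6, 5, 4, 3, 2, 1], 0)),
  (13879, 1, ([8, 9, 3, 8, 2, 3, 4, 0, 1, 2, 3, 8, 9, 8, 5, 2, 3, 4, 1, 2, 3, 8, 6, 5, 4, 3, 2, 1], 0)),
  (6129, 1, ([4, 5, 3, 4, 1, 2, 3, 8, 9, 5, 4, 1, 2, 3, 8, 6, 5, 4, 3, 2, 1], 0)),
  (6130, 1, ([6, 5, 3, 4, 1, 2, 3, 8, 9, 5, 4, 1, 2, 3, 8, 6, 5, 4, 3, 2, 1], 0)),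
  (6152, 1, ([8, 7, 6, 5, 2, 3, 4, 0, 1, 2, 3, 8, 9, 5, 4, 1, 2, 3, 8, 6, 5, 4, 3, 2, 1], 0)),
  (6162, 2, ([4, 5, 3, 4, 1, 2, 3, 8, 9, 4, 1, 2, 3, 8, 7, 6, 5, 4, 3, 2, 1], 0)),
  (6167, 1, ([9, 8, 5, 3, 4, 1, 2, 3, 8, 9, 5, 4, 1, 2, 3, 8, 7, 6, 5, 4, 3, 2, 1], 0)),
  (6168, 501, ([5, 6, 4, 5, 2, 3, 4, 1, 2, 3, 8, 9, 5, 4, 1, 2, 3, 8, 7, 6, 5, 4, 3, 2, 1], 0)),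
  (6169, 1, ([7, 6, 4, 5, 2, 3, 4, 1, 2, 3, 8, 9, 5, 4, 1, 2, 3, 8, 7, 6, 5, 4, 3, 2, 1], 0)),
  (6171, 1, ([3, 8, 4, 5, 2, 3, 4, 1, 2, 3, 8, 9, 5, 4, 1, 2, 3, 8, 7, 6, 5, 4, 3, 2, 1], 0)),
  (7213, 1, ([9, 8, 4, 5, 3, 4, 2, 3, 8, 9, 5, 3, 4, 1, 2, 3, 8, 7, 6, 5, 4, 3, 2, 1], 0)),
  (6178, 1, ([7, 6, 4, 5, 3, 4, 0, 1, 2, 3, 8, 9, 5, 4, 1, 2, 3, 8, 7, 6, 5, 4, 3, 2, 1], 0)),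
  (6184, 1, ([9, 8, 6, 5, 3, 4, 0, 1, 2, 3, 8, 9, 5, 4, 1, 2, 3, 8, 7, 6, 5, 4, 3, 2, 1], 0)),
  (6625, 1, ([5, 4, 2, 3, 8, 9, 2, 3, 4, 1, 2, 3, 8, 5, 4, 3, 2, 1], 0)),
  (9858, 1, ([7, 6, 4, 5, 3, 4, 1, 2, 3, 8, 9, 5, 2, 3, 4, 1, 2, 3, 8, 7, 6, 5, 4, 3, 2, 1], 0)),
  (6208, 1, ([5, 6, 4, 5, 3, 4, 1, 2, 3, 8, 9, 6, 5, 4, 1, 2, 3, 8, 7, 6, 5, 4, 3, 2, 1], 0)),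
  (6211, 1, ([3, 8, 4, 5, 3, 4, 1, 2, 3, 8, 9, 6, 5, 4, 1, 2, 3, 8, 7, 6, 5, 4, 3, 2, 1], 0)),
  (6219, 1, ([9, 8, 6, 4, 5, 2, 3, 4, 1, 2, 3, 8, 9, 6, 5, 4, 1, 2, 3, 8, 7, 6, 5, 4, 3, 2, 1], 0)),
  (8810, 1, ([9, 8, 6, 4, 5, 3, 4, 2, 3, 8, 9, 5, 3, 4, 1, 2, 3, 8, 7, 6, 5, 4, 3, 2, 1], 0)),
  (6228, 1, ([2, 3, 8, 4, 5, 3, 4, 0, 1, 2, 3, 8, 9, 6, 5, 4, 1, 2, 3, 8, 7, 6, 5, 4, 3, 2, 1], 0)),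
  (6229, 1, ([3, 8, 4, 5, 3, 4, 0, 1, 2, 3, 8, 9, 6, 5, 3, 4, 1, 2, 3, 8, 7, 6, 5, 4, 3, 2, 1], 0)),
  (9836, 1, ([3, 8, 5, 2, 3, 4, 1, 2, 3, 8, 9, 8, 5, 2, 3, 4, 1, 2, 3, 8, 6, 5, 4, 3, 2, 1], 0)),
  (6242, 1, ([9, 8, 5, 6, 4, 5, 2, 3, 4, 0, 1, 2, 3, 8, 9, 6, 5, 4, 1, 2, 3, 8, 7, 6, 5, 4, 3, 2, 1], 0)),
  (7665, 1, ([9, 8, 4, 5, 2, 3, 4, 1, 2, 3, 8, 9, 5, 4, 1, 2, 3, 8, 6, 5, 4, 3, 2, 1], 0)),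
  (6246, 1, ([9, 3, 8, 6, 4, 5, 2, 3, 4, 0, 1, 2, 3, 8, 9, 6, 5, 4, 1, 2, 3, 8, 7, 6, 5, 4, 3, 2, 1], 0)),
  (10900, 501, ([8, 6, 5, 2, 3, 4, 0, 1, 2, 3, 8, 9, 4, 5, 3, 4, 1, 2, 3, 8, 6, 5, 4, 3, 2, 1], 0)),
  (10759, 2, ([7, 6, 3, 4, 5, 2, 3, 4, 1, 2, 3, 8, 9, 6, 5, 3, 4, 1, 2, 3, 8, 7, 6, 5, 4, 3, 2, 1], 0)),
  (6249, 1, ([8, 9, 3, 8, 4, 5, 2, 3, 4, 0, 1, 2, 3, 8, 9, 6, 5, 4, 1, 2, 3, 8, 7, 6, 5, 4, 3, 2, 1], 0)),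
  (13923, 1, ([1, 2, 3, 8, 4, 5, 3, 4, 1, 2, 3, 8, 9, 5, 2, 3, 4, 1, 2, 3, 8, 7, 6, 5, 4, 3, 2, 1], 0)),
  (8023, 1, ([9, 8, 7, 6, 4, 5, 3, 4, 1, 2, 3, 8, 9, 5, 4, 1, 2, 3, 8, 6, 5, 4, 3, 2, 1], 0)),
  (8115, 1, ([1, 2, 3, 4, 0, 1, 2, 3, 8, 9, 8, 5, 2, 3, 4, 1, 2, 3, 8, 6, 5, 4, 3, 2, 1], 0)),
  (9902, 1, ([4, 3, 8, 5, 2, 3, 4, 1, 2, 3, 8, 9, 8, 5, 2, 3, 4, 1, 2, 3, 8, 7, 6, 5, 4, 3, 2, 1], 0)),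
  (6269, 2, ([9, 8, 7, 6, 3, 4, 5, 2, 3, 4, 1, 2, 3, 8, 9, 6, 5, 4, 1, 2, 3, 8, 7, 6, 5, 4, 3, 2, 1], 0)),
  (15033, 1, ([3, 8, 5, 6, 3, 4, 5, 2, 3, 4, 1, 2, 3, 8, 9, 3, 4, 1, 2, 3, 8, 7, 6, 5, 4, 3, 2, 1], 0)),
  (6796, 1, ([9, 8, 3, 4, 2, 3, 8, 9, 3, 4, 5, 2, 3, 4, 1, 2, 3, 8, 6, 5, 4, 3, 2, 1], 0)),
  (15034, 2, ([9, 8, 5, 6, 3, 4, 5, 2, 3, 4, 1, 2, 3, 8, 9, 3, 4, 1, 2, 3, 8, 7, 6, 5, 4, 3, 2, 1], 0)),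
  (7263, 1, ([5, 6, 4, 5, 3, 4, 1, 2, 3, 8, 9, 6, 5, 3, 4, 1, 2, 3, 8, 7, 6, 5, 4, 3, 2, 1], 0)),
  (10831, 1, ([4, 5, 6, 3, 4, 5, 2, 3, 4, 1, 2, 3, 8, 9, 8, 6, 5, 3, 4, 1, 2, 3, 8, 7, 6, 5, 4, 3, 2, 1], 0)),
  (7837, 1, ([6, 5, 2, 3, 4, 1, 2, 3, 8, 9, 5, 3, 4, 2, 3, 8, 6, 5, 4, 3, 2, 1], 0)),
  (6321, 1, ([8, 2, 3, 4, 0, 1, 2, 3, 8, 9, 4, 5, 3, 4, 2, 3, 8, 6, 5, 4, 3, 2, 1], 0)),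
  (6334, 1, ([8, 5, 2, 3, 4, 0, 1, 2, 3, 8, 9, 4, 5, 3, 4, 2, 3, 8, 7, 6, 5, 4, 3, 2, 1], 0)),
  (6335, 2, ([7, 6, 5, 2, 3, 4, 1, 2, 3, 8, 9, 5, 3, 4, 2, 3, 8, 6, 5, 4, 3, 2, 1], 0)),
  (6336, 1, ([6, 5, 2, 3, 4, 0, 1, 2, 3, 8, 9, 8, 5, 3, 4, 2, 3, 8, 7, 6, 5, 4, 3, 2, 1], 0)),
  (7125, 1, ([2, 3, 4, 0, 1, 2, 3, 8, 9, 2, 3, 4, 1, 2, 3, 8, 6, 5, 4, 3, 2, 1], 0)),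
  (8067, 1, ([6, 5, 4, 1, 2, 3, 8, 9, 2, 3, 4, 1, 2, 3, 8, 6, 5, 4, 3, 2, 1], 0)),
  (6351, 2, ([7, 6, 5, 2, 3, 4, 1, 2, 3, 8, 9, 6, 5, 3, 4, 2, 3, 8, 7, 6, 5, 4, 3, 2, 1], 0)),
  (6355, 1, ([8, 6, 5, 2, 3, 4, 0, 1, 2, 3, 8, 9, 6, 4, 5, 3, 4, 2, 3, 8, 7, 6, 5, 4, 3, 2, 1], 0)),
  (6378, 2, ([5, 2, 3, 4, 0, 1, 2, 3, 8, 9, 4, 5, 3, 4, 2, 3, 8, 6, 5, 4, 3, 2, 1], 0)),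
  (6394, 1, ([3, 4, 5, 2, 3, 4, 1, 2, 3, 8, 9, 4, 5, 3, 4, 2, 3, 8, 7, 6, 5, 4, 3, 2, 1], 0)),
  (6479, 1, ([8, 5, 3, 4, 0, 1, 2, 3, 8, 9, 4, 1, 2, 3, 8, 6, 5, 4, 3, 2, 1], 0)),
  (10110, 1, ([0, 1, 2, 3, 8, 4, 5, 3, 4, 2, 3, 8, 9, 5, 4, 1, 2, 3, 8, 7, 6, 5, 4, 3, 2, 1], 0)),
  (7375, 1, ([7, 6, 4, 5, 3, 4, 1, 2, 3, 8, 9, 8, 4, 5, 3, 4, 1, 2, 3, 8, 6, 5, 4, 3, 2, 1], 0)),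
  (13852, 501, ([3, 8, 6, 4, 5, 2, 3, 4, 1, 2, 3, 8, 9, 3, 4, 1, 2, 3, 8, 7, 6, 5, 4, 3, 2, 1], 0)),
  (10650, 2, ([3, 4, 5, 2, 3, 4, 0, 1, 2, 3, 8, 9, 5, 2, 3, 4, 1, 2, 3, 8, 6, 5, 4, 3, 2, 1], 0)),
  (6436, 1, ([6, 5, 2, 3, 4, 0, 1, 2, 3, 8, 9, 6, 5, 2, 3, 4, 1, 2, 3, 8, 7, 6, 5, 4, 3, 2, 1], 0)),
  (6975, 1, ([9, 8, 7, 6, 5, 3, 4, 2, 3, 8, 9, 6, 4, 5, 2, 3, 4, 1, 2, 3, 8, 7, 6, 5, 4, 3, 2, 1], 0)),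
  (6451, 1, ([8, 5, 6, 4, 5, 2, 3, 4, 1, 2, 3, 8, 9, 5, 6, 4, 5, 3, 4, 2, 3, 8, 7, 6, 5, 4, 3, 2, 1], 0)),
  (6455, 1, ([2, 3, 8, 6, 4, 5, 3, 4, 1, 2, 3, 8, 9, 5, 6, 4, 5, 3, 4, 2, 3, 8, 7, 6, 5, 4, 3, 2, 1], 0)),
  (15320, 1, ([8, 9, 3, 8, 4, 5, 2, 3, 4, 1, 2, 3, 8, 9, 4, 5, 3, 4, 1, 2, 3, 8, 6, 5, 4, 3, 2, 1], 0)),
  (7316, 1, ([2, 3, 8, 4, 5, 3, 4, 1, 2, 3, 8, 9, 8, 6, 5, 3, 4, 1, 2, 3, 8, 7, 6, 5, 4, 3, 2, 1], 0)),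
  (6469, 1, ([9, 2, 3, 8, 6, 4, 5, 3, 4, 1, 2, 3, 8, 9, 6, 4, 5, 3, 4, 2, 3, 8, 7, 6, 5, 4, 3, 2, 1], 0)),
  (8746, 501, ([9, 3, 8, 4, 5, 3, 4, 2, 3, 8, 9, 8, 3, 4, 1, 2, 3, 8, 7, 6, 5, 4, 3, 2, 1], 0)),
  (6476, 1, ([6, 5, 4, 1, 2, 3, 8, 9, 4, 1, 2, 3, 8, 6, 5, 4, 3, 2, 1], 0)),
  (6477, 1, ([7, 6, 5, 4, 1, 2, 3, 8, 9, 5, 4, 1, 2, 3, 8, 6, 5, 4, 3, 2, 1], 0)),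
  (6486, 1, ([7, 6, 5, 4, 1, 2, 3, 8, 9, 4, 1, 2, 3, 8, 7, 6, 5, 4, 3, 2, 1], 0)),
  (6492, 1, ([5, 2, 3, 4, 0, 1, 2, 3, 8, 9, 3, 4, 1, 2, 3, 8, 7, 6, 5, 4, 3, 2, 1], 0)),
  (7212, 1, ([3, 8, 4, 5, 3, 4, 2, 3, 8, 9, 5, 3, 4, 1, 2, 3, 8, 7, 6, 5, 4, 3, 2, 1], 0)),
  (7887, 1, ([4, 5, 2, 3, 4, 0, 1, 2, 3, 8, 9, 5, 3, 4, 1, 2, 3, 8, 6, 5, 4, 3, 2, 1], 0)),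
  (6504, 1, ([5, 4, 1, 2, 3, 8, 9, 4, 1, 2, 3, 8, 5, 4, 3, 2, 1], 0)),
  (6515, 501, ([9, 8, 3, 4, 1, 2, 3, 8, 9, 4, 1, 2, 3, 8, 7, 6, 5, 4, 3, 2, 1], 0)),
  (6516, 501, ([9, 8, 3, 4, 1, 2, 3, 8, 9, 2, 3, 4, 1, 2, 3, 8, 7, 6, 5, 4, 3, 2, 1], 0)),
  (6565, 1, ([7, 6, 5, 4, 1, 2, 3, 8, 9, 4, 1, 2, 3, 8, 6, 5, 4, 3, 2, 1], 0)),
  (6567, 1, ([7, 6, 5, 4, 2, 3, 8, 9, 5, 4, 1, 2, 3, 8, 6, 5, 4, 3, 2, 1], 0)),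
  (6570, 1, ([6, 5, 3, 4, 2, 3, 8, 9, 4, 1, 2, 3, 8, 7, 6, 5, 4, 3, 2, 1], 0)),
  (6574, 1, ([6, 4, 5, 3, 4, 1, 2, 3, 8, 9, 5, 4, 1, 2, 3, 8, 6, 5, 4, 3, 2, 1], 0)),
  (6578, 1, ([4, 5, 3, 4, 2, 3, 8, 9, 5, 4, 1, 2, 3, 8, 6, 5, 4, 3, 2, 1], 0)),
  (8758, 1, ([9, 8, 6, 5, 3, 4, 2, 3, 8, 9, 5, 3, 4, 1, 2, 3, 8, 6, 5, 4, 3, 2, 1], 0)),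
  (6588, 1, ([7, 6, 5, 3, 4, 1, 2, 3, 8, 9, 5, 4, 1, 2, 3, 8, 6, 5, 4, 3, 2, 1], 0)),
  (6589, 1, ([7, 6, 4, 5, 3, 4, 1, 2, 3, 8, 9, 5, 4, 1, 2, 3, 8, 7, 6, 5, 4, 3, 2, 1], 0)),
  (6591, 1, ([9, 8, 3, 4, 1, 2, 3, 8, 9, 3, 8, 5, 2, 3, 4, 1, 2, 3, 8, 7, 6, 5, 4, 3, 2, 1], 0)),
  (6592, 2, ([6, 4, 5, 3, 4, 1, 2, 3, 8, 9, 4, 1, 2, 3, 8, 7, 6, 5, 4, 3, 2, 1], 0)),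
  (6602, 500, ([7, 5, 6, 4, 5, 3, 4, 0, 1, 2, 3, 8, 9, 5, 4, 1, 2, 3, 8, 7, 6, 5, 4, 3, 2, 1], 0)),
  (6607, 1, ([7, 5, 6, 4, 5, 2, 3, 4, 1, 2, 3, 8, 9, 5, 4, 1, 2, 3, 8, 7, 6, 5, 4, 3, 2, 1], 0)),
  (8178, 1, ([3, 8, 6, 4, 5, 3, 4, 1, 2, 3, 8, 9, 3, 4, 1, 2, 3, 8, 7, 6, 5, 4, 3, 2, 1], 0)),
  (6615, 1, ([9, 8, 5, 3, 4, 1, 2, 3, 8, 9, 3, 8, 6, 5, 2, 3, 4, 1, 2, 3, 8, 7, 6, 5, 4, 3, 2, 1], 0)),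
  (6617, 1, ([5, 6, 4, 5, 3, 4, 2, 3, 8, 9, 6, 5, 4, 1, 2, 3, 8, 7, 6, 5, 4, 3, 2, 1], 0)),
  (6643, 501, ([5, 3, 4, 1, 2, 3, 8, 9, 8, 2, 3, 4, 1, 2, 3, 8, 6, 5, 4, 3, 2, 1], 0)),
  (6655, 1, ([4, 5, 3, 4, 2, 3, 8, 9, 2, 3, 4, 1, 2, 3, 8, 7, 6, 5, 4, 3, 2, 1], 0)),
  (6659, 501, ([7, 6, 5, 4, 2, 3, 8, 9, 2, 3, 4, 1, 2, 3, 8, 7, 6, 5, 4, 3, 2, 1], 0)),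
  (6676, 2, ([4, 5, 3, 4, 2, 3, 8, 9, 5, 2, 3, 4, 1, 2, 3, 8, 6, 5, 4, 3, 2, 1], 0)),
  (6680, 501, ([9, 8, 4, 5, 3, 4, 2, 3, 8, 9, 4, 1, 2, 3, 8, 7, 6, 5, 4, 3, 2, 1], 0)),
  (6681, 1, ([2, 3, 4, 0, 1, 2, 3, 8, 9, 8, 5, 2, 3, 4, 1, 2, 3, 8, 6, 5, 4, 3, 2, 1], 0)),
  (6685, 2, ([5, 2, 3, 4, 1, 2, 3, 8, 9, 8, 5, 2, 3, 4, 1, 2, 3, 8, 6, 5, 4, 3, 2, 1], 0)),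
  (6699, 1, ([4, 5, 3, 4, 1, 2, 3, 8, 9, 5, 2, 3, 4, 1, 2, 3, 8, 7, 6, 5, 4, 3, 2, 1], 0)),
  (6700, 1, ([6, 5, 3, 4, 1, 2, 3, 8, 9, 5, 2, 3, 4, 1, 2, 3, 8, 7, 6, 5, 4, 3, 2, 1], 0)),
  (6701, 1, ([8, 5, 3, 4, 1, 2, 3, 8, 9, 5, 2, 3, 4, 1, 2, 3, 8, 7, 6, 5, 4, 3, 2, 1], 0)),
  (6702, 1, ([9, 8, 3, 4, 1, 2, 3, 8, 9, 5, 2, 3, 4, 1, 2, 3, 8, 7, 6, 5, 4, 3, 2, 1], 0)),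
  (6710, 1, ([5, 2, 3, 4, 0, 1, 2, 3, 8, 9, 8, 5, 2, 3, 4, 1, 2, 3, 8, 7, 6, 5, 4, 3, 2, 1], 0)),
  (6722, 1, ([6, 4, 5, 3, 4, 1, 2, 3, 8, 9, 8, 5, 2, 3, 4, 1, 2, 3, 8, 7, 6, 5, 4, 3, 2, 1], 0)),
  (6726, 1, ([9, 8, 5, 3, 4, 1, 2, 3, 8, 9, 8, 5, 2, 3, 4, 1, 2, 3, 8, 7, 6, 5, 4, 3, 2, 1], 0)),
  (7162, 1, ([4, 5, 3, 4, 1, 2, 3, 8, 9, 5, 3, 4, 1, 2, 3, 8, 6, 5, 4, 3, 2, 1], 0)),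
  (6737, 1, ([3, 8, 2, 3, 4, 1, 2, 3, 8, 9, 6, 5, 2, 3, 4, 1, 2, 3, 8, 7, 6, 5, 4, 3, 2, 1], 0)),
  (6738, 501, ([9, 8, 2, 3, 4, 1, 2, 3, 8, 9, 6, 5, 2, 3, 4, 1, 2, 3, 8, 7, 6, 5, 4, 3, 2, 1], 0)),
  (7699, 1, ([9, 8, 6, 5, 3, 4, 1, 2, 3, 8, 9, 5, 4, 1, 2, 3, 8, 7, 6, 5, 4, 3, 2, 1], 0)),
  (6756, 1, ([3, 8, 2, 3, 4, 0, 1, 2, 3, 8, 9, 8, 6, 5, 2, 3, 4, 1, 2, 3, 8, 7, 6, 5, 4, 3, 2, 1], 0)),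
  (9760, 1, ([9, 8, 7, 6, 4, 5, 3, 4, 2, 3, 8, 9, 6, 5, 4, 1, 2, 3, 8, 7, 6, 5, 4, 3, 2, 1], 0)),
  (6766, 2, ([2, 3, 8, 5, 6, 4, 5, 3, 4, 1, 2, 3, 8, 9, 4, 1, 2, 3, 8, 7, 6, 5, 4, 3, 2, 1], 0)),
  (6768, 1, ([3, 8, 5, 2, 3, 4, 1, 2, 3, 8, 9, 8, 6, 5, 2, 3, 4, 1, 2, 3, 8, 7, 6, 5, 4, 3, 2, 1], 0)),
  (6770, 1, ([4, 3, 8, 2, 3, 4, 1, 2, 3, 8, 9, 8, 6, 5, 2, 3, 4, 1, 2, 3, 8, 7, 6, 5, 4, 3, 2, 1], 0)),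
  (13062, 1, ([9, 3, 8, 4, 5, 2, 3, 4, 1, 2, 3, 8, 9, 4, 5, 3, 4, 1, 2, 3, 8, 6, 5, 4, 3, 2, 1], 0)),
  (6776, 1, ([9, 8, 4, 5, 3, 4, 1, 2, 3, 8, 9, 8, 6, 5, 2, 3, 4, 1, 2, 3, 8, 7, 6, 5, 4, 3, 2, 1], 0)),
  (6777, 501, ([3, 8, 5, 6, 4, 5, 3, 4, 1, 2, 3, 8, 9, 5, 4, 1, 2, 3, 8, 7, 6, 5, 4, 3, 2, 1], 0)),
  (6778, 1, ([9, 8, 6, 5, 3, 4, 1, 2, 3, 8, 9, 8, 6, 5, 2, 3, 4, 1, 2, 3, 8, 7, 6, 5, 4, 3, 2, 1], 0)),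
  (6786, 1, ([9, 3, 8, 5, 6, 4, 5, 3, 4, 2, 3, 8, 9, 5, 4, 1, 2, 3, 8, 7, 6, 5, 4, 3, 2, 1], 0)),
  (6802, 1, ([5, 2, 3, 4, 1, 2, 3, 8, 9, 4, 5, 2, 3, 4, 1, 2, 3, 8, 6, 5, 4, 3, 2, 1], 0)),
  (6826, 1, ([9, 8, 2, 3, 4, 1, 2, 3, 8, 9, 8, 4, 5, 2, 3, 4, 1, 2, 3, 8, 6, 5, 4, 3, 2, 1], 0)),
  (6835, 501, ([3, 8, 4, 5, 3, 4, 2, 3, 8, 9, 8, 4, 5, 2, 3, 4, 1, 2, 3, 8, 6, 5, 4, 3, 2, 1], 0))]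

/-- Representatives, part 11. -/
def reps11_11 : List (ℕ × ℕ × (List ℕ × ℕ)) := [(6847, 2, ([8, 5, 3, 4, 1, 2, 3, 8, 9, 3, 4, 5, 2, 3, 4, 1, 2, 3, 8, 7, 6, 5, 4, 3, 2, 1], 0)),
  (6848, 1, ([9, 8, 3, 4, 1, 2, 3, 8, 9, 3, 4, 5, 2, 3, 4, 1, 2, 3, 8, 7, 6, 5, 4, 3, 2, 1], 0)),
  (8996, 1, ([9, 3, 8, 4, 5, 3, 4, 2, 3, 8, 9, 4, 5, 3, 4, 1, 2, 3, 8, 6, 5, 4, 3, 2, 1], 0)),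
  (6860, 1, ([8, 5, 3, 4, 0, 1, 2, 3, 8, 9, 4, 5, 2, 3, 4, 1, 2, 3, 8, 7, 6, 5, 4, 3, 2, 1], 0)),
  (6884, 1, ([5, 4, 3, 8, 2, 3, 4, 1, 2, 3, 8, 9, 5, 3, 4, 1, 2, 3, 8, 7, 6, 5, 4, 3, 2, 1], 0)),
  (6885, 1, ([4, 3, 8, 2, 3, 4, 1, 2, 3, 8, 9, 5, 2, 3, 4, 1, 2, 3, 8, 7, 6, 5, 4, 3, 2, 1], 0)),
  (6897, 1, ([3, 8, 5, 2, 3, 4, 1, 2, 3, 8, 9, 8, 4, 5, 2, 3, 4, 1, 2, 3, 8, 7, 6, 5, 4, 3, 2, 1], 0)),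
  (6899, 501, ([3, 8, 2, 3, 4, 0, 1, 2, 3, 8, 9, 5, 2, 3, 4, 1, 2, 3, 8, 7, 6, 5, 4, 3, 2, 1], 0)),
  (6900, 501, ([9, 3, 8, 2, 3, 4, 1, 2, 3, 8, 9, 8, 4, 5, 2, 3, 4, 1, 2, 3, 8, 7, 6, 5, 4, 3, 2, 1], 0)),
  (6904, 1, ([3, 8, 4, 5, 3, 4, 1, 2, 3, 8, 9, 8, 4, 5, 2, 3, 4, 1, 2, 3, 8, 7, 6, 5, 4, 3, 2, 1], 0)),
  (6906, 501, ([1, 2, 3, 8, 6, 4, 5, 3, 4, 2, 3, 8, 9, 5, 4, 1, 2, 3, 8, 7, 6, 5, 4, 3, 2, 1], 0)),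
  (6908, 1, ([2, 3, 8, 5, 6, 4, 5, 3, 4, 2, 3, 8, 9, 3, 4, 1, 2, 3, 8, 7, 6, 5, 4, 3, 2, 1], 0)),
  (6913, 1, ([3, 8, 7, 6, 4, 5, 3, 4, 2, 3, 8, 9, 4, 5, 3, 4, 1, 2, 3, 8, 6, 5, 4, 3, 2, 1], 0)),
  (8749, 1, ([6, 5, 2, 3, 4, 1, 2, 3, 8, 9, 5, 3, 4, 1, 2, 3, 8, 6, 5, 4, 3, 2, 1], 0)),
  (6915, 1, ([9, 2, 3, 8, 6, 4, 5, 3, 4, 2, 3, 8, 9, 5, 4, 1, 2, 3, 8, 7, 6, 5, 4, 3, 2, 1], 0)),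
  (6920, 1, ([8, 5, 3, 4, 0, 1, 2, 3, 8, 9, 6, 3, 4, 5, 2, 3, 4, 1, 2, 3, 8, 7, 6, 5, 4, 3, 2, 1], 0)),
  (8137, 501, ([3, 8, 4, 5, 3, 4, 2, 3, 8, 9, 5, 4, 1, 2, 3, 8, 7, 6, 5, 4, 3, 2, 1], 0)),
  (9084, 1, ([9, 8, 5, 6, 4, 5, 3, 4, 2, 3, 8, 9, 4, 5, 3, 4, 1, 2, 3, 8, 7, 6, 5, 4, 3, 2, 1], 0)),
  (6932, 1, ([9, 8, 5, 3, 4, 1, 2, 3, 8, 9, 6, 3, 4, 5, 2, 3, 4, 1, 2, 3, 8, 7, 6, 5, 4, 3, 2, 1], 0)),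
  (6936, 1, ([3, 8, 4, 5, 3, 4, 2, 3, 8, 9, 6, 3, 4, 5, 2, 3, 4, 1, 2, 3, 8, 7, 6, 5, 4, 3, 2, 1], 0)),
  (12041, 501, ([8, 6, 5, 3, 4, 0, 1, 2, 3, 8, 9, 3, 4, 5, 2, 3, 4, 1, 2, 3, 8, 6, 5, 4, 3, 2, 1], 0)),
  (6939, 1, ([9, 8, 6, 5, 3, 4, 2, 3, 8, 9, 6, 3, 4, 5, 2, 3, 4, 1, 2, 3, 8, 7, 6, 5, 4, 3, 2, 1], 0)),
  (7342, 1, ([9, 8, 2, 3, 4, 1, 2, 3, 8, 9, 4, 5, 3, 4, 1, 2, 3, 8, 6, 5, 4, 3, 2, 1], 0)),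
  (6950, 1, ([8, 6, 5, 3, 4, 0, 1, 2, 3, 8, 9, 6, 4, 5, 2, 3, 4, 1, 2, 3, 8, 7, 6, 5, 4, 3, 2, 1], 0)),
  (6955, 1, ([7, 6, 5, 2, 3, 4, 1, 2, 3, 8, 9, 6, 4, 5, 2, 3, 4, 1, 2, 3, 8, 7, 6, 5, 4, 3, 2, 1], 0)),
  (9019, 1, ([9, 8, 4, 5, 2, 3, 4, 1, 2, 3, 8, 9, 8, 4, 5, 3, 4, 1, 2, 3, 8, 6, 5, 4, 3, 2, 1], 0)),
  (9045, 500, ([8, 9, 3, 8, 4, 5, 3, 4, 2, 3, 8, 9, 8, 4, 5, 3, 4, 1, 2, 3, 8, 6, 5, 4, 3, 2, 1], 0)),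
  (7133, 1, ([4, 5, 3, 4, 1, 2, 3, 8, 9, 3, 4, 1, 2, 3, 8, 7, 6, 5, 4, 3, 2, 1], 0)),
  (7967, 501, ([8, 5, 3, 4, 0, 1, 2, 3, 8, 9, 3, 4, 1, 2, 3, 8, 6, 5, 4, 3, 2, 1], 0)),
  (8105, 1, ([4, 5, 3, 4, 1, 2, 3, 8, 9, 5, 2, 3, 4, 1, 2, 3, 8, 6, 5, 4, 3, 2, 1], 0)),
  (8021, 1, ([8, 7, 6, 5, 3, 4, 1, 2, 3, 8, 9, 5, 4, 1, 2, 3, 8, 6, 5, 4, 3, 2, 1], 0)),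
  (6991, 1, ([5, 4, 3, 8, 4, 5, 2, 3, 4, 1, 2, 3, 8, 9, 6, 5, 4, 1, 2, 3, 8, 7, 6, 5, 4, 3, 2, 1], 0)),
  (7000, 1, ([3, 8, 4, 5, 2, 3, 4, 1, 2, 3, 8, 9, 8, 6, 4, 5, 2, 3, 4, 1, 2, 3, 8, 7, 6, 5, 4, 3, 2, 1], 0)),
  (9845, 1, ([9, 3, 8, 4, 5, 3, 4, 1, 2, 3, 8, 9, 5, 4, 1, 2, 3, 8, 6, 5, 4, 3, 2, 1], 0)),
  (7007, 1, ([3, 8, 5, 2, 3, 4, 0, 1, 2, 3, 8, 9, 6, 5, 2, 3, 4, 1, 2, 3, 8, 7, 6, 5, 4, 3, 2, 1], 0)),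
  (8912, 1, ([8, 6, 5, 1, 2, 3, 4, 0, 1, 2, 3, 8, 9, 6, 4, 5, 3, 4, 1, 2, 3, 8, 7, 6, 5, 4, 3, 2, 1], 0)),
  (7016, 1, ([9, 3, 8, 4, 5, 3, 4, 1, 2, 3, 8, 9, 8, 6, 4, 5, 2, 3, 4, 1, 2, 3, 8, 7, 6, 5, 4, 3, 2, 1], 0)),
  (8784, 1, ([8, 3, 4, 5, 2, 3, 4, 0, 1, 2, 3, 8, 9, 3, 4, 2, 3, 8, 7, 6, 5, 4, 3, 2, 1], 0)),
  (7022, 3, ([3, 4, 2, 3, 8, 5, 6, 4, 5, 3, 4, 2, 3, 8, 9, 5, 4, 1, 2, 3, 8, 7, 6, 5, 4, 3, 2, 1], 0)),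
  (7025, 1, ([9, 3, 8, 6, 4, 5, 3, 4, 2, 3, 8, 9, 8, 6, 4, 5, 2, 3, 4, 1, 2, 3, 8, 7, 6, 5, 4, 3, 2, 1], 0)),
  (16088, 1, ([1, 2, 3, 8, 6, 4, 5, 3, 4, 1, 2, 3, 8, 9, 5, 2, 3, 4, 1, 2, 3, 8, 7, 6, 5, 4, 3, 2, 1], 0)),
  (7041, 1, ([3, 8, 4, 5, 3, 4, 0, 1, 2, 3, 8, 9, 6, 4, 5, 3, 4, 1, 2, 3, 8, 7, 6, 5, 4, 3, 2, 1], 0)),
  (9797, 501, ([8, 6, 5, 2, 3, 4, 1, 2, 3, 8, 9, 3, 4, 1, 2, 3, 8, 7, 6, 5, 4, 3, 2, 1], 0)),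
  (10693, 1, ([5, 6, 4, 5, 2, 3, 4, 0, 1, 2, 3, 8, 9, 8, 5, 3, 4, 1, 2, 3, 8, 7, 6, 5, 4, 3, 2, 1], 0)),
  (8452, 2, ([3, 8, 5, 6, 4, 5, 3, 4, 2, 3, 8, 9, 8, 4, 5, 2, 3, 4, 1, 2, 3, 8, 7, 6, 5, 4, 3, 2, 1], 0)),
  (12932, 501, ([9, 8, 4, 5, 6, 3, 4, 5, 2, 3, 4, 1, 2, 3, 8, 9, 5, 3, 4, 2, 3, 8, 7, 6, 5, 4, 3, 2, 1], 0)),
  (7279, 1, ([6, 5, 1, 2, 3, 4, 0, 1, 2, 3, 8, 9, 8, 6, 5, 3, 4, 1, 2, 3, 8, 7, 6, 5, 4, 3, 2, 1], 0)),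
  (9451, 1, ([3, 8, 4, 5, 3, 4, 0, 1, 2, 3, 8, 9, 3, 4, 1, 2, 3, 8, 7, 6, 5, 4, 3, 2, 1], 0)),
  (8728, 1, ([5, 6, 4, 5, 3, 4, 2, 3, 8, 9, 3, 4, 1, 2, 3, 8, 7, 6, 5, 4, 3, 2, 1], 0)),
  (7983, 500, ([5, 6, 4, 5, 3, 4, 0, 1, 2, 3, 8, 9, 5, 3, 4, 1, 2, 3, 8, 7, 6, 5, 4, 3, 2, 1], 0)),
  (8110, 3, ([6, 4, 5, 3, 4, 2, 3, 8, 9, 5, 2, 3, 4, 1, 2, 3, 8, 6, 5, 4, 3, 2, 1], 0)),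
  (7148, 1, ([7, 6, 5, 3, 4, 1, 2, 3, 8, 9, 8, 3, 4, 1, 2, 3, 8, 7, 6, 5, 4, 3, 2, 1], 0)),
  (7155, 500, ([9, 8, 4, 5, 3, 4, 2, 3, 8, 9, 8, 3, 4, 1, 2, 3, 8, 7, 6, 5, 4, 3, 2, 1], 0)),
  (7185, 1, ([6, 4, 5, 3, 4, 1, 2, 3, 8, 9, 8, 5, 3, 4, 1, 2, 3, 8, 6, 5, 4, 3, 2, 1], 0)),
  (7187, 1, ([3, 4, 5, 2, 3, 4, 0, 1, 2, 3, 8, 9, 3, 4, 2, 3, 8, 7, 6, 5, 4, 3, 2, 1], 0)),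
  (7189, 501, ([9, 8, 5, 3, 4, 1, 2, 3, 8, 9, 8, 5, 3, 4, 1, 2, 3, 8, 6, 5, 4, 3, 2, 1], 0)),
  (7202, 1, ([8, 5, 2, 3, 4, 1, 2, 3, 8, 9, 5, 3, 4, 1, 2, 3, 8, 7, 6, 5, 4, 3, 2, 1], 0)),
  (8054, 1, ([3, 4, 1, 2, 3, 8, 9, 2, 3, 4, 1, 2, 3, 8, 5, 4, 3, 2, 1], 0)),
  (7208, 1, ([9, 8, 5, 3, 4, 1, 2, 3, 8, 9, 5, 3, 4, 1, 2, 3, 8, 7, 6, 5, 4, 3, 2, 1], 0)),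
  (7215, 2, ([9, 8, 6, 5, 3, 4, 2, 3, 8, 9, 5, 3, 4, 1, 2, 3, 8, 7, 6, 5, 4, 3, 2, 1], 0)),
  (8141, 1, ([8, 5, 2, 3, 4, 1, 2, 3, 8, 9, 5, 2, 3, 4, 1, 2, 3, 8, 7, 6, 5, 4, 3, 2, 1], 0)),
  (7218, 2, ([4, 5, 2, 3, 4, 0, 1, 2, 3, 8, 9, 8, 5, 3, 4, 1, 2, 3, 8, 7, 6, 5, 4, 3, 2, 1], 0)),
  (7220, 1, ([8, 5, 2, 3, 4, 0, 1, 2, 3, 8, 9, 8, 5, 3, 4, 1, 2, 3, 8, 7, 6, 5, 4, 3, 2, 1], 0)),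
  (7221, 1, ([8, 1, 2, 3, 4, 0, 1, 2, 3, 8, 9, 4, 5, 3, 4, 1, 2, 3, 8, 7, 6, 5, 4, 3, 2, 1], 0)),
  (7234, 501, ([9, 8, 5, 2, 3, 4, 1, 2, 3, 8, 9, 8, 5, 3, 4, 1, 2, 3, 8, 7, 6, 5, 4, 3, 2, 1], 0)),
  (7242, 501, ([8, 7, 6, 5, 3, 4, 1, 2, 3, 8, 9, 8, 5, 3, 4, 1, 2, 3, 8, 7, 6, 5, 4, 3, 2, 1], 0)),
  (7257, 1, ([3, 4, 5, 2, 3, 4, 1, 2, 3, 8, 9, 6, 5, 3, 4, 1, 2, 3, 8, 7, 6, 5, 4, 3, 2, 1], 0)),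
  (7261, 1, ([8, 6, 5, 2, 3, 4, 1, 2, 3, 8, 9, 6, 5, 3, 4, 1, 2, 3, 8, 7, 6, 5, 4, 3, 2, 1], 0)),
  (7262, 1, ([9, 8, 5, 2, 3, 4, 1, 2, 3, 8, 9, 6, 5, 3, 4, 1, 2, 3, 8, 7, 6, 5, 4, 3, 2, 1], 0)),
  (9808, 1, ([9, 8, 2, 3, 4, 1, 2, 3, 8, 9, 5, 2, 3, 4, 1, 2, 3, 8, 6, 5, 4, 3, 2, 1], 0)),
  (7276, 1, ([9, 3, 8, 4, 5, 3, 4, 2, 3, 8, 9, 6, 5, 3, 4, 1, 2, 3, 8, 7, 6, 5, 4, 3, 2, 1], 0)),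
  (8771, 1, ([3, 4, 5, 2, 3, 4, 1, 2, 3, 8, 9, 8, 5, 3, 4, 1, 2, 3, 8, 6, 5, 4, 3, 2, 1], 0)),
  (7293, 1, ([3, 8, 4, 5, 3, 4, 0, 1, 2, 3, 8, 9, 8, 6, 5, 3, 4, 1, 2, 3, 8, 7, 6, 5, 4, 3, 2, 1], 0)),
  (13866, 2, ([8, 9, 3, 8, 2, 3, 4, 1, 2, 3, 8, 9, 5, 2, 3, 4, 1, 2, 3, 8, 6, 5, 4, 3, 2, 1], 0)),
  (9026, 1, ([9, 8, 2, 3, 4, 0, 1, 2, 3, 8, 9, 5, 2, 3, 4, 1, 2, 3, 8, 6, 5, 4, 3, 2, 1], 0)),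
  (7867, 1, ([8, 5, 6, 4, 5, 2, 3, 4, 1, 2, 3, 8, 9, 5, 3, 4, 2, 3, 8, 7, 6, 5, 4, 3, 2, 1], 0)),
  (7306, 1, ([9, 8, 6, 5, 2, 3, 4, 1, 2, 3, 8, 9, 8, 6, 5, 3, 4, 1, 2, 3, 8, 7, 6, 5, 4, 3, 2, 1], 0)),
  (7317, 1, ([9, 3, 8, 4, 5, 3, 4, 1, 2, 3, 8, 9, 8, 6, 5, 3, 4, 1, 2, 3, 8, 7, 6, 5, 4, 3, 2, 1], 0)),
  (7848, 501, ([7, 6, 5, 2, 3, 4, 1, 2, 3, 8, 9, 5, 3, 4, 1, 2, 3, 8, 6, 5, 4, 3, 2, 1], 0)),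
  (7329, 2, ([8, 9, 3, 8, 4, 5, 3, 4, 2, 3, 8, 9, 8, 6, 5, 3, 4, 1, 2, 3, 8, 7, 6, 5, 4, 3, 2, 1], 0)),
  (7335, 1, ([8, 5, 3, 4, 0, 1, 2, 3, 8, 9, 4, 5, 3, 4, 1, 2, 3, 8, 6, 5, 4, 3, 2, 1], 0)),
  (7340, 501, ([8, 5, 2, 3, 4, 1, 2, 3, 8, 9, 4, 5, 3, 4, 1, 2, 3, 8, 6, 5, 4, 3, 2, 1], 0)),
  (7346, 1, ([8, 6, 5, 3, 4, 1, 2, 3, 8, 9, 4, 5, 3, 4, 1, 2, 3, 8, 6, 5, 4, 3, 2, 1], 0)),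
  (7351, 3, ([3, 8, 4, 5, 3, 4, 2, 3, 8, 9, 4, 5, 3, 4, 1, 2, 3, 8, 6, 5, 4, 3, 2, 1], 0)),
  (7353, 1, ([8, 7, 6, 5, 3, 4, 2, 3, 8, 9, 4, 5, 3, 4, 1, 2, 3, 8, 6, 5, 4, 3, 2, 1], 0)),
  (7369, 1, ([8, 6, 5, 2, 3, 4, 1, 2, 3, 8, 9, 8, 4, 5, 3, 4, 1, 2, 3, 8, 6, 5, 4, 3, 2, 1], 0)),
  (7373, 1, ([9, 8, 2, 3, 4, 0, 1, 2, 3, 8, 9, 5, 3, 4, 1, 2, 3, 8, 6, 5, 4, 3, 2, 1], 0)),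
  (7404, 501, ([3, 8, 5, 2, 3, 4, 1, 2, 3, 8, 9, 4, 5, 3, 4, 1, 2, 3, 8, 7, 6, 5, 4, 3, 2, 1], 0)),
  (7439, 1, ([5, 6, 4, 5, 2, 3, 4, 1, 2, 3, 8, 9, 8, 4, 5, 3, 4, 1, 2, 3, 8, 7, 6, 5, 4, 3, 2, 1], 0)),
  (7442, 1, ([3, 8, 4, 5, 2, 3, 4, 1, 2, 3, 8, 9, 8, 4, 5, 3, 4, 1, 2, 3, 8, 7, 6, 5, 4, 3, 2, 1], 0)),
  (7445, 1, ([8, 6, 5, 2, 3, 4, 0, 1, 2, 3, 8, 9, 5, 3, 4, 1, 2, 3, 8, 7, 6, 5, 4, 3, 2, 1], 0)),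
  (7446, 1, ([9, 8, 6, 5, 2, 3, 4, 1, 2, 3, 8, 9, 8, 4, 5, 3, 4, 1, 2, 3, 8, 7, 6, 5, 4, 3, 2, 1], 0)),
  (7448, 1, ([9, 8, 5, 2, 3, 4, 0, 1, 2, 3, 8, 9, 5, 3, 4, 1, 2, 3, 8, 7, 6, 5, 4, 3, 2, 1], 0)),
  (7451, 1, ([7, 5, 6, 4, 5, 3, 4, 1, 2, 3, 8, 9, 8, 4, 5, 3, 4, 1, 2, 3, 8, 7, 6, 5, 4, 3, 2, 1], 0)),
  (8417, 1, ([5, 4, 3, 8, 2, 3, 4, 1, 2, 3, 8, 9, 5, 2, 3, 4, 1, 2, 3, 8, 7, 6, 5, 4, 3, 2, 1], 0)),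
  (7474, 1, ([7, 6, 5, 2, 3, 4, 0, 1, 2, 3, 8, 9, 6, 4, 5, 3, 4, 1, 2, 3, 8, 7, 6, 5, 4, 3, 2, 1], 0)),
  (7483, 1, ([6, 3, 4, 5, 2, 3, 4, 1, 2, 3, 8, 9, 6, 4, 5, 3, 4, 1, 2, 3, 8, 7, 6, 5, 4, 3, 2, 1], 0)),
  (10089, 1, ([9, 8, 6, 4, 5, 3, 4, 2, 3, 8, 9, 4, 5, 2, 3, 4, 1, 2, 3, 8, 6, 5, 4, 3, 2, 1], 0)),
  (7489, 1, ([9, 8, 4, 5, 2, 3, 4, 1, 2, 3, 8, 9, 6, 4, 5, 3, 4, 1, 2, 3, 8, 7, 6, 5, 4, 3, 2, 1], 0)),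
  (7491, 1, ([3, 8, 6, 5, 2, 3, 4, 1, 2, 3, 8, 9, 6, 4, 5, 3, 4, 1, 2, 3, 8, 7, 6, 5, 4, 3, 2, 1], 0)),
  (7501, 1, ([9, 3, 8, 4, 5, 3, 4, 1, 2, 3, 8, 9, 6, 4, 5, 3, 4, 1, 2, 3, 8, 7, 6, 5, 4, 3, 2, 1], 0)),
  (10673, 1, ([5, 6, 4, 5, 2, 3, 4, 1, 2, 3, 8, 9, 5, 3, 4, 1, 2, 3, 8, 7, 6, 5, 4, 3, 2, 1], 0)),
  (7524, 1, ([3, 8, 7, 6, 5, 2, 3, 4, 1, 2, 3, 8, 9, 6, 5, 3, 4, 1, 2, 3, 8, 7, 6, 5, 4, 3, 2, 1], 0)),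
  (7530, 1, ([9, 4, 3, 8, 6, 5, 2, 3, 4, 1, 2, 3, 8, 9, 6, 5, 4, 1, 2, 3, 8, 7, 6, 5, 4, 3, 2, 1], 0)),
  (7531, 501, ([4, 2, 3, 8, 4, 5, 2, 3, 4, 1, 2, 3, 8, 9, 6, 5, 4, 1, 2, 3, 8, 7, 6, 5, 4, 3, 2, 1], 0)),
  (7534, 1, ([5, 6, 3, 4, 5, 2, 3, 4, 1, 2, 3, 8, 9, 8, 6, 4, 5, 3, 4, 1, 2, 3, 8, 7, 6, 5, 4, 3, 2, 1], 0)),
  (7535, 1, ([7, 6, 3, 4, 5, 2, 3, 4, 1, 2, 3, 8, 9, 8, 6, 4, 5, 3, 4, 1, 2, 3, 8, 7, 6, 5, 4, 3, 2, 1], 0)),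
  (7662, 1, ([9, 8, 5, 3, 4, 1, 2, 3, 8, 9, 5, 4, 1, 2, 3, 8, 6, 5, 4, 3, 2, 1], 0)),
  (10779, 1, ([1, 2, 3, 8, 4, 5, 3, 4, 1, 2, 3, 8, 9, 6, 5, 3, 4, 1, 2, 3, 8, 7, 6, 5, 4, 3, 2, 1], 0)),
  (7545, 1, ([3, 8, 4, 5, 2, 3, 4, 0, 1, 2, 3, 8, 9, 6, 5, 3, 4, 1, 2, 3, 8, 7, 6, 5, 4, 3, 2, 1], 0)),
  (7547, 1, ([8, 7, 6, 5, 2, 3, 4, 0, 1, 2, 3, 8, 9, 6, 5, 3, 4, 1, 2, 3, 8, 7, 6, 5, 4, 3, 2, 1], 0)),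
  (7557, 1, ([3, 8, 5, 6, 4, 5, 3, 4, 1, 2, 3, 8, 9, 8, 6, 4, 5, 3, 4, 1, 2, 3, 8, 7, 6, 5, 4, 3, 2, 1], 0)),
  (8793, 1, ([9, 8, 4, 5, 3, 4, 2, 3, 8, 9, 5, 4, 1, 2, 3, 8, 7, 6, 5, 4, 3, 2, 1], 0)),
  (7559, 1, ([3, 8, 7, 6, 4, 5, 3, 4, 1, 2, 3, 8, 9, 8, 6, 4, 5, 3, 4, 1, 2, 3, 8, 7, 6, 5, 4, 3, 2, 1], 0)),
  (7562, 1, ([9, 3, 8, 6, 4, 5, 3, 4, 1, 2, 3, 8, 9, 8, 6, 4, 5, 3, 4, 1, 2, 3, 8, 7, 6, 5, 4, 3, 2, 1], 0)),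
  (9815, 1, ([9, 3, 8, 4, 5, 3, 4, 2, 3, 8, 9, 3, 4, 1, 2, 3, 8, 7, 6, 5, 4, 3, 2, 1], 0)),
  (11815, 1, ([9, 3, 8, 6, 4, 5, 3, 4, 2, 3, 8, 9, 5, 2, 3, 4, 1, 2, 3, 8, 7, 6, 5, 4, 3, 2, 1], 0)),
  (9135, 1, ([3, 8, 7, 6, 4, 5, 3, 4, 1, 2, 3, 8, 9, 8, 4, 5, 3, 4, 1, 2, 3, 8, 7, 6, 5, 4, 3, 2, 1], 0)),
  (10720, 1, ([9, 3, 8, 4, 5, 2, 3, 4, 1, 2, 3, 8, 9, 8, 5, 3, 4, 1, 2, 3, 8, 7, 6, 5, 4, 3, 2, 1], 0)),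
  (7607, 1, ([4, 2, 3, 8, 7, 6, 4, 5, 2, 3, 4, 1, 2, 3, 8, 9, 6, 5, 3, 4, 2, 3, 8, 7, 6, 5, 4, 3, 2, 1], 0)),
  (9163, 1, ([8, 7, 6, 5, 2, 3, 4, 0, 1, 2, 3, 8, 9, 6, 4, 5, 3, 4, 1, 2, 3, 8, 7, 6, 5, 4, 3, 2, 1], 0)),
  (8857, 1, ([9, 8, 5, 6, 4, 5, 3, 4, 2, 3, 8, 9, 8, 5, 3, 4, 1, 2, 3, 8, 7, 6, 5, 4, 3, 2, 1], 0)),
  (8846, 500, ([7, 5, 6, 4, 5, 3, 4, 1, 2, 3, 8, 9, 8, 5, 3, 4, 1, 2, 3, 8, 7, 6, 5, 4, 3, 2, 1], 0)),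
  (17303, 1, ([9, 4, 3, 8, 5, 6, 4, 5, 2, 3, 4, 1, 2, 3, 8, 9, 6, 5, 3, 4, 1, 2, 3, 8, 7, 6, 5, 4, 3, 2, 1], 0)),
  (17380, 2, ([9, 4, 3, 8, 4, 5, 6, 3, 4, 5, 2, 3, 4, 1, 2, 3, 8, 9, 3, 4, 1, 2, 3, 8, 7, 6, 5, 4, 3, 2, 1], 0)),
  (13845, 1, ([6, 3, 4, 5, 2, 3, 4, 1, 2, 3, 8, 9, 2, 3, 4, 1, 2, 3, 8, 7, 6, 5, 4, 3, 2, 1], 0)),
  (10002, 1, ([9, 2, 3, 8, 5, 6, 4, 5, 3, 4, 1, 2, 3, 8, 9, 5, 4, 1, 2, 3, 8, 7, 6, 5, 4, 3, 2, 1], 0)),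
  (9515, 1, ([9, 3, 8, 5, 6, 4, 5, 2, 3, 4, 1, 2, 3, 8, 9, 6, 5, 4, 1, 2, 3, 8, 7, 6, 5, 4, 3, 2, 1], 0)),
  (11173, 1, ([2, 3, 8, 7, 5, 6, 4, 5, 3, 4, 2, 3, 8, 9, 6, 4, 5, 3, 4, 1, 2, 3, 8, 7, 6, 5, 4, 3, 2, 1], 0)),
  (8213, 1, ([9, 3, 8, 4, 5, 3, 4, 2, 3, 8, 9, 6, 5, 2, 3, 4, 1, 2, 3, 8, 7, 6, 5, 4, 3, 2, 1], 0)),
  (7664, 3, ([3, 8, 4, 5, 2, 3, 4, 1, 2, 3, 8, 9, 5, 4, 1, 2, 3, 8, 6, 5, 4, 3, 2, 1], 0)),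
  (8729, 501, ([9, 8, 4, 5, 3, 4, 2, 3, 8, 9, 3, 4, 1, 2, 3, 8, 7, 6, 5, 4, 3, 2, 1], 0)),
  (9813, 1, ([9, 8, 5, 3, 4, 1, 2, 3, 8, 9, 5, 2, 3, 4, 1, 2, 3, 8, 6, 5, 4, 3, 2, 1], 0)),
  (7696, 1, ([3, 8, 4, 5, 3, 4, 1, 2, 3, 8, 9, 5, 4, 1, 2, 3, 8, 7, 6, 5, 4, 3, 2, 1], 0)),
  (7697, 1, ([9, 8, 4, 5, 3, 4, 1, 2, 3, 8, 9, 5, 4, 1, 2, 3, 8, 7, 6, 5, 4, 3, 2, 1], 0)),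
  (7702, 501, ([3, 8, 6, 4, 5, 2, 3, 4, 1, 2, 3, 8, 9, 5, 4, 1, 2, 3, 8, 7, 6, 5, 4, 3, 2, 1], 0)),
  (8299, 501, ([6, 4, 5, 3, 4, 1, 2, 3, 8, 9, 4, 5, 2, 3, 4, 1, 2, 3, 8, 6, 5, 4, 3, 2, 1], 0)),
  (7714, 501, ([3, 8, 4, 5, 3, 4, 0, 1, 2, 3, 8, 9, 5, 3, 4, 1, 2, 3, 8, 7, 6, 5, 4, 3, 2, 1], 0)),
  (7724, 1, ([8, 7, 5, 6, 4, 5, 2, 3, 4, 0, 1, 2, 3, 8, 9, 5, 4, 1, 2, 3, 8, 7, 6, 5, 4, 3, 2, 1], 0)),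
  (11776, 1, ([3, 8, 4, 5, 2, 3, 4, 1, 2, 3, 8, 9, 8, 5, 2, 3, 4, 1, 2, 3, 8, 6, 5, 4, 3, 2, 1], 0)),
  (7727, 1, ([3, 8, 7, 6, 4, 5, 2, 3, 4, 0, 1, 2, 3, 8, 9, 5, 4, 1, 2, 3, 8, 7, 6, 5, 4, 3, 2, 1], 0)),
  (8731, 1, ([3, 4, 5, 2, 3, 4, 1, 2, 3, 8, 9, 8, 3, 4, 1, 2, 3, 8, 7, 6, 5, 4, 3, 2, 1], 0)),
  (7729, 1, ([2, 3, 8, 6, 4, 5, 2, 3, 4, 0, 1, 2, 3, 8, 9, 5, 4, 1, 2, 3, 8, 7, 6, 5, 4, 3, 2, 1], 0)),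
  (8747, 501, ([9, 8, 5, 3, 4, 2, 3, 8, 9, 5, 4, 1, 2, 3, 8, 6, 5, 4, 3, 2, 1], 0)),
  (12759, 501, ([3, 8, 6, 4, 5, 2, 3, 4, 1, 2, 3, 8, 9, 8, 5, 3, 4, 1, 2, 3, 8, 6, 5, 4, 3, 2, 1], 0)),
  (11711, 1, ([2, 3, 8, 5, 6, 4, 5, 3, 4, 2, 3, 8, 9, 6, 5, 4, 1, 2, 3, 8, 7, 6, 5, 4, 3, 2, 1], 0)),
  (7775, 1, ([9, 2, 3, 8, 4, 5, 3, 4, 0, 1, 2, 3, 8, 9, 6, 5, 4, 1, 2, 3, 8, 7, 6, 5, 4, 3, 2, 1], 0)),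
  (7776, 501, ([3, 8, 4, 5, 3, 4, 0, 1, 2, 3, 8, 9, 6, 5, 2, 3, 4, 1, 2, 3, 8, 7, 6, 5, 4, 3, 2, 1], 0)),
  (8916, 501, ([4, 5, 6, 3, 4, 5, 2, 3, 4, 1, 2, 3, 8, 9, 3, 4, 1, 2, 3, 8, 7, 6, 5, 4, 3, 2, 1], 0)),
  (12048, 1, ([9, 8, 4, 5, 3, 4, 1, 2, 3, 8, 9, 3, 4, 5, 2, 3, 4, 1, 2, 3, 8, 6, 5, 4, 3, 2, 1], 0)),
  (7796, 1, ([9, 2, 3, 8, 6, 4, 5, 2, 3, 4, 0, 1, 2, 3, 8, 9, 6, 5, 4, 1, 2, 3, 8, 7, 6, 5, 4, 3, 2, 1], 0)),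
  (7797, 1, ([8, 9, 3, 8, 6, 4, 5, 2, 3, 4, 0, 1, 2, 3, 8, 9, 6, 5, 4, 1, 2, 3, 8, 7, 6, 5, 4, 3, 2, 1], 0)),
  (7866, 1, ([3, 4, 5, 1, 2, 3, 4, 0, 1, 2, 3, 8, 9, 6, 4, 5, 3, 4, 2, 3, 8, 7, 6, 5, 4, 3, 2, 1], 0)),
  (8191, 2, ([9, 3, 8, 6, 4, 5, 3, 4, 2, 3, 8, 9, 5, 4, 1, 2, 3, 8, 7, 6, 5, 4, 3, 2, 1], 0)),
  (9809, 1, ([6, 4, 5, 3, 4, 1, 2, 3, 8, 9, 5, 2, 3, 4, 1, 2, 3, 8, 6, 5, 4, 3, 2, 1], 0)),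
  (11867, 1, ([3, 8, 5, 6, 4, 5, 3, 4, 1, 2, 3, 8, 9, 5, 3, 4, 1, 2, 3, 8, 7, 6, 5, 4, 3, 2, 1], 0)),
  (15107, 501, ([3, 8, 7, 5, 6, 4, 5, 2, 3, 4, 1, 2, 3, 8, 9, 6, 5, 3, 4, 1, 2, 3, 8, 7, 6, 5, 4, 3, 2, 1], 0)),
  (12222, 501, ([8, 9, 3, 8, 2, 3, 4, 0, 1, 2, 3, 8, 9, 4, 5, 2, 3, 4, 1, 2, 3, 8, 7, 6, 5, 4, 3, 2, 1], 0)),
  (14612, 501, ([8, 9, 2, 3, 8, 5, 6, 4, 5, 3, 4, 2, 3, 8, 9, 4, 5, 3, 4, 1, 2, 3, 8, 7, 6, 5, 4, 3, 2, 1], 0)),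
  (8869, 1, ([9, 8, 7, 6, 5, 3, 4, 2, 3, 8, 9, 6, 5, 4, 1, 2, 3, 8, 7, 6, 5, 4, 3, 2, 1], 0)),
  (7836, 1, ([4, 5, 2, 3, 4, 1, 2, 3, 8, 9, 5, 3, 4, 2, 3, 8, 6, 5, 4, 3, 2, 1], 0)),
  (7845, 2, ([7, 6, 5, 2, 3, 4, 1, 2, 3, 8, 9, 5, 3, 4, 2, 3, 8, 7, 6, 5, 4, 3, 2, 1], 0)),
  (7847, 1, ([8, 6, 5, 2, 3, 4, 0, 1, 2, 3, 8, 9, 4, 5, 3, 4, 2, 3, 8, 7, 6, 5, 4, 3, 2, 1], 0)),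
  (12731, 501, ([5, 6, 4, 5, 2, 3, 4, 1, 2, 3, 8, 9, 3, 4, 1, 2, 3, 8, 7, 6, 5, 4, 3, 2, 1], 0)),
  (7856, 1, ([6, 3, 4, 5, 2, 3, 4, 1, 2, 3, 8, 9, 6, 5, 3, 4, 2, 3, 8, 7, 6, 5, 4, 3, 2, 1], 0)),
  (7870, 1, ([7, 6, 3, 4, 5, 2, 3, 4, 1, 2, 3, 8, 9, 8, 6, 5, 3, 4, 2, 3, 8, 7, 6, 5, 4, 3, 2, 1], 0)),
  (7880, 1, ([6, 5, 1, 2, 3, 4, 0, 1, 2, 3, 8, 9, 6, 5, 2, 3, 4, 1, 2, 3, 8, 7, 6, 5, 4, 3, 2, 1], 0)),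
  (7898, 501, ([8, 3, 4, 5, 2, 3, 4, 0, 1, 2, 3, 8, 9, 5, 3, 4, 2, 3, 8, 7, 6, 5, 4, 3, 2, 1], 0)),
  (7970, 1, ([6, 4, 5, 3, 4, 0, 1, 2, 3, 8, 9, 5, 3, 4, 1, 2, 3, 8, 6, 5, 4, 3, 2, 1], 0)),
  (10139, 1, ([3, 8, 6, 4, 5, 3, 4, 1, 2, 3, 8, 9, 4, 5, 3, 4, 1, 2, 3, 8, 6, 5, 4, 3, 2, 1], 0)),
  (7912, 1, ([9, 8, 3, 4, 5, 2, 3, 4, 1, 2, 3, 8, 9, 6, 4, 5, 3, 4, 2, 3, 8, 7, 6, 5, 4, 3, 2, 1], 0)),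
  (7919, 501, ([9, 3, 8, 3, 4, 5, 2, 3, 4, 1, 2, 3, 8, 9, 6, 5, 3, 4, 2, 3, 8, 7, 6, 5, 4, 3, 2, 1], 0)),
  (12773, 1, ([9, 2, 3, 8, 4, 5, 3, 4, 1, 2, 3, 8, 9, 8, 5, 3, 4, 1, 2, 3, 8, 6, 5, 4, 3, 2, 1], 0)),
  (8214, 1, ([9, 8, 7, 6, 5, 3, 4, 2, 3, 8, 9, 6, 5, 2, 3, 4, 1, 2, 3, 8, 7, 6, 5, 4, 3, 2, 1], 0)),
  (7943, 1, ([9, 8, 6, 3, 4, 5, 2, 3, 4, 1, 2, 3, 8, 9, 5, 6, 4, 5, 3, 4, 2, 3, 8, 7, 6, 5, 4, 3, 2, 1], 0)),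
  (7962, 1, ([6, 2, 3, 4, 5, 1, 2, 3, 4, 0, 1, 2, 3, 8, 9, 6, 5, 3, 4, 1, 2, 3, 8, 7, 6, 5, 4, 3, 2, 1], 0)),
  (7973, 1, ([9, 8, 5, 3, 4, 1, 2, 3, 8, 9, 4, 1, 2, 3, 8, 7, 6, 5, 4, 3, 2, 1], 0)),
  (7976, 1, ([9, 8, 5, 3, 4, 1, 2, 3, 8, 9, 2, 3, 4, 1, 2, 3, 8, 7, 6, 5, 4, 3, 2, 1], 0)),
  (12747, 1, ([9, 8, 4, 5, 2, 3, 4, 0, 1, 2, 3, 8, 9, 8, 5, 3, 4, 1, 2, 3, 8, 6, 5, 4, 3, 2, 1], 0)),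
  (8014, 501, ([9, 8, 6, 4, 5, 3, 4, 2, 3, 8, 9, 5, 4, 1, 2, 3, 8, 6, 5, 4, 3, 2, 1], 0)),
  (9762, 1, ([9, 8, 5, 6, 4, 5, 3, 4, 2, 3, 8, 9, 6, 5, 4, 1, 2, 3, 8, 7, 6, 5, 4, 3, 2, 1], 0)),
  (10786, 1, ([9, 3, 8, 7, 6, 4, 5, 3, 4, 2, 3, 8, 9, 6, 5, 3, 4, 1, 2, 3, 8, 7, 6, 5, 4, 3, 2, 1], 0)),
  (8046, 1, ([9, 8, 7, 5, 6, 4, 5, 3, 4, 1, 2, 3, 8, 9, 5, 4, 1, 2, 3, 8, 7, 6, 5, 4, 3, 2, 1], 0)),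
  (9820, 1, ([9, 8, 6, 5, 3, 4, 2, 3, 8, 9, 5, 2, 3, 4, 1, 2, 3, 8, 6, 5, 4, 3, 2, 1], 0)),
  (8072, 1, ([9, 8, 5, 3, 4, 2, 3, 8, 9, 4, 1, 2, 3, 8, 7, 6, 5, 4, 3, 2, 1], 0)),
  (8074, 1, ([5, 2, 3, 4, 1, 2, 3, 8, 9, 8, 2, 3, 4, 1, 2, 3, 8, 6, 5, 4, 3, 2, 1], 0)),
  (8081, 1, ([4, 5, 3, 4, 1, 2, 3, 8, 9, 2, 3, 4, 1, 2, 3, 8, 7, 6, 5, 4, 3, 2, 1], 0)),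
  (8082, 1, ([6, 5, 3, 4, 1, 2, 3, 8, 9, 2, 3, 4, 1, 2, 3, 8, 7, 6, 5, 4, 3, 2, 1], 0)),
  (8102, 1, ([7, 6, 4, 5, 3, 4, 2, 3, 8, 9, 8, 3, 4, 1, 2, 3, 8, 6, 5, 4, 3, 2, 1], 0)),
  (8106, 2, ([6, 5, 3, 4, 1, 2, 3, 8, 9, 5, 2, 3, 4, 1, 2, 3, 8, 6, 5, 4, 3, 2, 1], 0)),
  (8108, 501, ([9, 8, 3, 4, 1, 2, 3, 8, 9, 5, 2, 3, 4, 1, 2, 3, 8, 6, 5, 4, 3, 2, 1], 0)),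
  (9735, 501, ([9, 8, 7, 6, 5, 3, 4, 2, 3, 8, 9, 5, 3, 4, 1, 2, 3, 8, 6, 5, 4, 3, 2, 1], 0)),
  (8119, 501, ([3, 8, 4, 5, 3, 4, 0, 1, 2, 3, 8, 9, 4, 1, 2, 3, 8, 6, 5, 4, 3, 2, 1], 0)),
  (8123, 1, ([2, 3, 8, 4, 5, 3, 4, 1, 2, 3, 8, 9, 4, 1, 2, 3, 8, 6, 5, 4, 3, 2, 1], 0)),
  (8136, 1, ([9, 8, 4, 5, 3, 4, 2, 3, 8, 9, 8, 5, 2, 3, 4, 1, 2, 3, 8, 6, 5, 4, 3, 2, 1], 0)),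
  (8148, 1, ([9, 8, 5, 3, 4, 1, 2, 3, 8, 9, 5, 2, 3, 4, 1, 2, 3, 8, 7, 6, 5, 4, 3, 2, 1], 0)),
  (8150, 501, ([7, 6, 4, 5, 3, 4, 2, 3, 8, 9, 5, 2, 3, 4, 1, 2, 3, 8, 7, 6, 5, 4, 3, 2, 1], 0)),
  (8155, 1, ([9, 8, 6, 5, 3, 4, 2, 3, 8, 9, 5, 2, 3, 4, 1, 2, 3, 8, 7, 6, 5, 4, 3, 2, 1], 0)),
  (8161, 1, ([3, 8, 2, 3, 4, 0, 1, 2, 3, 8, 9, 8, 5, 2, 3, 4, 1, 2, 3, 8, 7, 6, 5, 4, 3, 2, 1], 0)),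
  (10076, 1, ([4, 3, 8, 2, 3, 4, 1, 2, 3, 8, 9, 4, 5, 2, 3, 4, 1, 2, 3, 8, 6, 5, 4, 3, 2, 1], 0))]

/-- Representatives, part 12. -/
def reps11_12 : List (ℕ × ℕ × (List ℕ × ℕ)) := [(8192, 1, ([3, 4, 5, 2, 3, 4, 1, 2, 3, 8, 9, 6, 5, 2, 3, 4, 1, 2, 3, 8, 7, 6, 5, 4, 3, 2, 1], 0)),
  (8198, 1, ([9, 8, 5, 2, 3, 4, 1, 2, 3, 8, 9, 6, 5, 2, 3, 4, 1, 2, 3, 8, 7, 6, 5, 4, 3, 2, 1], 0)),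
  (8199, 1, ([9, 3, 8, 2, 3, 4, 1, 2, 3, 8, 9, 6, 5, 2, 3, 4, 1, 2, 3, 8, 7, 6, 5, 4, 3, 2, 1], 0)),
  (8206, 1, ([9, 8, 6, 5, 3, 4, 1, 2, 3, 8, 9, 6, 5, 2, 3, 4, 1, 2, 3, 8, 7, 6, 5, 4, 3, 2, 1], 0)),
  (8218, 1, ([4, 3, 8, 2, 3, 4, 0, 1, 2, 3, 8, 9, 6, 4, 5, 2, 3, 4, 1, 2, 3, 8, 7, 6, 5, 4, 3, 2, 1], 0)),
  (8225, 501, ([3, 8, 5, 2, 3, 4, 0, 1, 2, 3, 8, 9, 8, 6, 5, 2, 3, 4, 1, 2, 3, 8, 7, 6, 5, 4, 3, 2, 1], 0)),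
  (8835, 1, ([7, 6, 4, 5, 2, 3, 4, 1, 2, 3, 8, 9, 8, 5, 3, 4, 1, 2, 3, 8, 7, 6, 5, 4, 3, 2, 1], 0)),
  (8234, 2, ([3, 8, 5, 6, 4, 5, 3, 4, 0, 1, 2, 3, 8, 9, 5, 4, 1, 2, 3, 8, 7, 6, 5, 4, 3, 2, 1], 0)),
  (8799, 1, ([8, 6, 5, 2, 3, 4, 1, 2, 3, 8, 9, 5, 3, 4, 1, 2, 3, 8, 7, 6, 5, 4, 3, 2, 1], 0)),
  (8241, 1, ([3, 8, 4, 5, 2, 3, 4, 1, 2, 3, 8, 9, 8, 6, 5, 2, 3, 4, 1, 2, 3, 8, 7, 6, 5, 4, 3, 2, 1], 0)),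
  (8248, 1, ([5, 4, 3, 8, 2, 3, 4, 1, 2, 3, 8, 9, 8, 6, 5, 2, 3, 4, 1, 2, 3, 8, 7, 6, 5, 4, 3, 2, 1], 0)),
  (8256, 1, ([2, 3, 8, 4, 5, 3, 4, 1, 2, 3, 8, 9, 8, 6, 5, 2, 3, 4, 1, 2, 3, 8, 7, 6, 5, 4, 3, 2, 1], 0)),
  (8257, 1, ([9, 3, 8, 4, 5, 3, 4, 1, 2, 3, 8, 9, 8, 6, 5, 2, 3, 4, 1, 2, 3, 8, 7, 6, 5, 4, 3, 2, 1], 0)),
  (8258, 1, ([9, 3, 8, 5, 6, 4, 5, 3, 4, 1, 2, 3, 8, 9, 5, 4, 1, 2, 3, 8, 7, 6, 5, 4, 3, 2, 1], 0)),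
  (11449, 1, ([9, 3, 8, 6, 4, 5, 3, 4, 0, 1, 2, 3, 8, 9, 5, 3, 4, 1, 2, 3, 8, 7, 6, 5, 4, 3, 2, 1], 0)),
  (8264, 1, ([9, 4, 3, 8, 5, 6, 4, 5, 3, 4, 2, 3, 8, 9, 5, 4, 1, 2, 3, 8, 7, 6, 5, 4, 3, 2, 1], 0)),
  (8272, 1, ([8, 3, 4, 0, 1, 2, 3, 8, 9, 3, 4, 5, 2, 3, 4, 1, 2, 3, 8, 6, 5, 4, 3, 2, 1], 0)),
  (8276, 501, ([4, 5, 3, 4, 1, 2, 3, 8, 9, 3, 4, 5, 2, 3, 4, 1, 2, 3, 8, 6, 5, 4, 3, 2, 1], 0)),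
  (8279, 1, ([9, 8, 3, 4, 1, 2, 3, 8, 9, 3, 4, 5, 2, 3, 4, 1, 2, 3, 8, 6, 5, 4, 3, 2, 1], 0)),
  (9400, 1, ([2, 3, 8, 4, 5, 2, 3, 4, 1, 2, 3, 8, 9, 5, 4, 1, 2, 3, 8, 6, 5, 4, 3, 2, 1], 0)),
  (8337, 1, ([1, 2, 3, 8, 4, 5, 3, 4, 2, 3, 8, 9, 5, 4, 1, 2, 3, 8, 7, 6, 5, 4, 3, 2, 1], 0)),
  (8338, 1, ([9, 1, 2, 3, 8, 4, 5, 3, 4, 2, 3, 8, 9, 5, 4, 1, 2, 3, 8, 6, 5, 4, 3, 2, 1], 0)),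
  (8364, 1, ([9, 8, 5, 3, 4, 1, 2, 3, 8, 9, 3, 4, 5, 2, 3, 4, 1, 2, 3, 8, 7, 6, 5, 4, 3, 2, 1], 0)),
  (8384, 501, ([3, 4, 5, 2, 3, 4, 1, 2, 3, 8, 9, 4, 5, 2, 3, 4, 1, 2, 3, 8, 7, 6, 5, 4, 3, 2, 1], 0)),
  (9805, 2, ([6, 5, 2, 3, 4, 1, 2, 3, 8, 9, 5, 2, 3, 4, 1, 2, 3, 8, 6, 5, 4, 3, 2, 1], 0)),
  (8393, 501, ([5, 6, 4, 5, 3, 4, 1, 2, 3, 8, 9, 4, 5, 2, 3, 4, 1, 2, 3, 8, 7, 6, 5, 4, 3, 2, 1], 0)),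
  (11745, 2, ([9, 8, 5, 2, 3, 4, 1, 2, 3, 8, 9, 5, 2, 3, 4, 1, 2, 3, 8, 6, 5, 4, 3, 2, 1], 0)),
  (8398, 1, ([8, 7, 6, 5, 3, 4, 1, 2, 3, 8, 9, 4, 5, 2, 3, 4, 1, 2, 3, 8, 7, 6, 5, 4, 3, 2, 1], 0)),
  (8400, 1, ([7, 5, 6, 4, 5, 3, 4, 2, 3, 8, 9, 4, 5, 2, 3, 4, 1, 2, 3, 8, 7, 6, 5, 4, 3, 2, 1], 0)),
  (8423, 2, ([5, 4, 3, 8, 4, 5, 2, 3, 4, 1, 2, 3, 8, 9, 5, 4, 1, 2, 3, 8, 7, 6, 5, 4, 3, 2, 1], 0)),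
  (8432, 1, ([3, 8, 4, 5, 2, 3, 4, 1, 2, 3, 8, 9, 8, 4, 5, 2, 3, 4, 1, 2, 3, 8, 7, 6, 5, 4, 3, 2, 1], 0)),
  (13056, 501, ([3, 8, 3, 4, 5, 2, 3, 4, 1, 2, 3, 8, 9, 4, 5, 3, 4, 1, 2, 3, 8, 6, 5, 4, 3, 2, 1], 0)),
  (10047, 1, ([8, 4, 5, 3, 4, 1, 2, 3, 8, 9, 3, 4, 5, 2, 3, 4, 1, 2, 3, 8, 6, 5, 4, 3, 2, 1], 0)),
  (11778, 1, ([9, 2, 3, 8, 4, 5, 3, 4, 1, 2, 3, 8, 9, 5, 4, 1, 2, 3, 8, 6, 5, 4, 3, 2, 1], 0)),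
  (8451, 1, ([2, 3, 8, 5, 6, 4, 5, 3, 4, 2, 3, 8, 9, 5, 3, 4, 1, 2, 3, 8, 7, 6, 5, 4, 3, 2, 1], 0)),
  (8457, 1, ([9, 3, 8, 6, 4, 5, 3, 4, 2, 3, 8, 9, 8, 4, 5, 2, 3, 4, 1, 2, 3, 8, 7, 6, 5, 4, 3, 2, 1], 0)),
  (8463, 1, ([6, 5, 2, 3, 4, 0, 1, 2, 3, 8, 9, 6, 3, 4, 5, 2, 3, 4, 1, 2, 3, 8, 7, 6, 5, 4, 3, 2, 1], 0)),
  (8472, 1, ([7, 6, 5, 2, 3, 4, 1, 2, 3, 8, 9, 6, 3, 4, 5, 2, 3, 4, 1, 2, 3, 8, 7, 6, 5, 4, 3, 2, 1], 0)),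
  (11849, 1, ([2, 3, 8, 5, 6, 4, 5, 3, 4, 1, 2, 3, 8, 9, 3, 4, 1, 2, 3, 8, 7, 6, 5, 4, 3, 2, 1], 0)),
  (8483, 1, ([9, 8, 6, 5, 3, 4, 1, 2, 3, 8, 9, 6, 3, 4, 5, 2, 3, 4, 1, 2, 3, 8, 7, 6, 5, 4, 3, 2, 1], 0)),
  (12760, 1, ([9, 8, 6, 4, 5, 2, 3, 4, 1, 2, 3, 8, 9, 8, 5, 3, 4, 1, 2, 3, 8, 6, 5, 4, 3, 2, 1], 0)),
  (10206, 1, ([7, 5, 6, 4, 5, 3, 4, 1, 2, 3, 8, 9, 4, 5, 2, 3, 4, 1, 2, 3, 8, 7, 6, 5, 4, 3, 2, 1], 0)),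
  (10215, 1, ([8, 7, 5, 6, 4, 5, 3, 4, 2, 3, 8, 9, 4, 5, 2, 3, 4, 1, 2, 3, 8, 7, 6, 5, 4, 3, 2, 1], 0)),
  (8509, 1, ([6, 3, 4, 5, 2, 3, 4, 1, 2, 3, 8, 9, 6, 4, 5, 2, 3, 4, 1, 2, 3, 8, 7, 6, 5, 4, 3, 2, 1], 0)),
  (8515, 501, ([9, 8, 4, 5, 2, 3, 4, 1, 2, 3, 8, 9, 6, 4, 5, 2, 3, 4, 1, 2, 3, 8, 7, 6, 5, 4, 3, 2, 1], 0)),
  (8517, 501, ([3, 8, 6, 5, 2, 3, 4, 1, 2, 3, 8, 9, 6, 4, 5, 2, 3, 4, 1, 2, 3, 8, 7, 6, 5, 4, 3, 2, 1], 0)),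
  (8901, 1, ([5, 6, 3, 4, 5, 2, 3, 4, 1, 2, 3, 8, 9, 4, 5, 3, 4, 2, 3, 8, 7, 6, 5, 4, 3, 2, 1], 0)),
  (8530, 1, ([9, 3, 8, 4, 5, 3, 4, 1, 2, 3, 8, 9, 6, 4, 5, 2, 3, 4, 1, 2, 3, 8, 7, 6, 5, 4, 3, 2, 1], 0)),
  (12050, 1, ([9, 8, 6, 5, 3, 4, 1, 2, 3, 8, 9, 3, 4, 5, 2, 3, 4, 1, 2, 3, 8, 6, 5, 4, 3, 2, 1], 0)),
  (10181, 1, ([3, 8, 5, 2, 3, 4, 0, 1, 2, 3, 8, 9, 4, 5, 2, 3, 4, 1, 2, 3, 8, 7, 6, 5, 4, 3, 2, 1], 0)),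
  (8780, 1, ([3, 4, 5, 2, 3, 4, 0, 1, 2, 3, 8, 9, 3, 4, 1, 2, 3, 8, 7, 6, 5, 4, 3, 2, 1], 0)),
  (8556, 1, ([7, 6, 5, 4, 3, 8, 2, 3, 4, 1, 2, 3, 8, 9, 6, 5, 3, 4, 1, 2, 3, 8, 7, 6, 5, 4, 3, 2, 1], 0)),
  (8592, 1, ([8, 9, 3, 8, 2, 3, 4, 0, 1, 2, 3, 8, 9, 6, 5, 2, 3, 4, 1, 2, 3, 8, 7, 6, 5, 4, 3, 2, 1], 0)),
  (8594, 1, ([4, 1, 2, 3, 8, 5, 6, 4, 5, 3, 4, 2, 3, 8, 9, 5, 3, 4, 1, 2, 3, 8, 7, 6, 5, 4, 3, 2, 1], 0)),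
  (8597, 1, ([3, 4, 1, 2, 3, 8, 5, 6, 4, 5, 3, 4, 2, 3, 8, 9, 5, 4, 1, 2, 3, 8, 7, 6, 5, 4, 3, 2, 1], 0)),
  (11892, 501, ([9, 3, 8, 4, 5, 2, 3, 4, 1, 2, 3, 8, 9, 6, 5, 2, 3, 4, 1, 2, 3, 8, 7, 6, 5, 4, 3, 2, 1], 0)),
  (9004, 1, ([3, 8, 6, 5, 2, 3, 4, 1, 2, 3, 8, 9, 5, 3, 4, 1, 2, 3, 8, 6, 5, 4, 3, 2, 1], 0)),
  (8605, 1, ([3, 4, 2, 3, 8, 5, 6, 4, 5, 3, 4, 2, 3, 8, 9, 5, 3, 4, 1, 2, 3, 8, 7, 6, 5, 4, 3, 2, 1], 0)),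
  (12814, 501, ([9, 8, 6, 3, 4, 5, 2, 3, 4, 1, 2, 3, 8, 9, 8, 5, 3, 4, 1, 2, 3, 8, 7, 6, 5, 4, 3, 2, 1], 0)),
  (8610, 1, ([3, 4, 2, 3, 8, 5, 6, 4, 5, 3, 4, 2, 3, 8, 9, 6, 5, 4, 1, 2, 3, 8, 7, 6, 5, 4, 3, 2, 1], 0)),
  (11635, 2, ([9, 3, 8, 7, 6, 3, 4, 5, 2, 3, 4, 1, 2, 3, 8, 9, 6, 5, 3, 4, 2, 3, 8, 7, 6, 5, 4, 3, 2, 1], 0)),
  (11398, 1, ([9, 8, 6, 5, 3, 4, 0, 1, 2, 3, 8, 9, 5, 2, 3, 4, 1, 2, 3, 8, 6, 5, 4, 3, 2, 1], 0)),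
  (9638, 1, ([5, 6, 4, 5, 2, 3, 4, 0, 1, 2, 3, 8, 9, 5, 3, 4, 1, 2, 3, 8, 7, 6, 5, 4, 3, 2, 1], 0)),
  (10732, 501, ([8, 9, 3, 8, 6, 4, 5, 3, 4, 1, 2, 3, 8, 9, 2, 3, 4, 1, 2, 3, 8, 7, 6, 5, 4, 3, 2, 1], 0)),
  (10610, 1, ([5, 6, 4, 5, 3, 4, 1, 2, 3, 8, 9, 3, 4, 1, 2, 3, 8, 7, 6, 5, 4, 3, 2, 1], 0)),
  (8834, 1, ([5, 6, 4, 5, 2, 3, 4, 1, 2, 3, 8, 9, 8, 5, 3, 4, 1, 2, 3, 8, 7, 6, 5, 4, 3, 2, 1], 0)),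
  (14992, 500, ([3, 8, 3, 4, 5, 2, 3, 4, 0, 1, 2, 3, 8, 9, 5, 2, 3, 4, 1, 2, 3, 8, 6, 5, 4, 3, 2, 1], 0)),
  (8679, 3, ([8, 2, 3, 4, 1, 2, 3, 8, 5, 6, 4, 5, 3, 4, 2, 3, 8, 9, 5, 4, 1, 2, 3, 8, 7, 6, 5, 4, 3, 2, 1], 0)),
  (10850, 1, ([4, 2, 3, 8, 4, 5, 2, 3, 4, 1, 2, 3, 8, 9, 8, 6, 5, 3, 4, 1, 2, 3, 8, 7, 6, 5, 4, 3, 2, 1], 0)),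
  (9831, 2, ([3, 4, 5, 2, 3, 4, 1, 2, 3, 8, 9, 8, 5, 2, 3, 4, 1, 2, 3, 8, 6, 5, 4, 3, 2, 1], 0)),
  (8727, 1, ([9, 8, 5, 3, 4, 1, 2, 3, 8, 9, 3, 4, 1, 2, 3, 8, 7, 6, 5, 4, 3, 2, 1], 0)),
  (8734, 1, ([7, 6, 4, 5, 3, 4, 1, 2, 3, 8, 9, 8, 3, 4, 1, 2, 3, 8, 7, 6, 5, 4, 3, 2, 1], 0)),
  (8748, 1, ([4, 5, 2, 3, 4, 1, 2, 3, 8, 9, 5, 3, 4, 1, 2, 3, 8, 6, 5, 4, 3, 2, 1], 0)),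
  (8757, 3, ([9, 8, 4, 5, 3, 4, 2, 3, 8, 9, 5, 3, 4, 1, 2, 3, 8, 6, 5, 4, 3, 2, 1], 0)),
  (8760, 501, ([3, 8, 2, 3, 4, 0, 1, 2, 3, 8, 9, 4, 5, 3, 4, 1, 2, 3, 8, 6, 5, 4, 3, 2, 1], 0)),
  (8791, 1, ([9, 3, 8, 4, 5, 3, 4, 2, 3, 8, 9, 8, 5, 3, 4, 1, 2, 3, 8, 6, 5, 4, 3, 2, 1], 0)),
  (8794, 1, ([9, 8, 6, 5, 3, 4, 2, 3, 8, 9, 5, 4, 1, 2, 3, 8, 7, 6, 5, 4, 3, 2, 1], 0)),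
  (8795, 3, ([3, 4, 5, 2, 3, 4, 1, 2, 3, 8, 9, 5, 3, 4, 1, 2, 3, 8, 7, 6, 5, 4, 3, 2, 1], 0)),
  (8805, 1, ([9, 8, 4, 5, 3, 4, 1, 2, 3, 8, 9, 5, 3, 4, 1, 2, 3, 8, 7, 6, 5, 4, 3, 2, 1], 0)),
  (8817, 2, ([7, 6, 4, 5, 2, 3, 4, 1, 2, 3, 8, 9, 5, 3, 4, 1, 2, 3, 8, 6, 5, 4, 3, 2, 1], 0)),
  (8818, 2, ([6, 4, 5, 2, 3, 4, 0, 1, 2, 3, 8, 9, 8, 5, 3, 4, 1, 2, 3, 8, 7, 6, 5, 4, 3, 2, 1], 0)),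
  (8841, 1, ([9, 8, 6, 5, 2, 3, 4, 1, 2, 3, 8, 9, 8, 5, 3, 4, 1, 2, 3, 8, 7, 6, 5, 4, 3, 2, 1], 0)),
  (8843, 1, ([9, 3, 8, 5, 2, 3, 4, 1, 2, 3, 8, 9, 8, 5, 3, 4, 1, 2, 3, 8, 7, 6, 5, 4, 3, 2, 1], 0)),
  (10108, 1, ([5, 4, 3, 8, 4, 5, 2, 3, 4, 1, 2, 3, 8, 9, 5, 4, 1, 2, 3, 8, 6, 5, 4, 3, 2, 1], 0)),
  (8872, 2, ([5, 6, 4, 5, 2, 3, 4, 1, 2, 3, 8, 9, 6, 5, 3, 4, 1, 2, 3, 8, 7, 6, 5, 4, 3, 2, 1], 0)),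
  (8884, 501, ([2, 3, 8, 4, 5, 3, 4, 1, 2, 3, 8, 9, 6, 5, 3, 4, 1, 2, 3, 8, 7, 6, 5, 4, 3, 2, 1], 0)),
  (8889, 2, ([3, 8, 5, 6, 4, 5, 3, 4, 2, 3, 8, 9, 6, 5, 3, 4, 1, 2, 3, 8, 7, 6, 5, 4, 3, 2, 1], 0)),
  (10193, 1, ([5, 6, 4, 5, 2, 3, 4, 1, 2, 3, 8, 9, 4, 5, 2, 3, 4, 1, 2, 3, 8, 7, 6, 5, 4, 3, 2, 1], 0)),
  (12142, 1, ([1, 2, 3, 8, 4, 5, 3, 4, 1, 2, 3, 8, 9, 5, 3, 4, 1, 2, 3, 8, 7, 6, 5, 4, 3, 2, 1], 0)),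
  (10640, 1, ([8, 5, 1, 2, 3, 4, 0, 1, 2, 3, 8, 9, 4, 5, 3, 4, 1, 2, 3, 8, 6, 5, 4, 3, 2, 1], 0)),
  (9397, 1, ([9, 8, 6, 5, 3, 4, 1, 2, 3, 8, 9, 5, 4, 1, 2, 3, 8, 6, 5, 4, 3, 2, 1], 0)),
  (8953, 1, ([1, 2, 3, 8, 4, 5, 3, 4, 1, 2, 3, 8, 9, 8, 6, 5, 3, 4, 1, 2, 3, 8, 7, 6, 5, 4, 3, 2, 1], 0)),
  (9882, 1, ([3, 8, 5, 2, 3, 4, 0, 1, 2, 3, 8, 9, 8, 5, 2, 3, 4, 1, 2, 3, 8, 7, 6, 5, 4, 3, 2, 1], 0)),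
  (8983, 1, ([7, 6, 5, 2, 3, 4, 1, 2, 3, 8, 9, 4, 5, 3, 4, 1, 2, 3, 8, 6, 5, 4, 3, 2, 1], 0)),
  (8984, 1, ([8, 6, 5, 2, 3, 4, 1, 2, 3, 8, 9, 4, 5, 3, 4, 1, 2, 3, 8, 6, 5, 4, 3, 2, 1], 0)),
  (8991, 1, ([3, 8, 4, 5, 3, 4, 1, 2, 3, 8, 9, 4, 5, 3, 4, 1, 2, 3, 8, 6, 5, 4, 3, 2, 1], 0)),
  (9009, 1, ([4, 3, 8, 4, 5, 2, 3, 4, 1, 2, 3, 8, 9, 5, 4, 1, 2, 3, 8, 6, 5, 4, 3, 2, 1], 0)),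
  (9024, 501, ([9, 8, 5, 2, 3, 4, 0, 1, 2, 3, 8, 9, 5, 3, 4, 1, 2, 3, 8, 6, 5, 4, 3, 2, 1], 0)),
  (9057, 1, ([3, 8, 4, 5, 3, 4, 0, 1, 2, 3, 8, 9, 4, 5, 3, 4, 1, 2, 3, 8, 7, 6, 5, 4, 3, 2, 1], 0)),
  (9064, 1, ([7, 6, 4, 5, 2, 3, 4, 1, 2, 3, 8, 9, 4, 5, 3, 4, 1, 2, 3, 8, 7, 6, 5, 4, 3, 2, 1], 0)),
  (9069, 1, ([3, 8, 6, 5, 2, 3, 4, 1, 2, 3, 8, 9, 4, 5, 3, 4, 1, 2, 3, 8, 7, 6, 5, 4, 3, 2, 1], 0)),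
  (9076, 1, ([3, 8, 6, 4, 5, 3, 4, 1, 2, 3, 8, 9, 4, 5, 3, 4, 1, 2, 3, 8, 7, 6, 5, 4, 3, 2, 1], 0)),
  (9079, 1, ([9, 3, 8, 4, 5, 3, 4, 1, 2, 3, 8, 9, 4, 5, 3, 4, 1, 2, 3, 8, 7, 6, 5, 4, 3, 2, 1], 0)),
  (9098, 1, ([4, 3, 8, 4, 5, 2, 3, 4, 1, 2, 3, 8, 9, 5, 3, 4, 1, 2, 3, 8, 7, 6, 5, 4, 3, 2, 1], 0)),
  (9100, 1, ([3, 8, 7, 6, 5, 2, 3, 4, 1, 2, 3, 8, 9, 5, 3, 4, 1, 2, 3, 8, 7, 6, 5, 4, 3, 2, 1], 0)),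
  (9107, 1, ([4, 2, 3, 8, 4, 5, 2, 3, 4, 1, 2, 3, 8, 9, 5, 4, 1, 2, 3, 8, 7, 6, 5, 4, 3, 2, 1], 0)),
  (9110, 1, ([5, 6, 3, 4, 5, 2, 3, 4, 1, 2, 3, 8, 9, 8, 4, 5, 3, 4, 1, 2, 3, 8, 7, 6, 5, 4, 3, 2, 1], 0)),
  (9117, 1, ([8, 7, 6, 4, 5, 2, 3, 4, 1, 2, 3, 8, 9, 8, 4, 5, 3, 4, 1, 2, 3, 8, 7, 6, 5, 4, 3, 2, 1], 0)),
  (9118, 1, ([3, 8, 6, 4, 5, 2, 3, 4, 1, 2, 3, 8, 9, 8, 4, 5, 3, 4, 1, 2, 3, 8, 7, 6, 5, 4, 3, 2, 1], 0)),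
  (9133, 1, ([3, 8, 5, 6, 4, 5, 3, 4, 1, 2, 3, 8, 9, 8, 4, 5, 3, 4, 1, 2, 3, 8, 7, 6, 5, 4, 3, 2, 1], 0)),
  (9150, 500, ([1, 2, 3, 8, 6, 4, 5, 3, 4, 2, 3, 8, 9, 8, 4, 5, 3, 4, 1, 2, 3, 8, 7, 6, 5, 4, 3, 2, 1], 0)),
  (13854, 2, ([6, 3, 4, 5, 2, 3, 4, 1, 2, 3, 8, 9, 5, 2, 3, 4, 1, 2, 3, 8, 6, 5, 4, 3, 2, 1], 0)),
  (10754, 1, ([9, 3, 8, 6, 4, 5, 3, 4, 2, 3, 8, 9, 6, 5, 4, 1, 2, 3, 8, 7, 6, 5, 4, 3, 2, 1], 0)),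
  (9178, 1, ([3, 8, 6, 4, 5, 2, 3, 4, 1, 2, 3, 8, 9, 6, 4, 5, 3, 4, 1, 2, 3, 8, 7, 6, 5, 4, 3, 2, 1], 0)),
  (9204, 1, ([2, 3, 8, 7, 6, 4, 5, 3, 4, 2, 3, 8, 9, 6, 4, 5, 3, 4, 1, 2, 3, 8, 7, 6, 5, 4, 3, 2, 1], 0)),
  (9220, 1, ([9, 4, 3, 8, 3, 4, 5, 2, 3, 4, 1, 2, 3, 8, 9, 6, 5, 3, 4, 2, 3, 8, 7, 6, 5, 4, 3, 2, 1], 0)),
  (9235, 1, ([4, 2, 3, 8, 6, 4, 5, 2, 3, 4, 1, 2, 3, 8, 9, 6, 5, 4, 1, 2, 3, 8, 7, 6, 5, 4, 3, 2, 1], 0)),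
  (11756, 1, ([9, 3, 8, 4, 5, 3, 4, 2, 3, 8, 9, 5, 2, 3, 4, 1, 2, 3, 8, 6, 5, 4, 3, 2, 1], 0)),
  (9250, 1, ([3, 8, 5, 6, 4, 5, 2, 3, 4, 1, 2, 3, 8, 9, 8, 6, 4, 5, 3, 4, 1, 2, 3, 8, 7, 6, 5, 4, 3, 2, 1], 0)),
  (11477, 1, ([8, 9, 2, 3, 8, 6, 4, 5, 2, 3, 4, 0, 1, 2, 3, 8, 9, 5, 4, 1, 2, 3, 8, 7, 6, 5, 4, 3, 2, 1], 0)),
  (10674, 1, ([7, 6, 4, 5, 2, 3, 4, 1, 2, 3, 8, 9, 5, 3, 4, 1, 2, 3, 8, 7, 6, 5, 4, 3, 2, 1], 0)),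
  (11829, 1, ([5, 6, 4, 5, 2, 3, 4, 0, 1, 2, 3, 8, 9, 8, 5, 2, 3, 4, 1, 2, 3, 8, 7, 6, 5, 4, 3, 2, 1], 0)),
  (9260, 1, ([3, 8, 4, 5, 2, 3, 4, 0, 1, 2, 3, 8, 9, 6, 5, 2, 3, 4, 1, 2, 3, 8, 7, 6, 5, 4, 3, 2, 1], 0)),
  (9269, 1, ([8, 7, 6, 5, 2, 3, 4, 0, 1, 2, 3, 8, 9, 6, 5, 2, 3, 4, 1, 2, 3, 8, 7, 6, 5, 4, 3, 2, 1], 0)),
  (9272, 501, ([3, 8, 7, 5, 6, 4, 5, 3, 4, 1, 2, 3, 8, 9, 8, 6, 4, 5, 3, 4, 1, 2, 3, 8, 7, 6, 5, 4, 3, 2, 1], 0)),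
  (10303, 1, ([3, 8, 5, 2, 3, 4, 0, 1, 2, 3, 8, 9, 6, 3, 4, 5, 2, 3, 4, 1, 2, 3, 8, 7, 6, 5, 4, 3, 2, 1], 0)),
  (10954, 1, ([9, 8, 4, 5, 2, 3, 4, 0, 1, 2, 3, 8, 9, 5, 3, 4, 1, 2, 3, 8, 6, 5, 4, 3, 2, 1], 0)),
  (10143, 1, ([6, 5, 2, 3, 4, 0, 1, 2, 3, 8, 9, 3, 4, 5, 2, 3, 4, 1, 2, 3, 8, 7, 6, 5, 4, 3, 2, 1], 0)),
  (16456, 1, ([8, 9, 2, 3, 8, 4, 5, 3, 4, 1, 2, 3, 8, 9, 4, 5, 2, 3, 4, 1, 2, 3, 8, 6, 5, 4, 3, 2, 1], 0)),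
  (13876, 1, ([9, 8, 4, 5, 2, 3, 4, 0, 1, 2, 3, 8, 9, 8, 5, 2, 3, 4, 1, 2, 3, 8, 6, 5, 4, 3, 2, 1], 0)),
  (9290, 1, ([1, 2, 3, 8, 5, 6, 4, 5, 3, 4, 2, 3, 8, 9, 8, 6, 4, 5, 3, 4, 1, 2, 3, 8, 7, 6, 5, 4, 3, 2, 1], 0)),
  (9837, 501, ([9, 8, 5, 2, 3, 4, 1, 2, 3, 8, 9, 8, 5, 2, 3, 4, 1, 2, 3, 8, 6, 5, 4, 3, 2, 1], 0)),
  (9913, 1, ([9, 8, 7, 6, 4, 5, 3, 4, 1, 2, 3, 8, 9, 5, 3, 4, 1, 2, 3, 8, 6, 5, 4, 3, 2, 1], 0)),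
  (10947, 2, ([9, 8, 6, 4, 5, 2, 3, 4, 1, 2, 3, 8, 9, 8, 4, 5, 3, 4, 1, 2, 3, 8, 6, 5, 4, 3, 2, 1], 0)),
  (10713, 1, ([7, 5, 6, 4, 5, 2, 3, 4, 1, 2, 3, 8, 9, 8, 5, 3, 4, 1, 2, 3, 8, 7, 6, 5, 4, 3, 2, 1], 0)),
  (14527, 501, ([0, 1, 2, 3, 8, 5, 6, 4, 5, 3, 4, 2, 3, 8, 9, 5, 2, 3, 4, 1, 2, 3, 8, 7, 6, 5, 4, 3, 2, 1], 0)),
  (10776, 1, ([9, 8, 7, 6, 4, 5, 3, 4, 1, 2, 3, 8, 9, 6, 5, 3, 4, 1, 2, 3, 8, 7, 6, 5, 4, 3, 2, 1], 0)),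
  (9664, 1, ([5, 6, 3, 4, 5, 2, 3, 4, 0, 1, 2, 3, 8, 9, 6, 5, 3, 4, 1, 2, 3, 8, 7, 6, 5, 4, 3, 2, 1], 0)),
  (9423, 1, ([8, 9, 3, 8, 4, 5, 2, 3, 4, 0, 1, 2, 3, 8, 9, 5, 4, 1, 2, 3, 8, 6, 5, 4, 3, 2, 1], 0)),
  (9439, 1, ([9, 3, 8, 4, 5, 3, 4, 1, 2, 3, 8, 9, 5, 4, 1, 2, 3, 8, 7, 6, 5, 4, 3, 2, 1], 0)),
  (9442, 2, ([9, 8, 5, 6, 4, 5, 2, 3, 4, 1, 2, 3, 8, 9, 5, 4, 1, 2, 3, 8, 7, 6, 5, 4, 3, 2, 1], 0)),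
  (9759, 1, ([3, 8, 7, 6, 4, 5, 3, 4, 2, 3, 8, 9, 6, 5, 4, 1, 2, 3, 8, 7, 6, 5, 4, 3, 2, 1], 0)),
  (9916, 2, ([3, 8, 5, 6, 4, 5, 3, 4, 2, 3, 8, 9, 5, 3, 4, 1, 2, 3, 8, 7, 6, 5, 4, 3, 2, 1], 0)),
  (11687, 1, ([9, 8, 7, 6, 5, 3, 4, 1, 2, 3, 8, 9, 5, 3, 4, 1, 2, 3, 8, 6, 5, 4, 3, 2, 1], 0)),
  (9665, 1, ([6, 3, 4, 5, 2, 3, 4, 0, 1, 2, 3, 8, 9, 6, 5, 2, 3, 4, 1, 2, 3, 8, 7, 6, 5, 4, 3, 2, 1], 0)),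
  (12156, 1, ([8, 9, 3, 8, 2, 3, 4, 0, 1, 2, 3, 8, 9, 5, 2, 3, 4, 1, 2, 3, 8, 6, 5, 4, 3, 2, 1], 0)),
  (9502, 501, ([3, 8, 5, 6, 4, 5, 3, 4, 1, 2, 3, 8, 9, 6, 5, 4, 1, 2, 3, 8, 7, 6, 5, 4, 3, 2, 1], 0)),
  (9516, 501, ([2, 3, 8, 7, 6, 4, 5, 2, 3, 4, 1, 2, 3, 8, 9, 6, 5, 4, 1, 2, 3, 8, 7, 6, 5, 4, 3, 2, 1], 0)),
  (10762, 1, ([9, 8, 3, 4, 5, 2, 3, 4, 1, 2, 3, 8, 9, 6, 5, 3, 4, 1, 2, 3, 8, 7, 6, 5, 4, 3, 2, 1], 0)),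
  (9536, 2, ([9, 3, 8, 6, 4, 5, 3, 4, 0, 1, 2, 3, 8, 9, 6, 5, 3, 4, 1, 2, 3, 8, 7, 6, 5, 4, 3, 2, 1], 0)),
  (13216, 1, ([5, 6, 4, 5, 1, 2, 3, 4, 0, 1, 2, 3, 8, 9, 5, 2, 3, 4, 1, 2, 3, 8, 7, 6, 5, 4, 3, 2, 1], 0)),
  (12019, 1, ([9, 4, 3, 8, 5, 6, 4, 5, 3, 4, 2, 3, 8, 9, 5, 2, 3, 4, 1, 2, 3, 8, 7, 6, 5, 4, 3, 2, 1], 0)),
  (10082, 1, ([9, 8, 4, 5, 3, 4, 1, 2, 3, 8, 9, 4, 5, 2, 3, 4, 1, 2, 3, 8, 6, 5, 4, 3, 2, 1], 0)),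
  (15072, 3, ([8, 6, 7, 5, 6, 4, 5, 2, 3, 4, 1, 2, 3, 8, 9, 5, 2, 3, 4, 1, 2, 3, 8, 7, 6, 5, 4, 3, 2, 1], 0)),
  (13676, 1, ([9, 2, 3, 8, 7, 6, 4, 5, 3, 4, 1, 2, 3, 8, 9, 6, 5, 4, 1, 2, 3, 8, 7, 6, 5, 4, 3, 2, 1], 0)),
  (9650, 1, ([2, 3, 8, 3, 4, 5, 2, 3, 4, 1, 2, 3, 8, 9, 6, 4, 5, 3, 4, 2, 3, 8, 7, 6, 5, 4, 3, 2, 1], 0)),
  (15015, 1, ([9, 8, 5, 6, 4, 5, 2, 3, 4, 1, 2, 3, 8, 9, 5, 3, 4, 1, 2, 3, 8, 7, 6, 5, 4, 3, 2, 1], 0)),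
  (9736, 1, ([9, 8, 6, 4, 5, 3, 4, 2, 3, 8, 9, 5, 4, 1, 2, 3, 8, 7, 6, 5, 4, 3, 2, 1], 0)),
  (9627, 1, ([6, 5, 2, 3, 4, 0, 1, 2, 3, 8, 9, 5, 2, 3, 4, 1, 2, 3, 8, 6, 5, 4, 3, 2, 1], 0)),
  (10199, 1, ([3, 8, 6, 5, 2, 3, 4, 1, 2, 3, 8, 9, 4, 5, 2, 3, 4, 1, 2, 3, 8, 7, 6, 5, 4, 3, 2, 1], 0)),
  (9677, 2, ([9, 8, 5, 6, 3, 4, 5, 2, 3, 4, 1, 2, 3, 8, 9, 5, 6, 4, 5, 3, 4, 2, 3, 8, 7, 6, 5, 4, 3, 2, 1], 0)),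
  (18513, 2, ([8, 9, 4, 3, 8, 5, 2, 3, 4, 0, 1, 2, 3, 8, 9, 4, 5, 2, 3, 4, 1, 2, 3, 8, 6, 5, 4, 3, 2, 1], 0)),
  (13974, 1, ([3, 8, 7, 6, 4, 5, 2, 3, 4, 1, 2, 3, 8, 9, 5, 3, 4, 1, 2, 3, 8, 7, 6, 5, 4, 3, 2, 1], 0)),
  (9700, 1, ([3, 4, 5, 2, 3, 4, 1, 2, 3, 8, 9, 8, 2, 3, 4, 1, 2, 3, 8, 6, 5, 4, 3, 2, 1], 0)),
  (9722, 1, ([9, 8, 6, 5, 3, 4, 2, 3, 8, 9, 5, 4, 1, 2, 3, 8, 6, 5, 4, 3, 2, 1], 0)),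
  (9723, 3, ([9, 8, 4, 5, 3, 4, 2, 3, 8, 9, 5, 4, 1, 2, 3, 8, 6, 5, 4, 3, 2, 1], 0)),
  (11709, 1, ([2, 3, 8, 7, 6, 4, 5, 3, 4, 2, 3, 8, 9, 6, 5, 4, 1, 2, 3, 8, 7, 6, 5, 4, 3, 2, 1], 0)),
  (9798, 1, ([5, 6, 4, 5, 3, 4, 1, 2, 3, 8, 9, 8, 2, 3, 4, 1, 2, 3, 8, 7, 6, 5, 4, 3, 2, 1], 0)),
  (9811, 1, ([9, 3, 8, 4, 5, 3, 4, 1, 2, 3, 8, 9, 4, 1, 2, 3, 8, 7, 6, 5, 4, 3, 2, 1], 0)),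
  (9844, 1, ([9, 8, 4, 5, 3, 4, 1, 2, 3, 8, 9, 8, 5, 2, 3, 4, 1, 2, 3, 8, 6, 5, 4, 3, 2, 1], 0)),
  (9846, 501, ([9, 3, 8, 4, 5, 3, 4, 2, 3, 8, 9, 5, 3, 4, 1, 2, 3, 8, 6, 5, 4, 3, 2, 1], 0)),
  (9847, 501, ([9, 8, 6, 4, 5, 3, 4, 2, 3, 8, 9, 5, 3, 4, 1, 2, 3, 8, 6, 5, 4, 3, 2, 1], 0)),
  (9860, 1, ([3, 8, 4, 5, 3, 4, 1, 2, 3, 8, 9, 5, 2, 3, 4, 1, 2, 3, 8, 7, 6, 5, 4, 3, 2, 1], 0)),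
  (9863, 1, ([9, 8, 6, 5, 3, 4, 1, 2, 3, 8, 9, 5, 2, 3, 4, 1, 2, 3, 8, 7, 6, 5, 4, 3, 2, 1], 0)),
  (9877, 1, ([2, 3, 8, 4, 5, 3, 4, 1, 2, 3, 8, 9, 8, 3, 4, 1, 2, 3, 8, 7, 6, 5, 4, 3, 2, 1], 0)),
  (9903, 501, ([9, 3, 8, 5, 2, 3, 4, 1, 2, 3, 8, 9, 8, 5, 2, 3, 4, 1, 2, 3, 8, 7, 6, 5, 4, 3, 2, 1], 0)),
  (12040, 1, ([8, 4, 5, 3, 4, 0, 1, 2, 3, 8, 9, 3, 4, 5, 2, 3, 4, 1, 2, 3, 8, 6, 5, 4, 3, 2, 1], 0)),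
  (9906, 501, ([8, 9, 3, 8, 2, 3, 4, 1, 2, 3, 8, 9, 8, 5, 2, 3, 4, 1, 2, 3, 8, 7, 6, 5, 4, 3, 2, 1], 0)),
  (9918, 1, ([9, 8, 5, 6, 4, 5, 3, 4, 2, 3, 8, 9, 8, 5, 2, 3, 4, 1, 2, 3, 8, 7, 6, 5, 4, 3, 2, 1], 0)),
  (9919, 1, ([9, 3, 8, 6, 4, 5, 3, 4, 2, 3, 8, 9, 5, 3, 4, 1, 2, 3, 8, 7, 6, 5, 4, 3, 2, 1], 0)),
  (9920, 1, ([9, 8, 7, 6, 4, 5, 3, 4, 2, 3, 8, 9, 5, 3, 4, 1, 2, 3, 8, 7, 6, 5, 4, 3, 2, 1], 0)),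
  (9948, 1, ([9, 8, 5, 6, 4, 5, 3, 4, 2, 3, 8, 9, 6, 5, 2, 3, 4, 1, 2, 3, 8, 7, 6, 5, 4, 3, 2, 1], 0)),
  (9970, 501, ([3, 8, 4, 5, 2, 3, 4, 0, 1, 2, 3, 8, 9, 8, 6, 5, 2, 3, 4, 1, 2, 3, 8, 7, 6, 5, 4, 3, 2, 1], 0)),
  (9972, 1, ([2, 3, 8, 5, 6, 4, 5, 3, 4, 0, 1, 2, 3, 8, 9, 5, 4, 1, 2, 3, 8, 7, 6, 5, 4, 3, 2, 1], 0)),
  (9973, 1, ([3, 8, 6, 5, 2, 3, 4, 0, 1, 2, 3, 8, 9, 8, 6, 5, 2, 3, 4, 1, 2, 3, 8, 7, 6, 5, 4, 3, 2, 1], 0)),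
  (9989, 2, ([3, 4, 2, 3, 8, 5, 6, 4, 5, 3, 4, 1, 2, 3, 8, 9, 4, 1, 2, 3, 8, 7, 6, 5, 4, 3, 2, 1], 0)),
  (9998, 1, ([2, 3, 8, 4, 5, 2, 3, 4, 1, 2, 3, 8, 9, 8, 6, 5, 2, 3, 4, 1, 2, 3, 8, 7, 6, 5, 4, 3, 2, 1], 0)),
  (10243, 1, ([8, 9, 4, 3, 8, 2, 3, 4, 1, 2, 3, 8, 9, 5, 2, 3, 4, 1, 2, 3, 8, 7, 6, 5, 4, 3, 2, 1], 0)),
  (17521, 4, ([8, 9, 4, 3, 8, 4, 5, 2, 3, 4, 1, 2, 3, 8, 9, 4, 5, 3, 4, 1, 2, 3, 8, 6, 5, 4, 3, 2, 1], 0)),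
  (10017, 1, ([2, 3, 8, 6, 4, 5, 3, 4, 1, 2, 3, 8, 9, 8, 6, 5, 2, 3, 4, 1, 2, 3, 8, 7, 6, 5, 4, 3, 2, 1], 0)),
  (13622, 1, ([9, 3, 8, 5, 6, 4, 5, 3, 4, 0, 1, 2, 3, 8, 9, 5, 3, 4, 1, 2, 3, 8, 7, 6, 5, 4, 3, 2, 1], 0)),
  (10163, 1, ([9, 8, 6, 5, 3, 4, 1, 2, 3, 8, 9, 3, 4, 5, 2, 3, 4, 1, 2, 3, 8, 7, 6, 5, 4, 3, 2, 1], 0)),
  (12767, 1, ([9, 8, 5, 1, 2, 3, 4, 0, 1, 2, 3, 8, 9, 5, 2, 3, 4, 1, 2, 3, 8, 6, 5, 4, 3, 2, 1], 0)),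
  (10212, 1, ([9, 3, 8, 4, 5, 3, 4, 1, 2, 3, 8, 9, 4, 5, 2, 3, 4, 1, 2, 3, 8, 7, 6, 5, 4, 3, 2, 1], 0)),
  (10216, 1, ([3, 8, 5, 6, 4, 5, 3, 4, 2, 3, 8, 9, 4, 5, 2, 3, 4, 1, 2, 3, 8, 7, 6, 5, 4, 3, 2, 1], 0)),
  (12780, 501, ([7, 5, 6, 4, 5, 2, 3, 4, 1, 2, 3, 8, 9, 5, 3, 4, 1, 2, 3, 8, 7, 6, 5, 4, 3, 2, 1], 0)),
  (10239, 1, ([6, 5, 4, 3, 8, 2, 3, 4, 1, 2, 3, 8, 9, 5, 2, 3, 4, 1, 2, 3, 8, 7, 6, 5, 4, 3, 2, 1], 0)),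
  (10271, 501, ([8, 9, 3, 8, 5, 2, 3, 4, 1, 2, 3, 8, 9, 8, 4, 5, 2, 3, 4, 1, 2, 3, 8, 7, 6, 5, 4, 3, 2, 1], 0)),
  (10291, 501, ([9, 3, 8, 5, 6, 4, 5, 3, 4, 2, 3, 8, 9, 8, 4, 5, 2, 3, 4, 1, 2, 3, 8, 7, 6, 5, 4, 3, 2, 1], 0)),
  (12100, 501, ([8, 9, 2, 3, 8, 4, 5, 3, 4, 2, 3, 8, 9, 2, 3, 4, 1, 2, 3, 8, 7, 6, 5, 4, 3, 2, 1], 0))]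

/-- Representatives, part 13. -/
def reps11_13 : List (ℕ × ℕ × (List ℕ × ℕ)) := [(13102, 1, ([8, 9, 2, 3, 8, 4, 5, 3, 4, 0, 1, 2, 3, 8, 9, 4, 1, 2, 3, 8, 7, 6, 5, 4, 3, 2, 1], 0)),
  (10354, 1, ([7, 6, 3, 4, 5, 2, 3, 4, 1, 2, 3, 8, 9, 6, 4, 5, 2, 3, 4, 1, 2, 3, 8, 7, 6, 5, 4, 3, 2, 1], 0)),
  (16451, 501, ([8, 9, 4, 3, 8, 5, 2, 3, 4, 1, 2, 3, 8, 9, 4, 5, 2, 3, 4, 1, 2, 3, 8, 6, 5, 4, 3, 2, 1], 0)),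
  (15001, 501, ([8, 9, 3, 8, 4, 5, 2, 3, 4, 1, 2, 3, 8, 9, 8, 5, 3, 4, 1, 2, 3, 8, 6, 5, 4, 3, 2, 1], 0)),
  (10375, 1, ([8, 9, 4, 3, 8, 2, 3, 4, 1, 2, 3, 8, 9, 6, 4, 5, 2, 3, 4, 1, 2, 3, 8, 7, 6, 5, 4, 3, 2, 1], 0)),
  (16023, 1, ([8, 9, 2, 3, 8, 4, 5, 3, 4, 1, 2, 3, 8, 9, 3, 4, 1, 2, 3, 8, 7, 6, 5, 4, 3, 2, 1], 0)),
  (10378, 1, ([3, 8, 5, 6, 4, 5, 3, 4, 1, 2, 3, 8, 9, 6, 4, 5, 2, 3, 4, 1, 2, 3, 8, 7, 6, 5, 4, 3, 2, 1], 0)),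
  (16065, 1, ([6, 7, 5, 6, 4, 5, 2, 3, 4, 1, 2, 3, 8, 9, 5, 2, 3, 4, 1, 2, 3, 8, 7, 6, 5, 4, 3, 2, 1], 0)),
  (12161, 1, ([9, 1, 2, 3, 8, 4, 5, 3, 4, 2, 3, 8, 9, 4, 5, 3, 4, 1, 2, 3, 8, 6, 5, 4, 3, 2, 1], 0)),
  (11854, 1, ([3, 8, 7, 6, 4, 5, 2, 3, 4, 1, 2, 3, 8, 9, 5, 3, 4, 1, 2, 3, 8, 6, 5, 4, 3, 2, 1], 0)),
  (10472, 2, ([8, 9, 3, 8, 5, 2, 3, 4, 0, 1, 2, 3, 8, 9, 6, 5, 2, 3, 4, 1, 2, 3, 8, 7, 6, 5, 4, 3, 2, 1], 0)),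
  (12769, 1, ([8, 9, 3, 8, 4, 5, 3, 4, 1, 2, 3, 8, 9, 2, 3, 4, 1, 2, 3, 8, 7, 6, 5, 4, 3, 2, 1], 0)),
  (10481, 501, ([1, 2, 3, 8, 6, 4, 5, 3, 4, 1, 2, 3, 8, 9, 8, 6, 4, 5, 2, 3, 4, 1, 2, 3, 8, 7, 6, 5, 4, 3, 2, 1], 0)),
  (14292, 501, ([0, 1, 2, 3, 8, 4, 5, 3, 4, 1, 2, 3, 8, 9, 5, 3, 4, 1, 2, 3, 8, 7, 6, 5, 4, 3, 2, 1], 0)),
  (13411, 1, ([9, 4, 2, 3, 8, 7, 6, 4, 5, 2, 3, 4, 1, 2, 3, 8, 9, 6, 5, 4, 1, 2, 3, 8, 7, 6, 5, 4, 3, 2, 1], 0)),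
  (10490, 1, ([3, 4, 2, 3, 8, 5, 6, 4, 5, 3, 4, 2, 3, 8, 9, 4, 5, 3, 4, 1, 2, 3, 8, 7, 6, 5, 4, 3, 2, 1], 0)),
  (16131, 501, ([3, 8, 7, 5, 6, 4, 5, 2, 3, 4, 1, 2, 3, 8, 9, 5, 3, 4, 1, 2, 3, 8, 7, 6, 5, 4, 3, 2, 1], 0)),
  (12086, 1, ([4, 3, 8, 5, 2, 3, 4, 1, 2, 3, 8, 9, 4, 5, 2, 3, 4, 1, 2, 3, 8, 6, 5, 4, 3, 2, 1], 0)),
  (10580, 501, ([3, 4, 2, 3, 8, 6, 3, 4, 5, 2, 3, 4, 1, 2, 3, 8, 9, 6, 5, 3, 4, 1, 2, 3, 8, 7, 6, 5, 4, 3, 2, 1], 0)),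
  (10792, 1, ([8, 9, 2, 3, 8, 4, 5, 3, 4, 2, 3, 8, 9, 6, 5, 3, 4, 1, 2, 3, 8, 7, 6, 5, 4, 3, 2, 1], 0)),
  (10683, 1, ([2, 3, 8, 4, 5, 3, 4, 1, 2, 3, 8, 9, 5, 3, 4, 1, 2, 3, 8, 7, 6, 5, 4, 3, 2, 1], 0)),
  (10684, 1, ([9, 3, 8, 4, 5, 3, 4, 1, 2, 3, 8, 9, 5, 3, 4, 1, 2, 3, 8, 7, 6, 5, 4, 3, 2, 1], 0)),
  (10688, 1, ([7, 6, 4, 5, 2, 3, 4, 1, 2, 3, 8, 9, 4, 5, 3, 4, 1, 2, 3, 8, 6, 5, 4, 3, 2, 1], 0)),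
  (10691, 1, ([3, 8, 6, 5, 2, 3, 4, 0, 1, 2, 3, 8, 9, 4, 5, 3, 4, 1, 2, 3, 8, 7, 6, 5, 4, 3, 2, 1], 0)),
  (11672, 1, ([9, 3, 8, 4, 5, 3, 4, 1, 2, 3, 8, 9, 2, 3, 4, 1, 2, 3, 8, 7, 6, 5, 4, 3, 2, 1], 0)),
  (10757, 2, ([8, 9, 3, 8, 4, 5, 3, 4, 2, 3, 8, 9, 6, 5, 4, 1, 2, 3, 8, 7, 6, 5, 4, 3, 2, 1], 0)),
  (10769, 2, ([9, 3, 8, 4, 5, 2, 3, 4, 1, 2, 3, 8, 9, 6, 5, 3, 4, 1, 2, 3, 8, 7, 6, 5, 4, 3, 2, 1], 0)),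
  (10798, 501, ([4, 3, 8, 4, 5, 2, 3, 4, 0, 1, 2, 3, 8, 9, 6, 4, 5, 3, 4, 1, 2, 3, 8, 7, 6, 5, 4, 3, 2, 1], 0)),
  (10802, 501, ([5, 6, 3, 4, 5, 2, 3, 4, 0, 1, 2, 3, 8, 9, 8, 6, 5, 3, 4, 1, 2, 3, 8, 7, 6, 5, 4, 3, 2, 1], 0)),
  (10813, 1, ([3, 8, 4, 5, 1, 2, 3, 4, 0, 1, 2, 3, 8, 9, 6, 4, 5, 3, 4, 1, 2, 3, 8, 7, 6, 5, 4, 3, 2, 1], 0)),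
  (10829, 1, ([9, 2, 3, 8, 4, 5, 3, 4, 0, 1, 2, 3, 8, 9, 8, 6, 5, 3, 4, 1, 2, 3, 8, 7, 6, 5, 4, 3, 2, 1], 0)),
  (10837, 1, ([2, 3, 8, 3, 4, 5, 2, 3, 4, 1, 2, 3, 8, 9, 8, 6, 5, 3, 4, 1, 2, 3, 8, 7, 6, 5, 4, 3, 2, 1], 0)),
  (13111, 1, ([9, 4, 3, 8, 5, 2, 3, 4, 0, 1, 2, 3, 8, 9, 8, 5, 2, 3, 4, 1, 2, 3, 8, 6, 5, 4, 3, 2, 1], 0)),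
  (10852, 1, ([3, 8, 4, 5, 1, 2, 3, 4, 0, 1, 2, 3, 8, 9, 6, 5, 2, 3, 4, 1, 2, 3, 8, 7, 6, 5, 4, 3, 2, 1], 0)),
  (10876, 1, ([8, 9, 2, 3, 8, 4, 5, 3, 4, 1, 2, 3, 8, 9, 8, 6, 5, 3, 4, 1, 2, 3, 8, 7, 6, 5, 4, 3, 2, 1], 0)),
  (10882, 1, ([1, 2, 3, 8, 5, 6, 4, 5, 3, 4, 2, 3, 8, 9, 8, 6, 5, 3, 4, 1, 2, 3, 8, 7, 6, 5, 4, 3, 2, 1], 0)),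
  (10930, 1, ([3, 8, 7, 6, 5, 2, 3, 4, 1, 2, 3, 8, 9, 5, 3, 4, 1, 2, 3, 8, 6, 5, 4, 3, 2, 1], 0)),
  (10950, 501, ([9, 3, 8, 4, 5, 2, 3, 4, 1, 2, 3, 8, 9, 8, 4, 5, 3, 4, 1, 2, 3, 8, 6, 5, 4, 3, 2, 1], 0)),
  (10958, 1, ([8, 9, 1, 2, 3, 8, 4, 5, 3, 4, 2, 3, 8, 9, 8, 3, 4, 1, 2, 3, 8, 7, 6, 5, 4, 3, 2, 1], 0)),
  (10961, 1, ([3, 8, 7, 6, 4, 5, 3, 4, 1, 2, 3, 8, 9, 8, 4, 5, 3, 4, 1, 2, 3, 8, 6, 5, 4, 3, 2, 1], 0)),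
  (10966, 501, ([9, 2, 3, 8, 4, 5, 3, 4, 1, 2, 3, 8, 9, 8, 4, 5, 3, 4, 1, 2, 3, 8, 6, 5, 4, 3, 2, 1], 0)),
  (11022, 501, ([1, 2, 3, 8, 4, 5, 3, 4, 1, 2, 3, 8, 9, 4, 5, 3, 4, 1, 2, 3, 8, 7, 6, 5, 4, 3, 2, 1], 0)),
  (16400, 1, ([8, 9, 3, 8, 4, 5, 3, 4, 1, 2, 3, 8, 9, 3, 4, 5, 2, 3, 4, 1, 2, 3, 8, 6, 5, 4, 3, 2, 1], 0)),
  (11067, 1, ([3, 8, 5, 6, 4, 5, 2, 3, 4, 1, 2, 3, 8, 9, 8, 4, 5, 3, 4, 1, 2, 3, 8, 7, 6, 5, 4, 3, 2, 1], 0)),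
  (11088, 501, ([3, 8, 7, 5, 6, 4, 5, 3, 4, 1, 2, 3, 8, 9, 8, 4, 5, 3, 4, 1, 2, 3, 8, 7, 6, 5, 4, 3, 2, 1], 0)),
  (11769, 2, ([3, 8, 4, 5, 3, 4, 0, 1, 2, 3, 8, 9, 2, 3, 4, 1, 2, 3, 8, 6, 5, 4, 3, 2, 1], 0)),
  (11110, 1, ([8, 9, 3, 8, 5, 6, 4, 5, 3, 4, 2, 3, 8, 9, 8, 4, 5, 3, 4, 1, 2, 3, 8, 7, 6, 5, 4, 3, 2, 1], 0)),
  (11118, 1, ([8, 9, 1, 2, 3, 8, 4, 5, 3, 4, 2, 3, 8, 9, 8, 4, 5, 3, 4, 1, 2, 3, 8, 7, 6, 5, 4, 3, 2, 1], 0)),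
  (12239, 1, ([3, 8, 6, 4, 5, 2, 3, 4, 1, 2, 3, 8, 9, 4, 5, 2, 3, 4, 1, 2, 3, 8, 7, 6, 5, 4, 3, 2, 1], 0)),
  (11143, 1, ([3, 8, 5, 6, 4, 5, 2, 3, 4, 1, 2, 3, 8, 9, 6, 4, 5, 3, 4, 1, 2, 3, 8, 7, 6, 5, 4, 3, 2, 1], 0)),
  (11800, 500, ([7, 5, 6, 4, 5, 3, 4, 1, 2, 3, 8, 9, 5, 2, 3, 4, 1, 2, 3, 8, 7, 6, 5, 4, 3, 2, 1], 0)),
  (13993, 1, ([8, 7, 5, 6, 4, 5, 2, 3, 4, 1, 2, 3, 8, 9, 5, 3, 4, 1, 2, 3, 8, 7, 6, 5, 4, 3, 2, 1], 0)),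
  (11160, 1, ([3, 8, 7, 5, 6, 4, 5, 3, 4, 1, 2, 3, 8, 9, 6, 4, 5, 3, 4, 1, 2, 3, 8, 7, 6, 5, 4, 3, 2, 1], 0)),
  (11180, 1, ([8, 9, 3, 8, 5, 6, 4, 5, 3, 4, 2, 3, 8, 9, 6, 4, 5, 3, 4, 1, 2, 3, 8, 7, 6, 5, 4, 3, 2, 1], 0)),
  (11181, 1, ([1, 2, 3, 8, 7, 6, 4, 5, 3, 4, 2, 3, 8, 9, 6, 4, 5, 3, 4, 1, 2, 3, 8, 7, 6, 5, 4, 3, 2, 1], 0)),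
  (11216, 1, ([5, 4, 2, 3, 8, 6, 4, 5, 2, 3, 4, 1, 2, 3, 8, 9, 6, 5, 4, 1, 2, 3, 8, 7, 6, 5, 4, 3, 2, 1], 0)),
  (11219, 1, ([4, 2, 3, 8, 7, 6, 4, 5, 2, 3, 4, 1, 2, 3, 8, 9, 6, 5, 4, 1, 2, 3, 8, 7, 6, 5, 4, 3, 2, 1], 0)),
  (11222, 1, ([9, 4, 2, 3, 8, 6, 4, 5, 2, 3, 4, 1, 2, 3, 8, 9, 6, 5, 4, 1, 2, 3, 8, 7, 6, 5, 4, 3, 2, 1], 0)),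
  (11225, 1, ([5, 6, 3, 4, 5, 1, 2, 3, 4, 0, 1, 2, 3, 8, 9, 6, 5, 3, 4, 1, 2, 3, 8, 7, 6, 5, 4, 3, 2, 1], 0)),
  (18164, 1, ([3, 8, 9, 4, 3, 8, 5, 2, 3, 4, 1, 2, 3, 8, 9, 5, 2, 3, 4, 1, 2, 3, 8, 7, 6, 5, 4, 3, 2, 1], 0)),
  (11245, 1, ([2, 3, 8, 5, 6, 4, 5, 2, 3, 4, 1, 2, 3, 8, 9, 8, 6, 4, 5, 3, 4, 1, 2, 3, 8, 7, 6, 5, 4, 3, 2, 1], 0)),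
  (13576, 501, ([9, 2, 3, 8, 4, 5, 3, 4, 0, 1, 2, 3, 8, 9, 5, 3, 4, 1, 2, 3, 8, 6, 5, 4, 3, 2, 1], 0)),
  (12756, 1, ([3, 8, 3, 4, 5, 2, 3, 4, 1, 2, 3, 8, 9, 8, 5, 3, 4, 1, 2, 3, 8, 6, 5, 4, 3, 2, 1], 0)),
  (11278, 1, ([1, 2, 3, 8, 5, 6, 4, 5, 3, 4, 1, 2, 3, 8, 9, 8, 6, 4, 5, 3, 4, 1, 2, 3, 8, 7, 6, 5, 4, 3, 2, 1], 0)),
  (11290, 1, ([8, 9, 1, 2, 3, 8, 4, 5, 3, 4, 1, 2, 3, 8, 9, 8, 6, 4, 5, 3, 4, 1, 2, 3, 8, 7, 6, 5, 4, 3, 2, 1], 0)),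
  (11304, 1, ([8, 9, 1, 2, 3, 8, 6, 4, 5, 3, 4, 2, 3, 8, 9, 8, 6, 4, 5, 3, 4, 1, 2, 3, 8, 7, 6, 5, 4, 3, 2, 1], 0)),
  (11435, 1, ([9, 2, 3, 8, 6, 4, 5, 2, 3, 4, 1, 2, 3, 8, 9, 5, 4, 1, 2, 3, 8, 7, 6, 5, 4, 3, 2, 1], 0)),
  (17213, 501, ([9, 8, 5, 6, 3, 4, 5, 2, 3, 4, 1, 2, 3, 8, 9, 5, 3, 4, 1, 2, 3, 8, 7, 6, 5, 4, 3, 2, 1], 0)),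
  (11395, 1, ([9, 2, 3, 8, 4, 5, 3, 4, 0, 1, 2, 3, 8, 9, 5, 4, 1, 2, 3, 8, 6, 5, 4, 3, 2, 1], 0)),
  (11433, 1, ([9, 3, 8, 5, 6, 4, 5, 2, 3, 4, 1, 2, 3, 8, 9, 5, 4, 1, 2, 3, 8, 7, 6, 5, 4, 3, 2, 1], 0)),
  (11436, 1, ([8, 9, 3, 8, 6, 4, 5, 2, 3, 4, 1, 2, 3, 8, 9, 5, 4, 1, 2, 3, 8, 7, 6, 5, 4, 3, 2, 1], 0)),
  (11470, 1, ([9, 4, 3, 8, 5, 6, 4, 5, 2, 3, 4, 0, 1, 2, 3, 8, 9, 5, 4, 1, 2, 3, 8, 7, 6, 5, 4, 3, 2, 1], 0)),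
  (11474, 1, ([8, 9, 3, 8, 7, 6, 4, 5, 2, 3, 4, 0, 1, 2, 3, 8, 9, 5, 4, 1, 2, 3, 8, 7, 6, 5, 4, 3, 2, 1], 0)),
  (11674, 1, ([5, 6, 4, 5, 3, 4, 0, 1, 2, 3, 8, 9, 2, 3, 4, 1, 2, 3, 8, 7, 6, 5, 4, 3, 2, 1], 0)),
  (11484, 1, ([7, 6, 5, 4, 3, 8, 2, 3, 4, 1, 2, 3, 8, 9, 6, 3, 4, 5, 2, 3, 4, 1, 2, 3, 8, 7, 6, 5, 4, 3, 2, 1], 0)),
  (11500, 1, ([9, 3, 8, 5, 6, 4, 5, 3, 4, 1, 2, 3, 8, 9, 6, 5, 4, 1, 2, 3, 8, 7, 6, 5, 4, 3, 2, 1], 0)),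
  (11506, 1, ([0, 1, 2, 3, 8, 4, 5, 3, 4, 1, 2, 3, 8, 9, 6, 5, 4, 1, 2, 3, 8, 7, 6, 5, 4, 3, 2, 1], 0)),
  (11535, 1, ([9, 2, 3, 8, 7, 6, 4, 5, 3, 4, 0, 1, 2, 3, 8, 9, 6, 5, 4, 1, 2, 3, 8, 7, 6, 5, 4, 3, 2, 1], 0)),
  (12121, 1, ([0, 1, 2, 3, 8, 4, 5, 3, 4, 1, 2, 3, 8, 9, 5, 4, 1, 2, 3, 8, 7, 6, 5, 4, 3, 2, 1], 0)),
  (11544, 1, ([8, 9, 2, 3, 8, 6, 4, 5, 3, 4, 0, 1, 2, 3, 8, 9, 6, 5, 4, 1, 2, 3, 8, 7, 6, 5, 4, 3, 2, 1], 0)),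
  (11546, 1, ([9, 3, 8, 5, 6, 4, 5, 3, 4, 0, 1, 2, 3, 8, 9, 6, 5, 3, 4, 1, 2, 3, 8, 7, 6, 5, 4, 3, 2, 1], 0)),
  (15112, 501, ([2, 3, 8, 7, 6, 4, 5, 2, 3, 4, 1, 2, 3, 8, 9, 6, 5, 3, 4, 1, 2, 3, 8, 7, 6, 5, 4, 3, 2, 1], 0)),
  (11713, 2, ([1, 2, 3, 8, 7, 5, 6, 4, 5, 3, 4, 2, 3, 8, 9, 6, 5, 4, 1, 2, 3, 8, 7, 6, 5, 4, 3, 2, 1], 0)),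
  (11748, 1, ([9, 3, 8, 4, 5, 3, 4, 1, 2, 3, 8, 9, 3, 4, 1, 2, 3, 8, 7, 6, 5, 4, 3, 2, 1], 0)),
  (11771, 1, ([2, 3, 8, 4, 5, 2, 3, 4, 1, 2, 3, 8, 9, 3, 4, 1, 2, 3, 8, 6, 5, 4, 3, 2, 1], 0)),
  (11773, 1, ([2, 3, 8, 4, 5, 3, 4, 1, 2, 3, 8, 9, 2, 3, 4, 1, 2, 3, 8, 6, 5, 4, 3, 2, 1], 0)),
  (11777, 1, ([9, 8, 4, 5, 2, 3, 4, 1, 2, 3, 8, 9, 8, 5, 2, 3, 4, 1, 2, 3, 8, 6, 5, 4, 3, 2, 1], 0)),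
  (11790, 500, ([7, 6, 4, 5, 2, 3, 4, 1, 2, 3, 8, 9, 5, 2, 3, 4, 1, 2, 3, 8, 7, 6, 5, 4, 3, 2, 1], 0)),
  (11806, 1, ([9, 3, 8, 4, 5, 3, 4, 1, 2, 3, 8, 9, 5, 2, 3, 4, 1, 2, 3, 8, 7, 6, 5, 4, 3, 2, 1], 0)),
  (13061, 501, ([4, 3, 8, 4, 5, 2, 3, 4, 1, 2, 3, 8, 9, 4, 5, 3, 4, 1, 2, 3, 8, 6, 5, 4, 3, 2, 1], 0)),
  (11856, 501, ([9, 3, 8, 4, 5, 2, 3, 4, 1, 2, 3, 8, 9, 8, 5, 2, 3, 4, 1, 2, 3, 8, 7, 6, 5, 4, 3, 2, 1], 0)),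
  (11865, 1, ([8, 9, 4, 3, 8, 2, 3, 4, 1, 2, 3, 8, 9, 8, 5, 2, 3, 4, 1, 2, 3, 8, 7, 6, 5, 4, 3, 2, 1], 0)),
  (11902, 1, ([9, 8, 5, 6, 4, 5, 3, 4, 1, 2, 3, 8, 9, 6, 5, 2, 3, 4, 1, 2, 3, 8, 7, 6, 5, 4, 3, 2, 1], 0)),
  (11917, 1, ([9, 3, 8, 7, 6, 4, 5, 3, 4, 2, 3, 8, 9, 6, 5, 2, 3, 4, 1, 2, 3, 8, 7, 6, 5, 4, 3, 2, 1], 0)),
  (11923, 1, ([8, 9, 2, 3, 8, 4, 5, 3, 4, 2, 3, 8, 9, 6, 5, 2, 3, 4, 1, 2, 3, 8, 7, 6, 5, 4, 3, 2, 1], 0)),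
  (11947, 1, ([3, 8, 6, 4, 5, 2, 3, 4, 0, 1, 2, 3, 8, 9, 8, 6, 5, 2, 3, 4, 1, 2, 3, 8, 7, 6, 5, 4, 3, 2, 1], 0)),
  (11966, 501, ([2, 3, 8, 6, 4, 5, 3, 4, 0, 1, 2, 3, 8, 9, 8, 6, 5, 2, 3, 4, 1, 2, 3, 8, 7, 6, 5, 4, 3, 2, 1], 0)),
  (11968, 1, ([9, 2, 3, 8, 4, 5, 3, 4, 0, 1, 2, 3, 8, 9, 8, 6, 5, 2, 3, 4, 1, 2, 3, 8, 7, 6, 5, 4, 3, 2, 1], 0)),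
  (13067, 1, ([8, 9, 3, 8, 4, 5, 3, 4, 1, 2, 3, 8, 9, 4, 5, 3, 4, 1, 2, 3, 8, 6, 5, 4, 3, 2, 1], 0)),
  (14038, 1, ([0, 1, 2, 3, 8, 4, 5, 3, 4, 1, 2, 3, 8, 9, 6, 5, 2, 3, 4, 1, 2, 3, 8, 7, 6, 5, 4, 3, 2, 1], 0)),
  (12164, 1, ([8, 9, 3, 8, 4, 5, 3, 4, 1, 2, 3, 8, 9, 8, 4, 5, 2, 3, 4, 1, 2, 3, 8, 6, 5, 4, 3, 2, 1], 0)),
  (12176, 1, ([3, 8, 4, 5, 3, 4, 0, 1, 2, 3, 8, 9, 3, 4, 5, 2, 3, 4, 1, 2, 3, 8, 7, 6, 5, 4, 3, 2, 1], 0)),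
  (12255, 1, ([8, 7, 5, 6, 4, 5, 3, 4, 1, 2, 3, 8, 9, 4, 5, 2, 3, 4, 1, 2, 3, 8, 7, 6, 5, 4, 3, 2, 1], 0)),
  (12261, 1, ([9, 3, 8, 6, 4, 5, 3, 4, 1, 2, 3, 8, 9, 4, 5, 2, 3, 4, 1, 2, 3, 8, 7, 6, 5, 4, 3, 2, 1], 0)),
  (12300, 1, ([5, 4, 3, 8, 4, 5, 2, 3, 4, 1, 2, 3, 8, 9, 5, 2, 3, 4, 1, 2, 3, 8, 7, 6, 5, 4, 3, 2, 1], 0)),
  (12328, 501, ([1, 2, 3, 8, 5, 6, 4, 5, 3, 4, 1, 2, 3, 8, 9, 2, 3, 4, 1, 2, 3, 8, 7, 6, 5, 4, 3, 2, 1], 0)),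
  (12371, 1, ([3, 8, 7, 5, 6, 4, 5, 3, 4, 1, 2, 3, 8, 9, 4, 5, 3, 4, 1, 2, 3, 8, 7, 6, 5, 4, 3, 2, 1], 0)),
  (12375, 1, ([8, 9, 3, 8, 5, 6, 4, 5, 3, 4, 2, 3, 8, 9, 8, 4, 5, 2, 3, 4, 1, 2, 3, 8, 7, 6, 5, 4, 3, 2, 1], 0)),
  (12381, 1, ([8, 9, 3, 8, 7, 6, 4, 5, 3, 4, 1, 2, 3, 8, 9, 4, 5, 3, 4, 1, 2, 3, 8, 6, 5, 4, 3, 2, 1], 0)),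
  (15043, 1, ([8, 9, 3, 8, 3, 4, 5, 2, 3, 4, 1, 2, 3, 8, 9, 8, 5, 3, 4, 1, 2, 3, 8, 7, 6, 5, 4, 3, 2, 1], 0)),
  (12476, 501, ([9, 3, 8, 5, 6, 4, 5, 3, 4, 1, 2, 3, 8, 9, 6, 4, 5, 2, 3, 4, 1, 2, 3, 8, 7, 6, 5, 4, 3, 2, 1], 0)),
  (18494, 1, ([8, 9, 2, 3, 8, 4, 5, 3, 4, 1, 2, 3, 8, 9, 3, 4, 5, 2, 3, 4, 1, 2, 3, 8, 6, 5, 4, 3, 2, 1], 0)),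
  (15109, 1, ([2, 3, 8, 5, 6, 4, 5, 2, 3, 4, 1, 2, 3, 8, 9, 6, 5, 3, 4, 1, 2, 3, 8, 7, 6, 5, 4, 3, 2, 1], 0)),
  (14174, 1, ([8, 9, 3, 8, 5, 6, 4, 5, 3, 4, 1, 2, 3, 8, 9, 8, 6, 5, 2, 3, 4, 1, 2, 3, 8, 7, 6, 5, 4, 3, 2, 1], 0)),
  (13213, 501, ([4, 0, 1, 2, 3, 8, 4, 5, 2, 3, 4, 1, 2, 3, 8, 9, 5, 4, 1, 2, 3, 8, 7, 6, 5, 4, 3, 2, 1], 0)),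
  (12702, 501, ([3, 4, 1, 2, 3, 8, 5, 6, 4, 5, 3, 4, 2, 3, 8, 9, 6, 4, 5, 2, 3, 4, 1, 2, 3, 8, 7, 6, 5, 4, 3, 2, 1], 0)),
  (12708, 1, ([5, 3, 4, 2, 3, 8, 6, 3, 4, 5, 2, 3, 4, 1, 2, 3, 8, 9, 6, 5, 3, 4, 1, 2, 3, 8, 7, 6, 5, 4, 3, 2, 1], 0)),
  (15134, 1, ([8, 9, 2, 3, 8, 5, 6, 4, 5, 3, 4, 2, 3, 8, 9, 6, 5, 3, 4, 1, 2, 3, 8, 7, 6, 5, 4, 3, 2, 1], 0)),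
  (12723, 2, ([4, 2, 3, 8, 7, 5, 6, 4, 5, 3, 4, 2, 3, 8, 9, 6, 5, 2, 3, 4, 1, 2, 3, 8, 7, 6, 5, 4, 3, 2, 1], 0)),
  (14236, 501, ([4, 3, 8, 5, 2, 3, 4, 0, 1, 2, 3, 8, 9, 4, 5, 2, 3, 4, 1, 2, 3, 8, 6, 5, 4, 3, 2, 1], 0)),
  (12869, 1, ([8, 9, 2, 3, 8, 4, 5, 3, 4, 2, 3, 8, 9, 6, 5, 4, 1, 2, 3, 8, 7, 6, 5, 4, 3, 2, 1], 0)),
  (12889, 1, ([2, 3, 8, 5, 6, 4, 5, 3, 4, 1, 2, 3, 8, 9, 6, 5, 3, 4, 1, 2, 3, 8, 7, 6, 5, 4, 3, 2, 1], 0)),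
  (12894, 1, ([9, 2, 3, 8, 6, 4, 5, 3, 4, 1, 2, 3, 8, 9, 6, 5, 3, 4, 1, 2, 3, 8, 7, 6, 5, 4, 3, 2, 1], 0)),
  (12898, 1, ([8, 9, 2, 3, 8, 4, 5, 3, 4, 1, 2, 3, 8, 9, 6, 5, 3, 4, 1, 2, 3, 8, 7, 6, 5, 4, 3, 2, 1], 0)),
  (14010, 1, ([9, 8, 5, 6, 4, 5, 2, 3, 4, 1, 2, 3, 8, 9, 6, 5, 2, 3, 4, 1, 2, 3, 8, 7, 6, 5, 4, 3, 2, 1], 0)),
  (12993, 1, ([2, 3, 8, 4, 5, 1, 2, 3, 4, 0, 1, 2, 3, 8, 9, 6, 5, 2, 3, 4, 1, 2, 3, 8, 7, 6, 5, 4, 3, 2, 1], 0)),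
  (12995, 1, ([8, 9, 2, 3, 8, 4, 5, 2, 3, 4, 1, 2, 3, 8, 9, 8, 6, 5, 3, 4, 1, 2, 3, 8, 7, 6, 5, 4, 3, 2, 1], 0)),
  (15352, 4, ([8, 9, 3, 8, 4, 5, 2, 3, 4, 0, 1, 2, 3, 8, 9, 5, 3, 4, 1, 2, 3, 8, 6, 5, 4, 3, 2, 1], 0)),
  (15840, 1, ([9, 2, 3, 8, 5, 6, 4, 5, 3, 4, 0, 1, 2, 3, 8, 9, 5, 3, 4, 1, 2, 3, 8, 7, 6, 5, 4, 3, 2, 1], 0)),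
  (14457, 1, ([2, 3, 8, 5, 6, 4, 5, 3, 4, 1, 2, 3, 8, 9, 4, 5, 2, 3, 4, 1, 2, 3, 8, 7, 6, 5, 4, 3, 2, 1], 0)),
  (14039, 1, ([9, 1, 2, 3, 8, 4, 5, 3, 4, 1, 2, 3, 8, 9, 6, 5, 2, 3, 4, 1, 2, 3, 8, 7, 6, 5, 4, 3, 2, 1], 0)),
  (13042, 501, ([8, 9, 1, 2, 3, 8, 6, 4, 5, 3, 4, 2, 3, 8, 9, 8, 6, 5, 3, 4, 1, 2, 3, 8, 7, 6, 5, 4, 3, 2, 1], 0)),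
  (14418, 1, ([4, 3, 8, 9, 2, 3, 8, 4, 5, 3, 4, 1, 2, 3, 8, 9, 4, 1, 2, 3, 8, 7, 6, 5, 4, 3, 2, 1], 0)),
  (13096, 1, ([9, 2, 3, 8, 4, 5, 2, 3, 4, 1, 2, 3, 8, 9, 8, 4, 5, 3, 4, 1, 2, 3, 8, 6, 5, 4, 3, 2, 1], 0)),
  (13134, 1, ([3, 8, 6, 4, 5, 2, 3, 4, 0, 1, 2, 3, 8, 9, 4, 5, 3, 4, 1, 2, 3, 8, 7, 6, 5, 4, 3, 2, 1], 0)),
  (13157, 1, ([3, 8, 5, 6, 4, 5, 2, 3, 4, 1, 2, 3, 8, 9, 4, 5, 3, 4, 1, 2, 3, 8, 7, 6, 5, 4, 3, 2, 1], 0)),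
  (14344, 1, ([9, 2, 3, 8, 6, 4, 5, 3, 4, 1, 2, 3, 8, 9, 4, 5, 3, 4, 1, 2, 3, 8, 6, 5, 4, 3, 2, 1], 0)),
  (13194, 1, ([5, 4, 3, 8, 7, 6, 5, 2, 3, 4, 1, 2, 3, 8, 9, 5, 3, 4, 1, 2, 3, 8, 7, 6, 5, 4, 3, 2, 1], 0)),
  (13236, 1, ([2, 3, 8, 6, 4, 5, 2, 3, 4, 0, 1, 2, 3, 8, 9, 5, 3, 4, 1, 2, 3, 8, 7, 6, 5, 4, 3, 2, 1], 0)),
  (14044, 501, ([1, 2, 3, 8, 5, 6, 4, 5, 3, 4, 2, 3, 8, 9, 6, 5, 2, 3, 4, 1, 2, 3, 8, 7, 6, 5, 4, 3, 2, 1], 0)),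
  (13952, 1, ([4, 3, 8, 5, 1, 2, 3, 4, 0, 1, 2, 3, 8, 9, 4, 5, 2, 3, 4, 1, 2, 3, 8, 7, 6, 5, 4, 3, 2, 1], 0)),
  (16134, 1, ([9, 2, 3, 8, 6, 4, 5, 2, 3, 4, 1, 2, 3, 8, 9, 5, 3, 4, 1, 2, 3, 8, 7, 6, 5, 4, 3, 2, 1], 0)),
  (13325, 1, ([9, 3, 8, 7, 6, 4, 5, 2, 3, 4, 1, 2, 3, 8, 9, 6, 4, 5, 3, 4, 1, 2, 3, 8, 7, 6, 5, 4, 3, 2, 1], 0)),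
  (13922, 1, ([9, 3, 8, 6, 4, 5, 3, 4, 1, 2, 3, 8, 9, 5, 2, 3, 4, 1, 2, 3, 8, 7, 6, 5, 4, 3, 2, 1], 0)),
  (13992, 1, ([9, 3, 8, 5, 6, 4, 5, 3, 4, 1, 2, 3, 8, 9, 5, 3, 4, 1, 2, 3, 8, 7, 6, 5, 4, 3, 2, 1], 0)),
  (14009, 1, ([3, 8, 5, 6, 4, 5, 2, 3, 4, 1, 2, 3, 8, 9, 6, 5, 2, 3, 4, 1, 2, 3, 8, 7, 6, 5, 4, 3, 2, 1], 0)),
  (18254, 1, ([9, 4, 3, 8, 5, 6, 4, 5, 2, 3, 4, 1, 2, 3, 8, 9, 6, 5, 2, 3, 4, 1, 2, 3, 8, 7, 6, 5, 4, 3, 2, 1], 0)),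
  (15047, 1, ([2, 3, 8, 5, 6, 4, 5, 2, 3, 4, 1, 2, 3, 8, 9, 8, 5, 3, 4, 1, 2, 3, 8, 7, 6, 5, 4, 3, 2, 1], 0)),
  (19556, 1, ([8, 9, 5, 4, 3, 8, 6, 4, 5, 2, 3, 4, 1, 2, 3, 8, 9, 5, 3, 4, 1, 2, 3, 8, 6, 5, 4, 3, 2, 1], 0)),
  (13466, 1, ([3, 8, 5, 6, 4, 5, 2, 3, 4, 0, 1, 2, 3, 8, 9, 6, 5, 2, 3, 4, 1, 2, 3, 8, 7, 6, 5, 4, 3, 2, 1], 0)),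
  (13467, 1, ([9, 3, 8, 5, 6, 4, 5, 2, 3, 4, 0, 1, 2, 3, 8, 9, 6, 5, 3, 4, 1, 2, 3, 8, 7, 6, 5, 4, 3, 2, 1], 0)),
  (21715, 1, ([8, 9, 3, 8, 5, 6, 3, 4, 5, 2, 3, 4, 1, 2, 3, 8, 9, 5, 2, 3, 4, 1, 2, 3, 8, 7, 6, 5, 4, 3, 2, 1], 0)),
  (15492, 1, ([9, 3, 8, 5, 6, 4, 5, 2, 3, 4, 0, 1, 2, 3, 8, 9, 5, 3, 4, 1, 2, 3, 8, 7, 6, 5, 4, 3, 2, 1], 0)),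
  (16425, 501, ([8, 9, 3, 8, 5, 2, 3, 4, 0, 1, 2, 3, 8, 9, 4, 5, 2, 3, 4, 1, 2, 3, 8, 6, 5, 4, 3, 2, 1], 0)),
  (13568, 1, ([4, 2, 3, 8, 7, 5, 6, 4, 5, 2, 3, 4, 1, 2, 3, 8, 9, 6, 5, 4, 1, 2, 3, 8, 7, 6, 5, 4, 3, 2, 1], 0)),
  (13582, 1, ([8, 9, 3, 8, 7, 6, 4, 5, 2, 3, 4, 0, 1, 2, 3, 8, 9, 5, 4, 1, 2, 3, 8, 6, 5, 4, 3, 2, 1], 0)),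
  (16086, 501, ([2, 3, 8, 5, 6, 4, 5, 3, 4, 1, 2, 3, 8, 9, 5, 2, 3, 4, 1, 2, 3, 8, 7, 6, 5, 4, 3, 2, 1], 0)),
  (13642, 1, ([3, 4, 2, 3, 8, 5, 6, 4, 5, 2, 3, 4, 0, 1, 2, 3, 8, 9, 5, 4, 1, 2, 3, 8, 7, 6, 5, 4, 3, 2, 1], 0)),
  (15815, 1, ([8, 9, 6, 5, 4, 3, 8, 2, 3, 4, 1, 2, 3, 8, 9, 4, 5, 2, 3, 4, 1, 2, 3, 8, 6, 5, 4, 3, 2, 1], 0)),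
  (13677, 1, ([8, 9, 3, 8, 7, 6, 4, 5, 3, 4, 1, 2, 3, 8, 9, 6, 5, 4, 1, 2, 3, 8, 7, 6, 5, 4, 3, 2, 1], 0)),
  (13736, 1, ([1, 2, 3, 8, 6, 4, 5, 3, 4, 0, 1, 2, 3, 8, 9, 6, 5, 2, 3, 4, 1, 2, 3, 8, 7, 6, 5, 4, 3, 2, 1], 0)),
  (16452, 1, ([8, 9, 5, 4, 3, 8, 2, 3, 4, 1, 2, 3, 8, 9, 4, 5, 2, 3, 4, 1, 2, 3, 8, 6, 5, 4, 3, 2, 1], 0)),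
  (13833, 1, ([1, 2, 3, 8, 7, 6, 4, 5, 3, 4, 2, 3, 8, 9, 6, 5, 4, 1, 2, 3, 8, 7, 6, 5, 4, 3, 2, 1], 0)),
  (13890, 1, ([9, 4, 3, 8, 5, 2, 3, 4, 1, 2, 3, 8, 9, 8, 5, 2, 3, 4, 1, 2, 3, 8, 6, 5, 4, 3, 2, 1], 0)),
  (13891, 1, ([8, 9, 3, 8, 5, 2, 3, 4, 1, 2, 3, 8, 9, 8, 5, 2, 3, 4, 1, 2, 3, 8, 6, 5, 4, 3, 2, 1], 0)),
  (13901, 2, ([7, 5, 6, 4, 5, 2, 3, 4, 1, 2, 3, 8, 9, 5, 2, 3, 4, 1, 2, 3, 8, 7, 6, 5, 4, 3, 2, 1], 0)),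
  (14030, 1, ([2, 3, 8, 5, 6, 4, 5, 3, 4, 1, 2, 3, 8, 9, 6, 5, 2, 3, 4, 1, 2, 3, 8, 7, 6, 5, 4, 3, 2, 1], 0)),
  (14032, 1, ([9, 3, 8, 5, 6, 4, 5, 3, 4, 1, 2, 3, 8, 9, 6, 5, 2, 3, 4, 1, 2, 3, 8, 7, 6, 5, 4, 3, 2, 1], 0)),
  (14035, 1, ([1, 2, 3, 8, 6, 4, 5, 3, 4, 1, 2, 3, 8, 9, 6, 5, 2, 3, 4, 1, 2, 3, 8, 7, 6, 5, 4, 3, 2, 1], 0)),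
  (14071, 1, ([9, 6, 5, 4, 3, 8, 2, 3, 4, 0, 1, 2, 3, 8, 9, 6, 4, 5, 2, 3, 4, 1, 2, 3, 8, 7, 6, 5, 4, 3, 2, 1], 0)),
  (14132, 1, ([3, 4, 2, 3, 8, 5, 6, 4, 5, 3, 4, 1, 2, 3, 8, 9, 5, 3, 4, 1, 2, 3, 8, 7, 6, 5, 4, 3, 2, 1], 0)),
  (14166, 1, ([8, 9, 6, 5, 4, 3, 8, 2, 3, 4, 1, 2, 3, 8, 9, 8, 6, 5, 2, 3, 4, 1, 2, 3, 8, 7, 6, 5, 4, 3, 2, 1], 0)),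
  (17285, 1, ([8, 9, 1, 2, 3, 8, 6, 4, 5, 3, 4, 2, 3, 8, 9, 6, 5, 4, 1, 2, 3, 8, 7, 6, 5, 4, 3, 2, 1], 0)),
  (14182, 1, ([8, 9, 1, 2, 3, 8, 4, 5, 3, 4, 1, 2, 3, 8, 9, 8, 6, 5, 2, 3, 4, 1, 2, 3, 8, 7, 6, 5, 4, 3, 2, 1], 0)),
  (14188, 1, ([1, 2, 3, 8, 7, 5, 6, 4, 5, 3, 4, 2, 3, 8, 9, 6, 5, 3, 4, 1, 2, 3, 8, 7, 6, 5, 4, 3, 2, 1], 0)),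
  (14265, 1, ([8, 9, 4, 3, 8, 2, 3, 4, 1, 2, 3, 8, 9, 4, 5, 2, 3, 4, 1, 2, 3, 8, 6, 5, 4, 3, 2, 1], 0)),
  (14345, 501, ([8, 9, 2, 3, 8, 4, 5, 3, 4, 1, 2, 3, 8, 9, 8, 4, 5, 2, 3, 4, 1, 2, 3, 8, 6, 5, 4, 3, 2, 1], 0)),
  (14349, 1, ([3, 8, 6, 5, 2, 3, 4, 0, 1, 2, 3, 8, 9, 3, 4, 5, 2, 3, 4, 1, 2, 3, 8, 7, 6, 5, 4, 3, 2, 1], 0)),
  (14433, 1, ([9, 8, 5, 6, 4, 5, 2, 3, 4, 1, 2, 3, 8, 9, 4, 5, 2, 3, 4, 1, 2, 3, 8, 7, 6, 5, 4, 3, 2, 1], 0)),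
  (14459, 501, ([9, 3, 8, 5, 6, 4, 5, 3, 4, 1, 2, 3, 8, 9, 4, 5, 2, 3, 4, 1, 2, 3, 8, 7, 6, 5, 4, 3, 2, 1], 0)),
  (14474, 1, ([8, 9, 3, 8, 5, 6, 4, 5, 3, 4, 2, 3, 8, 9, 4, 5, 2, 3, 4, 1, 2, 3, 8, 7, 6, 5, 4, 3, 2, 1], 0)),
  (16061, 1, ([9, 8, 6, 3, 4, 5, 2, 3, 4, 1, 2, 3, 8, 9, 5, 2, 3, 4, 1, 2, 3, 8, 7, 6, 5, 4, 3, 2, 1], 0)),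
  (16067, 1, ([3, 8, 5, 6, 4, 5, 2, 3, 4, 1, 2, 3, 8, 9, 5, 2, 3, 4, 1, 2, 3, 8, 7, 6, 5, 4, 3, 2, 1], 0)),
  (14620, 1, ([8, 9, 3, 8, 7, 6, 4, 5, 3, 4, 1, 2, 3, 8, 9, 4, 5, 3, 4, 1, 2, 3, 8, 7, 6, 5, 4, 3, 2, 1], 0)),
  (17289, 1, ([4, 3, 8, 9, 2, 3, 8, 4, 5, 3, 4, 2, 3, 8, 9, 6, 5, 4, 1, 2, 3, 8, 7, 6, 5, 4, 3, 2, 1], 0)),
  (20402, 1, ([4, 3, 8, 9, 2, 3, 8, 4, 5, 3, 4, 1, 2, 3, 8, 9, 4, 5, 2, 3, 4, 1, 2, 3, 8, 6, 5, 4, 3, 2, 1], 0)),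
  (20029, 1, ([9, 4, 3, 8, 6, 3, 4, 5, 2, 3, 4, 1, 2, 3, 8, 9, 5, 2, 3, 4, 1, 2, 3, 8, 7, 6, 5, 4, 3, 2, 1], 0)),
  (17630, 501, ([8, 9, 5, 4, 2, 3, 8, 6, 4, 5, 2, 3, 4, 1, 2, 3, 8, 9, 5, 4, 1, 2, 3, 8, 7, 6, 5, 4, 3, 2, 1], 0)),
  (15890, 1, ([9, 1, 2, 3, 8, 7, 6, 4, 5, 3, 4, 1, 2, 3, 8, 9, 6, 5, 4, 1, 2, 3, 8, 7, 6, 5, 4, 3, 2, 1], 0)),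
  (14896, 1, ([9, 2, 3, 8, 3, 4, 5, 2, 3, 4, 1, 2, 3, 8, 9, 6, 5, 3, 4, 1, 2, 3, 8, 7, 6, 5, 4, 3, 2, 1], 0)),
  (16087, 1, ([9, 3, 8, 5, 6, 4, 5, 3, 4, 1, 2, 3, 8, 9, 5, 2, 3, 4, 1, 2, 3, 8, 7, 6, 5, 4, 3, 2, 1], 0)),
  (26911, 1003, ([6, 5, 4, 3, 8, 9, 8, 3, 4, 2, 3, 8, 5, 6, 4, 5, 3, 4, 1, 2, 3, 8, 9, 6, 5, 3, 4, 1, 2, 3, 8, 7, 6, 5, 4, 3, 2, 1], 0)),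
  (15108, 501, ([9, 8, 7, 5, 6, 4, 5, 2, 3, 4, 1, 2, 3, 8, 9, 6, 5, 3, 4, 1, 2, 3, 8, 7, 6, 5, 4, 3, 2, 1], 0)),
  (15121, 1, ([9, 2, 3, 8, 5, 6, 4, 5, 3, 4, 1, 2, 3, 8, 9, 6, 5, 3, 4, 1, 2, 3, 8, 7, 6, 5, 4, 3, 2, 1], 0)),
  (15122, 1, ([8, 9, 3, 8, 5, 6, 4, 5, 3, 4, 1, 2, 3, 8, 9, 6, 5, 3, 4, 1, 2, 3, 8, 7, 6, 5, 4, 3, 2, 1], 0)),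
  (15143, 1, ([4, 3, 8, 9, 2, 3, 8, 4, 5, 3, 4, 2, 3, 8, 9, 6, 5, 3, 4, 1, 2, 3, 8, 7, 6, 5, 4, 3, 2, 1], 0)),
  (17989, 1, ([9, 2, 3, 8, 5, 6, 4, 5, 3, 4, 0, 1, 2, 3, 8, 9, 5, 2, 3, 4, 1, 2, 3, 8, 7, 6, 5, 4, 3, 2, 1], 0)),
  (15185, 1, ([2, 3, 8, 4, 5, 6, 3, 4, 5, 2, 3, 4, 1, 2, 3, 8, 9, 3, 4, 1, 2, 3, 8, 7, 6, 5, 4, 3, 2, 1], 0)),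
  (15224, 2, ([8, 9, 4, 3, 8, 3, 4, 5, 2, 3, 4, 1, 2, 3, 8, 9, 8, 6, 5, 3, 4, 1, 2, 3, 8, 7, 6, 5, 4, 3, 2, 1], 0)),
  (16154, 1, ([8, 9, 6, 5, 4, 3, 8, 2, 3, 4, 1, 2, 3, 8, 9, 8, 5, 2, 3, 4, 1, 2, 3, 8, 7, 6, 5, 4, 3, 2, 1], 0))]

/-- Representatives, part 14. -/
def reps11_14 : List (ℕ × ℕ × (List ℕ × ℕ)) := [(15285, 1, ([8, 9, 1, 2, 3, 8, 6, 4, 5, 3, 4, 1, 2, 3, 8, 9, 8, 6, 5, 3, 4, 1, 2, 3, 8, 7, 6, 5, 4, 3, 2, 1], 0)),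
  (15289, 1, ([4, 3, 8, 9, 2, 3, 8, 4, 5, 3, 4, 1, 2, 3, 8, 9, 8, 6, 5, 3, 4, 1, 2, 3, 8, 7, 6, 5, 4, 3, 2, 1], 0)),
  (15357, 1, ([8, 9, 1, 2, 3, 8, 6, 4, 5, 3, 4, 2, 3, 8, 9, 4, 5, 2, 3, 4, 1, 2, 3, 8, 6, 5, 4, 3, 2, 1], 0)),
  (20017, 1, ([3, 8, 9, 4, 3, 8, 5, 2, 3, 4, 1, 2, 3, 8, 9, 5, 2, 3, 4, 1, 2, 3, 8, 6, 5, 4, 3, 2, 1], 0)),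
  (15515, 1, ([7, 6, 5, 4, 3, 8, 6, 5, 2, 3, 4, 1, 2, 3, 8, 9, 4, 5, 2, 3, 4, 1, 2, 3, 8, 7, 6, 5, 4, 3, 2, 1], 0)),
  (15540, 1, ([8, 9, 1, 2, 3, 8, 5, 6, 4, 5, 3, 4, 2, 3, 8, 9, 8, 4, 5, 3, 4, 1, 2, 3, 8, 7, 6, 5, 4, 3, 2, 1], 0)),
  (15568, 1, ([9, 3, 8, 7, 6, 3, 4, 5, 2, 3, 4, 1, 2, 3, 8, 9, 6, 4, 5, 3, 4, 1, 2, 3, 8, 7, 6, 5, 4, 3, 2, 1], 0)),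
  (20045, 1, ([5, 4, 2, 3, 8, 6, 4, 5, 2, 3, 4, 1, 2, 3, 8, 9, 5, 2, 3, 4, 1, 2, 3, 8, 7, 6, 5, 4, 3, 2, 1], 0)),
  (19331, 1, ([9, 3, 8, 7, 5, 6, 3, 4, 5, 2, 3, 4, 1, 2, 3, 8, 9, 6, 5, 3, 4, 1, 2, 3, 8, 7, 6, 5, 4, 3, 2, 1], 0)),
  (17323, 1, ([8, 9, 0, 1, 2, 3, 8, 4, 5, 3, 4, 1, 2, 3, 8, 9, 6, 5, 3, 4, 1, 2, 3, 8, 7, 6, 5, 4, 3, 2, 1], 0)),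
  (16068, 1, ([9, 8, 5, 6, 4, 5, 2, 3, 4, 1, 2, 3, 8, 9, 5, 2, 3, 4, 1, 2, 3, 8, 7, 6, 5, 4, 3, 2, 1], 0)),
  (16129, 1, ([2, 3, 8, 5, 6, 4, 5, 2, 3, 4, 1, 2, 3, 8, 9, 5, 3, 4, 1, 2, 3, 8, 7, 6, 5, 4, 3, 2, 1], 0)),
  (16130, 1, ([9, 2, 3, 8, 5, 6, 4, 5, 3, 4, 1, 2, 3, 8, 9, 5, 3, 4, 1, 2, 3, 8, 7, 6, 5, 4, 3, 2, 1], 0)),
  (16156, 2, ([7, 4, 5, 6, 3, 4, 5, 2, 3, 4, 1, 2, 3, 8, 9, 6, 5, 2, 3, 4, 1, 2, 3, 8, 7, 6, 5, 4, 3, 2, 1], 0)),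
  (16198, 1, ([1, 2, 3, 8, 5, 6, 4, 5, 3, 4, 1, 2, 3, 8, 9, 6, 5, 2, 3, 4, 1, 2, 3, 8, 7, 6, 5, 4, 3, 2, 1], 0)),
  (16208, 1, ([8, 9, 1, 2, 3, 8, 4, 5, 3, 4, 1, 2, 3, 8, 9, 6, 5, 2, 3, 4, 1, 2, 3, 8, 7, 6, 5, 4, 3, 2, 1], 0)),
  (16218, 1, ([8, 9, 1, 2, 3, 8, 6, 4, 5, 3, 4, 2, 3, 8, 9, 6, 5, 2, 3, 4, 1, 2, 3, 8, 7, 6, 5, 4, 3, 2, 1], 0)),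
  (16222, 1, ([4, 3, 8, 9, 2, 3, 8, 4, 5, 3, 4, 2, 3, 8, 9, 6, 5, 2, 3, 4, 1, 2, 3, 8, 7, 6, 5, 4, 3, 2, 1], 0)),
  (16313, 1, ([3, 4, 2, 3, 8, 5, 6, 4, 5, 3, 4, 1, 2, 3, 8, 9, 6, 5, 3, 4, 1, 2, 3, 8, 7, 6, 5, 4, 3, 2, 1], 0)),
  (16338, 1, ([8, 9, 1, 2, 3, 8, 4, 5, 2, 3, 4, 1, 2, 3, 8, 9, 8, 6, 5, 2, 3, 4, 1, 2, 3, 8, 7, 6, 5, 4, 3, 2, 1], 0)),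
  (16367, 501, ([8, 9, 2, 3, 8, 5, 6, 4, 5, 3, 4, 1, 2, 3, 8, 9, 8, 6, 5, 2, 3, 4, 1, 2, 3, 8, 7, 6, 5, 4, 3, 2, 1], 0)),
  (16384, 1, ([8, 9, 1, 2, 3, 8, 5, 6, 4, 5, 3, 4, 2, 3, 8, 9, 8, 6, 5, 2, 3, 4, 1, 2, 3, 8, 7, 6, 5, 4, 3, 2, 1], 0)),
  (16606, 1, ([9, 8, 5, 6, 3, 4, 5, 2, 3, 4, 1, 2, 3, 8, 9, 4, 5, 2, 3, 4, 1, 2, 3, 8, 7, 6, 5, 4, 3, 2, 1], 0)),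
  (16645, 501, ([3, 8, 9, 4, 3, 8, 5, 2, 3, 4, 1, 2, 3, 8, 9, 4, 5, 2, 3, 4, 1, 2, 3, 8, 7, 6, 5, 4, 3, 2, 1], 0)),
  (16652, 1, ([9, 2, 3, 8, 5, 6, 4, 5, 3, 4, 1, 2, 3, 8, 9, 4, 5, 2, 3, 4, 1, 2, 3, 8, 7, 6, 5, 4, 3, 2, 1], 0)),
  (16845, 1, ([8, 9, 3, 8, 6, 5, 2, 3, 4, 0, 1, 2, 3, 8, 9, 6, 3, 4, 5, 2, 3, 4, 1, 2, 3, 8, 7, 6, 5, 4, 3, 2, 1], 0)),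
  (25718, 1002, ([8, 9, 2, 3, 4, 1, 2, 3, 8, 4, 5, 6, 3, 4, 5, 2, 3, 4, 1, 2, 3, 8, 9, 5, 3, 4, 1, 2, 3, 8, 7, 6, 5, 4, 3, 2, 1], 0)),
  (20259, 1, ([8, 9, 8, 3, 4, 2, 3, 8, 5, 6, 4, 5, 3, 4, 1, 2, 3, 8, 9, 5, 3, 4, 1, 2, 3, 8, 7, 6, 5, 4, 3, 2, 1], 0)),
  (18286, 1, ([8, 9, 1, 2, 3, 8, 6, 4, 5, 3, 4, 1, 2, 3, 8, 9, 6, 5, 2, 3, 4, 1, 2, 3, 8, 7, 6, 5, 4, 3, 2, 1], 0)),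
  (17466, 1, ([3, 8, 7, 5, 6, 4, 5, 1, 2, 3, 4, 0, 1, 2, 3, 8, 9, 6, 5, 2, 3, 4, 1, 2, 3, 8, 7, 6, 5, 4, 3, 2, 1], 0)),
  (17497, 501, ([3, 8, 9, 2, 3, 8, 5, 6, 4, 5, 3, 4, 1, 2, 3, 8, 9, 8, 6, 5, 3, 4, 1, 2, 3, 8, 7, 6, 5, 4, 3, 2, 1], 0)),
  (17545, 1, ([8, 9, 4, 3, 8, 5, 1, 2, 3, 4, 0, 1, 2, 3, 8, 9, 4, 5, 2, 3, 4, 1, 2, 3, 8, 6, 5, 4, 3, 2, 1], 0)),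
  (17547, 1, ([8, 9, 5, 4, 3, 8, 5, 2, 3, 4, 0, 1, 2, 3, 8, 9, 4, 5, 2, 3, 4, 1, 2, 3, 8, 6, 5, 4, 3, 2, 1], 0)),
  (20062, 1, ([9, 3, 8, 5, 6, 4, 5, 1, 2, 3, 4, 0, 1, 2, 3, 8, 9, 8, 5, 2, 3, 4, 1, 2, 3, 8, 7, 6, 5, 4, 3, 2, 1], 0)),
  (18131, 1, ([8, 9, 5, 4, 3, 8, 5, 2, 3, 4, 1, 2, 3, 8, 9, 8, 5, 2, 3, 4, 1, 2, 3, 8, 6, 5, 4, 3, 2, 1], 0)),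
  (18143, 1, ([2, 3, 8, 5, 6, 4, 5, 2, 3, 4, 1, 2, 3, 8, 9, 5, 2, 3, 4, 1, 2, 3, 8, 7, 6, 5, 4, 3, 2, 1], 0)),
  (18232, 1, ([9, 8, 7, 5, 6, 3, 4, 5, 2, 3, 4, 1, 2, 3, 8, 9, 6, 5, 2, 3, 4, 1, 2, 3, 8, 7, 6, 5, 4, 3, 2, 1], 0)),
  (18528, 1, ([8, 9, 5, 4, 3, 8, 5, 2, 3, 4, 1, 2, 3, 8, 9, 4, 5, 2, 3, 4, 1, 2, 3, 8, 6, 5, 4, 3, 2, 1], 0)),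
  (18801, 1, ([3, 8, 7, 5, 6, 4, 5, 1, 2, 3, 4, 0, 1, 2, 3, 8, 9, 5, 2, 3, 4, 1, 2, 3, 8, 7, 6, 5, 4, 3, 2, 1], 0)),
  (20355, 1, ([3, 8, 9, 4, 2, 3, 8, 5, 6, 4, 5, 3, 4, 1, 2, 3, 8, 9, 6, 5, 3, 4, 1, 2, 3, 8, 7, 6, 5, 4, 3, 2, 1], 0)),
  (19209, 1, ([2, 3, 8, 9, 4, 3, 8, 6, 5, 2, 3, 4, 0, 1, 2, 3, 8, 9, 6, 5, 2, 3, 4, 1, 2, 3, 8, 7, 6, 5, 4, 3, 2, 1], 0)),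
  (19261, 1, ([5, 3, 4, 2, 3, 8, 5, 6, 3, 4, 5, 2, 3, 4, 1, 2, 3, 8, 9, 6, 5, 3, 4, 1, 2, 3, 8, 7, 6, 5, 4, 3, 2, 1], 0)),
  (19289, 2, ([8, 9, 3, 8, 5, 6, 3, 4, 5, 2, 3, 4, 1, 2, 3, 8, 9, 8, 5, 3, 4, 1, 2, 3, 8, 7, 6, 5, 4, 3, 2, 1], 0)),
  (19352, 2, ([8, 9, 1, 2, 3, 8, 5, 6, 4, 5, 3, 4, 1, 2, 3, 8, 9, 6, 5, 3, 4, 1, 2, 3, 8, 7, 6, 5, 4, 3, 2, 1], 0)),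
  (19353, 1, ([3, 8, 9, 2, 3, 8, 5, 6, 4, 5, 3, 4, 1, 2, 3, 8, 9, 6, 5, 3, 4, 1, 2, 3, 8, 7, 6, 5, 4, 3, 2, 1], 0)),
  (19540, 501, ([3, 8, 9, 4, 2, 3, 8, 5, 6, 4, 5, 3, 4, 1, 2, 3, 8, 9, 8, 6, 5, 3, 4, 1, 2, 3, 8, 7, 6, 5, 4, 3, 2, 1], 0)),
  (21164, 1, ([3, 8, 9, 1, 2, 3, 8, 5, 6, 4, 5, 3, 4, 1, 2, 3, 8, 9, 6, 5, 3, 4, 1, 2, 3, 8, 7, 6, 5, 4, 3, 2, 1], 0)),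
  (21154, 1, ([8, 9, 1, 2, 3, 8, 5, 6, 4, 5, 2, 3, 4, 1, 2, 3, 8, 9, 6, 5, 3, 4, 1, 2, 3, 8, 7, 6, 5, 4, 3, 2, 1], 0)),
  (19891, 1, ([4, 2, 3, 8, 7, 5, 6, 4, 5, 2, 3, 4, 0, 1, 2, 3, 8, 9, 6, 5, 2, 3, 4, 1, 2, 3, 8, 7, 6, 5, 4, 3, 2, 1], 0)),
  (20204, 1, ([2, 3, 8, 9, 1, 2, 3, 8, 6, 4, 5, 3, 4, 1, 2, 3, 8, 9, 6, 5, 3, 4, 1, 2, 3, 8, 7, 6, 5, 4, 3, 2, 1], 0)),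
  (20288, 1, ([5, 3, 4, 2, 3, 8, 5, 6, 4, 5, 2, 3, 4, 1, 2, 3, 8, 9, 5, 2, 3, 4, 1, 2, 3, 8, 7, 6, 5, 4, 3, 2, 1], 0)),
  (21106, 501, ([8, 9, 3, 8, 5, 6, 3, 4, 5, 2, 3, 4, 1, 2, 3, 8, 9, 5, 3, 4, 1, 2, 3, 8, 7, 6, 5, 4, 3, 2, 1], 0)),
  (21462, 2, ([8, 9, 3, 8, 7, 5, 6, 4, 5, 2, 3, 4, 0, 1, 2, 3, 8, 9, 5, 2, 3, 4, 1, 2, 3, 8, 7, 6, 5, 4, 3, 2, 1], 0)),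
  (21465, 1, ([3, 8, 9, 5, 4, 3, 8, 6, 5, 1, 2, 3, 4, 0, 1, 2, 3, 8, 9, 4, 5, 2, 3, 4, 1, 2, 3, 8, 7, 6, 5, 4, 3, 2, 1], 0)),
  (22181, 1, ([3, 8, 9, 6, 5, 4, 2, 3, 8, 4, 5, 2, 3, 4, 1, 2, 3, 8, 9, 4, 5, 3, 4, 1, 2, 3, 8, 7, 6, 5, 4, 3, 2, 1], 0)),
  (23975, 2, ([3, 8, 9, 4, 3, 8, 5, 6, 3, 4, 5, 2, 3, 4, 1, 2, 3, 8, 9, 5, 3, 4, 1, 2, 3, 8, 7, 6, 5, 4, 3, 2, 1], 0)),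
  (21748, 1, ([8, 9, 2, 3, 8, 5, 6, 3, 4, 5, 2, 3, 4, 1, 2, 3, 8, 9, 5, 3, 4, 1, 2, 3, 8, 7, 6, 5, 4, 3, 2, 1], 0)),
  (22027, 1, ([3, 8, 9, 4, 1, 2, 3, 8, 5, 6, 4, 5, 3, 4, 1, 2, 3, 8, 9, 6, 5, 3, 4, 1, 2, 3, 8, 7, 6, 5, 4, 3, 2, 1], 0)),
  (22037, 501, ([4, 3, 8, 9, 2, 3, 8, 7, 5, 6, 4, 5, 3, 4, 1, 2, 3, 8, 9, 6, 5, 3, 4, 1, 2, 3, 8, 7, 6, 5, 4, 3, 2, 1], 0)),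
  (22386, 1, ([3, 8, 9, 4, 3, 8, 5, 6, 3, 4, 5, 2, 3, 4, 1, 2, 3, 8, 9, 6, 4, 5, 2, 3, 4, 1, 2, 3, 8, 7, 6, 5, 4, 3, 2, 1], 0)),
  (22426, 1, ([3, 8, 9, 6, 5, 4, 2, 3, 8, 6, 4, 5, 2, 3, 4, 1, 2, 3, 8, 9, 6, 4, 5, 3, 4, 1, 2, 3, 8, 7, 6, 5, 4, 3, 2, 1], 0)),
  (22690, 501, ([3, 8, 9, 4, 3, 8, 5, 6, 3, 4, 5, 2, 3, 4, 1, 2, 3, 8, 9, 8, 5, 3, 4, 1, 2, 3, 8, 7, 6, 5, 4, 3, 2, 1], 0)),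
  (23172, 1, ([8, 9, 0, 1, 2, 3, 8, 6, 4, 5, 2, 3, 4, 1, 2, 3, 8, 9, 5, 2, 3, 4, 1, 2, 3, 8, 7, 6, 5, 4, 3, 2, 1], 0)),
  (22960, 2, ([3, 8, 9, 4, 2, 3, 8, 5, 6, 4, 5, 2, 3, 4, 0, 1, 2, 3, 8, 9, 5, 3, 4, 1, 2, 3, 8, 7, 6, 5, 4, 3, 2, 1], 0)),
  (22987, 1, ([2, 3, 8, 9, 4, 3, 8, 5, 6, 3, 4, 5, 2, 3, 4, 1, 2, 3, 8, 9, 6, 4, 5, 3, 4, 1, 2, 3, 8, 7, 6, 5, 4, 3, 2, 1], 0)),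
  (23536, 1, ([3, 8, 9, 6, 5, 4, 2, 3, 8, 6, 4, 5, 2, 3, 4, 1, 2, 3, 8, 9, 4, 5, 3, 4, 1, 2, 3, 8, 7, 6, 5, 4, 3, 2, 1], 0)),
  (23227, 1, ([3, 8, 9, 2, 3, 8, 7, 6, 3, 4, 5, 2, 3, 4, 1, 2, 3, 8, 9, 6, 5, 2, 3, 4, 1, 2, 3, 8, 7, 6, 5, 4, 3, 2, 1], 0)),
  (24716, 1, ([3, 8, 9, 6, 5, 4, 2, 3, 8, 5, 6, 4, 5, 2, 3, 4, 1, 2, 3, 8, 9, 4, 5, 3, 4, 1, 2, 3, 8, 7, 6, 5, 4, 3, 2, 1], 0)),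
  (23438, 2, ([4, 3, 8, 9, 4, 1, 2, 3, 8, 5, 6, 4, 5, 3, 4, 1, 2, 3, 8, 9, 6, 5, 3, 4, 1, 2, 3, 8, 7, 6, 5, 4, 3, 2, 1], 0)),
  (23638, 1, ([2, 3, 8, 9, 4, 1, 2, 3, 8, 5, 6, 4, 5, 2, 3, 4, 1, 2, 3, 8, 9, 5, 3, 4, 1, 2, 3, 8, 7, 6, 5, 4, 3, 2, 1], 0)),
  (23784, 1, ([2, 3, 8, 9, 6, 5, 4, 2, 3, 8, 5, 6, 4, 5, 2, 3, 4, 1, 2, 3, 8, 9, 6, 5, 3, 4, 1, 2, 3, 8, 7, 6, 5, 4, 3, 2, 1], 0)),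
  (24073, 2, ([8, 9, 4, 1, 2, 3, 8, 7, 5, 6, 3, 4, 5, 2, 3, 4, 1, 2, 3, 8, 9, 8, 6, 5, 3, 4, 1, 2, 3, 8, 7, 6, 5, 4, 3, 2, 1], 0)),
  (24423, 1, ([2, 3, 8, 9, 4, 3, 8, 7, 5, 6, 4, 5, 2, 3, 4, 1, 2, 3, 8, 9, 5, 3, 4, 1, 2, 3, 8, 7, 6, 5, 4, 3, 2, 1], 0)),
  (25580, 1, ([1, 2, 3, 8, 9, 4, 3, 8, 5, 6, 4, 5, 2, 3, 4, 0, 1, 2, 3, 8, 9, 8, 5, 2, 3, 4, 1, 2, 3, 8, 7, 6, 5, 4, 3, 2, 1], 0)),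
  (25573, 1, ([2, 3, 8, 9, 4, 2, 3, 8, 5, 6, 4, 5, 2, 3, 4, 1, 2, 3, 8, 9, 5, 2, 3, 4, 1, 2, 3, 8, 7, 6, 5, 4, 3, 2, 1], 0)),
  (25211, 2, ([2, 3, 8, 9, 4, 1, 2, 3, 8, 5, 6, 3, 4, 5, 2, 3, 4, 1, 2, 3, 8, 9, 6, 5, 2, 3, 4, 1, 2, 3, 8, 7, 6, 5, 4, 3, 2, 1], 0)),
  (25367, 2, ([2, 3, 8, 9, 5, 4, 3, 8, 6, 7, 5, 6, 4, 5, 2, 3, 4, 1, 2, 3, 8, 9, 4, 5, 2, 3, 4, 1, 2, 3, 8, 7, 6, 5, 4, 3, 2, 1], 0)),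
  (26763, 1, ([1, 2, 3, 8, 9, 4, 2, 3, 8, 5, 6, 3, 4, 5, 2, 3, 4, 1, 2, 3, 8, 9, 5, 3, 4, 1, 2, 3, 8, 7, 6, 5, 4, 3, 2, 1], 0)),
  (26351, 2, ([2, 3, 8, 9, 4, 2, 3, 8, 5, 6, 4, 5, 1, 2, 3, 4, 0, 1, 2, 3, 8, 9, 5, 2, 3, 4, 1, 2, 3, 8, 7, 6, 5, 4, 3, 2, 1], 0))]

/-- The marked points. -/
def mask11 : ℕ := 0x7ffffffffffffffffffffffffffffffffffffffffffffffffffffffffffffffffffffffffffffffffffffffffffffffffffffffffffffffffffffffffffffffffffffffffffffffffffffffffffffffffffffffffffffffffffffffffffffffffffffffffffffffffffffffffffffffffffffffffffffffffffffffffffffffffffffffffffffffffffffffffffffffffffffffffffffffffffffffffffffffffffffffffffffffffffffffffffffff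ffffffffffffffffffffffffffffffffffffffffffffffffffffffffffffffffffffffffffffffffffffffffffffffffffffffffffffffffffffffffffffffffffffffffffffffffffffffffffffffffffffffffffffffffffffffffffffffffffffffffffffffffffffffffffffffffffffffffffffffffffffffffffffffffffffffffffffffffffffffffffffffffffffffffffffffffffffffffffffffffffffffffffffffffffffffffffffffffffffffffffffffffffffffffffffffffffffffffffffffffffffffffffffffffffffffffffffffffffffffffffffffffffffffffffffffffffffffffffffffffffffffffffffffffffffffffffffffffffffffffffffffffffffffffffffffffffffffffffffffffffffffffffffffffffffffffffffffffffffffffffffffffffffffffffffffffffffffffffffffffffffffffffffffffffff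ffffffffffffffffffffffffffffffffffffffffffffffffffffffffffffffffffffffffffffffffffffffffffffffffffffffffffffffffffffffffffffffffffffffffffffffffffffffffffffffffffffffffffffffffffffffffffffffffffffffffffffffffffffffffffffffffffffffffffffffffffffffffffffffffffffffffffffffffffffffffffffffffffffffffffffffffffffffffffffffffffffffffffffffffffffffffffffffffffffffffffffffffffffffffffffffffffffffffffffffffffffffffffffffffffffffffffffffffffffffffffffffffffffffffffffffffffffffffffffffffffffffffffffffffffffffffffffffffffffffffffffffffffffffffffffffffffffffffffffffffffffffffffffffffffffffffffffffffffffffffffffffffffffffffffffffffffffffffffffdfffffffffffffffffffffff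ffffffffffffffffffffffffffffffffffffffffffffffffffffffffffffffffffffffffffffffffffffffffffffffffffffffffffffffffffffffffffffffffffffffffffffffffffffffffffffffffffffffffffffffffffffffffffffffffffffffffffffffffffffffffffffffffffffffffffffffffffffffffffffffffffffffffffffffffffffffffffffffffffffffffffffffffffffffffffffffffffffffffffffffffffffffffffffffffffffffffffffffffffffffffffffffffffffffffffffffffffffffffffffffffffffffffffffffffffffffffffffffffffffffffffffffffffffffffffffffffffffffffffffffffffffffffffffffffffffffffffffffffffffffffffffffffffffffffffffffffffffffffffffffffffffffffffffffffffffffffffffffffffffffffffffffffffffffffffffffffffffffffffffffffffff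ffffffffffffffffffffffffffffffffffffffffffffffffffffffffffffffffffffffffffffffffffffffffffffffffffffffffffffffffffffffffffffffffffffffffffffffffffffffffffffffffffffffffffffffffffffffffffffffffffffffffffffffffffffffffffffffffffffffffffffffffffffffffffffffffffffffffffffffffffffffffffffffffffffffffffffffffffffffffffffffffffffffffffffffffffffffffffffffffffffffffffffffffffffffffffffffffffffffffffffffffffffffffffffffffffffffffffffffffffffffffffffffffffffffffffffffffffffffffffffffffffffffffffffffffffffffffffffffffffffffffffffffffffffffffffffffffffffffffffffffffffffffffffffffffffffffffffffffffffffffffffffffffffffffffffffffffffffffffffffffffffffffffffffffffffff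ffffffffffffffffffffffffffffffffffffffffffffffffffffffffffffffffffffffffffffffffffffffffffffffffffffffffffffffffffffffffffffffffffffffffffffffffffffffffffffffffffffffffffffffffffffffffffffffffffffffffffffffffffffffffffffffffffffffffffffffffffffffffffffffffffffffffffffffffffffffffffffffffffffffffffffffffffffffffffffffffffffffffffffffffffffffffffffffffffffffffffffffffffffffffffffffffffffffffffffffffffffffffffffffffffffffffffffffffffffffffffffffffffffffffffffffffffffffffffffffffffffffffffffffffffffffffffffffffffffffffffffffffffffffffffffffffffffffffffffffffffffffffffffffffffffffffffffffffffffffffffffffffffffffffffffffffffffffffffffffffffffffffffffffffffff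ffffffffffffffffffffffffffffffffffffffffffffffffffffffffffffffffffffffffffffffffffffffffffffffffffffffffffffffffffffffffffffffffffffffffffffffffffffffffffffffffffffffffffffffffffffffffffffffffffffffffffffffffffffffffffffffffffffffffffffffffffffffffffffffffffffffffffffffffffffffffffffffffffffffffffffffffffffffffffffffffffffffffffffffffffffffffffffffffffffffffffffffffffffffffffffffffffffffffffffffffffffffffffffffffffffffffffffffffffffffffffffffffffffffffffffffffffffffffffffffffffffffffffffffffffffffffffffffffffffffffffffffffffffffffffffffffffffffffffffffffffffffffffffffffffffffffffffffffffffffffffffffffffffffffffffffffffffffffffffffffffffffffffffffffffff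ffffffffffffffffffffffffffffffffffffffffffffffffffffffffffffffffffffffffffffffffffffffffffffffffffffffffffffffffffffffffffffffffffffffffffffffffffffffffffffffffffffffffffffffffffffffffffffffffffffffffffffffffffffffffffffffffffffffffffffffffffffffffffffffffffffffffffffffffffffffffffffffffffffffffffffffffffffffffffffffffffffffffffffffffffffffffffffffffffffffffffffffffffffffffffffffffffffffffffffffffffffffffffffffffffffffffffffffffffffffffffffffffffffffffffffffffffffffffffffffffffffffffffffffffffffffffffffffffffffffffffffffffffffffffffffffffffffffffffffffffffffffffffffffffffffffffffffffffffffffffffffffffffffffffffffffffffffffffffffffffffffffffffffffffffff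ffffffffffffffffffffffffffffffffffffffffffffffffffffffffffffffffffffffffffffffffffffffffffffffffffffffffffffffffffffffffffffffffffffffffffffffffffffffffffffffffffffffffffffffffffffffffffffffffffffffffffffffffffffffffffffffffffffffffffffffffffffffffffffffffffffffffffffffffffffffffffffffffffffffffffffffffffffffffffffffffffffffffffffffffffffffffffffffffffffffffffffffffffffffffffffffffffffffffffffffffffffffffffffffffffffffffffffffffffffffffffffffffffffffffffffffffffffffffffffffffffffffffffffffffffffffffffffffffffffffffffffffffffffffffffffffffffffffffffffffffffffffffffffffffffffffffffffffffffffffffffffffffffffffffffffffffffffffffffffffffffffffffffffffffffff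ffffffffffffffffffffffffffffffffffffffffffffffffffffffffffffffffffffffffffffffffffffffffffffffffffffffffffffffffffffffffffffffffffffffffffffffffffffffffffffffffffffffffffffffffffffffffffffffffffffffffffffffffffffffffffffffffffffffffffffffffffffffffffffffffffffffffffffffffffffffffffffffffffffffffffffffffffffffffffffffffffffffffffffffffffffffffffffffffffffffffffffffffffffffffffffffffffffffffffffffffffffffffffffffffffffffffffffffffffffffffffffffffffffffffffffffffffffffffffffffffffffffffffffffffffffffffffffffffffffffffffffffffffffffffffffffffffffffffffffffffffffffffffffffffffffffffffffffffffffffffffffffffffffffffffffffffffffffffffffffffffffffffffffffff7fff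ffffffffffffffffffffffffffffffffffffffffffffffffffffffffffffffffffffffffffffffffffffffffffffffffffffffffffffffffffffffffffffffffffffffffffffffffffffffffffffffffffffffffffffffffffffffffffffffffffffffffffffffffffffffffffffffffffffffffffffffffffffffffffffffffffffffffffffffffffffffffffffffffffffffffffffffffffffffffffffffffffffffffffffffffffffffffffffffffffffffffffffffffffffffffffffffffffffffffffffffffffffffffffffffffffffffffffffffffffffffffffffffffffffffffffffffffffffffffffffffffffffffffffffffffffffffffffffffffffffffffffffffffffffffffffffffffffffffffffffffffffffffffffffffffffffffffffffffffffffffffffffffffffffffffffffffffffffffffffffffffffffffffffffffffffff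fffffffffffffffffffffffffffffffffffffffffffffffffffffffffffffffffffffffffffffffffffffffffffffffffffffffffffffffffffffffffffffffffffffffffffffffffffffffffffffffffffffffffffffffffffffffffffffffffffffffffffffffffffffffffffffffffffffffffffffffffffffffffffffffffffffffffffffffffffffffffffffffffffffffffffffffffffffffffffffffffffffffffffffffffffffffffffffffffffffffffffffffffffffffffffffffffffffffffffffffffffffffffffffffffffffffffffffffffffffffffffffffffffffffffffffffffffffffffffffffffffffffffffffffffffffffffffffffffffffffffffffffffffffffffffffffffffffffffffffffffffffffffffffffffffffffffffffffffffffffffffffffffffffffffffffffffffffffffffffffffffffffffffffffffffffffffffffffffffffffffffffffffffffffffffffffffffffffffffffffffffffffffffffffffffffffffffffffffffffffffffffffffffffffffffffffffffffffffffffffffffffffffffffffffffffffffffffffffffffffffffffffffffffffffffffffffffffffffffffffffffffffffffffffffffffffffffffffffffffffffffffffffffffffffffffffffffffffffffffffffffffff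

/-- The certificate. -/
def cert11 : Cert where
  p := 11
  w := [9, 0, 3, 8, 7, 8, 1, 2, 3, 7, 8, 4, 3, 7, 5, 2, 4, 6, 1, 5, 1, 3, 6, 8, 4]
  fix := [6523, 25081]
  fixHalf := [([4], 3), ([3, 8, 9, 8, 5, 3, 4, 2, 3, 8, 5, 6, 4, 5, 2, 3, 4, 1, 2, 3, 8, 9, 8, 6, 4, 5, 2, 3, 4, 1, 2, 3, 8, 7, 6, 5, 4, 3, 2, 1], 0)]
  s := 643
  sHalf := ([1, 2, 3, 8, 9, 8, 6, 5, 3, 4, 2, 3, 8, 7, 6, 5, 4, 3, 2], 1)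
  orb := [643, 12961, 20711, 15096, 1447, 4964, 6537, 8002, 8003, 1722, 1330]
  prof := [true, true, true, true, true, false, false, true, true, true, true]
  sigOrd := []
  sig := [false, false]
  al := [[], [4, 3, 4], [3, 8, 9, 8, 5, 3, 4, 2, 3, 8, 5, 6, 4, 5, 2, 3, 4, 1, 2, 3, 8, 9, 8, 6, 4, 5, 2, 3, 4, 1, 2, 3, 8, 7, 6, 5, 4, 3, 2, 1, 0, 1, 2, 3, 4, 5, 6, 7, 8, 3, 2, 1, 4, 3, 2, 5, 4, 6, 8, 9, 8, 3, 2, 1, 4, 3, 2, 5, 4, 6, 5, 8, 3, 2, 4, 3, 5, 8, 9, 8, 3], [3, 8, 9, 8, 5, 3, 4, 2, 3, 8, 5, 6, 4, 5, 2, 3, 4, 1, 2, 3, 8, 9, 8, 6, 4, 5, 2, 3, 4, 1, 2, 3, 8, 7, 6, 5, 4, 3, 2, 1, 0, 1, 2, 3, 4, 5, 6, 7, 8, 3, 2, 1, 4, 3, 2, 5, 4, 6, 8, 9, 8, 3, 2, 1, 4,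 3, 2, 5, 4, 6, 5, 8, 3, 2, 4, 3, 5, 8, 9, 8, 3, 4, 3, 4]]
  mask := mask11
  reps := reps11_0 ++ reps11_1 ++ reps11_2 ++ reps11_3 ++ reps11_4 ++ reps11_5 ++ reps11_6 ++ reps11_7 ++ reps11_8 ++ reps11_9 ++ reps11_10 ++ reps11_11 ++ reps11_12 ++ reps11_13 ++ reps11_14
  ders := [(1277, 2, 0, ([1, 2, 3, 8, 9, 8, 6, 5, 3, 4, 2, 3, 8, 7, 6, 5, 4, 3, 2], 1)),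
    (25718, 2, 1, ([1, 2, 3, 8, 9, 8, 6, 5, 3, 4, 2, 3, 8, 7, 6, 5, 4, 3, 2], 1)),
    (15678, 3, 0, ([8, 7, 5, 6, 3, 4, 5, 2, 3, 4, 1, 2, 3, 8, 9, 8, 6, 5, 3, 4, 1, 2, 3, 8, 7, 6, 5, 4, 3, 2, 1], 0)),
    (21583, 5, 1, ([9, 0, 1, 2, 3, 8, 4, 5, 3, 4, 2, 3, 8, 9, 6, 5, 4, 1, 2, 3, 8, 7, 6, 5, 4, 3, 2, 1], 0)),
    (21529, 7, 1, ([8, 3, 2, 1], 0)),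
    (23847, 8, 1, ([9], 8)),
    (5257, 9, 0, ([], 5)),
    (23910, 9, 1, ([], 5)),
    (22307, 9, 4, ([], 5)),
    (26272, 10, 1, ([], 2)),
    (13681, 10, 5, ([], 2)),
    (886, 11, 0, ([8, 6, 5, 4, 3, 2], 1)),
    (29799, 11, 1, ([8, 6, 5, 4, 3, 2], 1)),
    (26911, 13, 1, ([3, 4, 1, 2, 3, 8, 9, 8, 6, 5, 3, 4, 2, 3, 8, 7, 6, 5, 4, 3, 2], 1)),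
    (27306, 13, 3, ([3, 4, 1, 2, 3, 8, 9, 8, 6, 5, 3, 4, 2, 3, 8, 7, 6, 5, 4, 3, 2], 1)),
    (1764, 13, 9, ([3, 4, 1, 2, 3, 8, 9, 8, 6, 5, 3, 4, 2, 3, 8, 7, 6, 5, 4, 3, 2], 1)),
    (17901, 15, 8, ([4, 3, 8, 5, 6, 3, 4, 5, 2, 3, 4, 0, 1, 2, 3, 8, 9, 6, 5, 3, 4, 1, 2, 3, 8, 7, 6, 5, 4, 3, 2, 1], 0)),
    (17842, 15, 10, ([4, 3, 8, 5, 6, 3, 4, 5, 2, 3, 4, 0, 1, 2, 3, 8, 9, 6, 5, 3, 4, 1, 2, 3, 8, 7, 6, 5, 4, 3, 2, 1], 0)),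
    (1094, 15, 12, ([4, 3, 8, 5, 6, 3, 4, 5, 2, 3, 4, 0, 1, 2, 3, 8, 9, 6, 5, 3, 4, 1, 2, 3, 8, 7, 6, 5, 4, 3, 2, 1], 0)),
    (19782, 16, 6, ([8, 9, 4, 2, 3, 8, 5, 6, 3, 4, 5, 2, 3, 4, 0, 1, 2, 3, 8, 9, 6, 5, 3, 4, 1, 2, 3, 8, 7, 6, 5, 4, 3, 2, 1], 0)),
    (15717, 16, 8, ([8, 9, 4, 2, 3, 8, 5, 6, 3, 4, 5, 2, 3, 4, 0, 1, 2, 3, 8, 9, 6, 5, 3, 4, 1, 2, 3, 8, 7, 6, 5, 4, 3, 2, 1], 0)),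
    (19840, 16, 10, ([8, 9, 4, 2, 3, 8, 5, 6, 3, 4, 5, 2, 3, 4, 0, 1, 2, 3, 8, 9, 6, 5, 3, 4, 1, 2, 3, 8, 7, 6, 5, 4, 3, 2, 1], 0)),
    (18389, 21, 14, ([3, 8, 9, 2, 3, 8, 7, 5, 6, 4, 5, 2, 3, 4, 1, 2, 3, 8, 9, 4, 5, 3, 4, 1, 2, 3, 8, 7, 6, 5, 4, 3, 2, 1], 0)),
    (11953, 22, 16, ([2, 3, 8, 9, 8, 5, 3, 4, 2, 3, 8, 5, 6, 4, 5, 2, 3, 4, 1, 2, 3, 8, 9, 8, 6, 4, 5, 2, 3, 4, 1, 2, 3, 8, 7, 6, 5, 4, 3, 2, 1], 0)),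
    (16306, 23, 19, ([9, 0, 1, 2, 3, 8, 4, 5, 3, 4, 1, 2, 3, 8, 9, 6, 5, 4, 1, 2, 3, 8, 7, 6, 5, 4, 3, 2, 1], 0)),
    (27400, 24, 22, ([4, 3, 8, 6, 5, 4, 3, 2], 1)),
    (9973, 25, 5, ([3, 4, 1, 2, 3, 8, 9, 5, 3, 4, 2, 3, 8, 5, 6, 3, 4, 5, 2, 3, 4, 1, 2, 3, 8, 9, 5, 3, 4, 1, 2, 3, 8, 7, 6, 5, 4, 3, 2, 1], 0)),
    (853, 26, 20, ([6, 5, 4, 3, 8, 9, 8, 3, 4, 2, 3, 8, 5, 6, 4, 5, 3, 4, 1, 2, 3, 8, 9, 6, 5, 3, 4, 1, 2, 3, 8, 7, 6, 5, 4, 3, 2, 1], 0)),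
    (28478, 27, 10, ([5, 3, 4, 2, 3, 8, 9, 3, 4, 2, 3, 8, 5, 6, 4, 5, 3, 4, 1, 2, 3, 8, 9, 4, 5, 3, 4, 1, 2, 3, 8, 7, 6, 5, 4, 3, 2, 1], 0)),
    (191, 27, 18, ([5, 3, 4, 2, 3, 8, 9, 3, 4, 2, 3, 8, 5, 6, 4, 5, 3, 4, 1, 2, 3, 8, 9, 4, 5, 3, 4, 1, 2, 3, 8, 7, 6, 5, 4, 3, 2, 1], 0)),
    (279, 28, 14, ([5, 3, 4, 1, 2, 3, 8, 9, 8, 6, 5, 3, 4, 2, 3, 8, 7, 6, 5, 4, 3, 2], 1)),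
    (8000, 32, 17, ([8, 9, 5, 4, 3, 8, 5, 6, 3, 4, 5, 2, 3, 4, 1, 2, 3, 8, 9, 6, 5, 3, 4, 1, 2, 3, 8, 7, 6, 5, 4, 3, 2, 1], 0)),
    (7999, 33, 30, ([4, 2, 3, 8, 5, 6, 4, 5, 2, 3, 4, 0, 1, 2, 3, 8, 9, 6, 5, 3, 4, 1, 2, 3, 8, 7, 6, 5, 4, 3, 2, 1], 0)),
    (8007, 34, 29, ([8, 9, 4, 3, 8, 5, 6, 3, 4, 5, 2, 3, 4, 0, 1, 2, 3, 8, 9, 6, 5, 3, 4, 1, 2, 3, 8, 7, 6, 5, 4, 3, 2, 1], 0)),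
    (8005, 37, 35, ([9, 4, 2, 3, 8, 3, 4, 5, 2, 3, 4, 1, 2, 3, 8, 9, 8, 6, 5, 2, 3, 4, 1, 2, 3, 8, 7, 6, 5, 4, 3, 2, 1], 0)),
    (8001, 39, 36, ([3, 8, 6, 5, 2, 3, 4, 0, 1, 2, 3, 8, 9, 8, 6, 5, 2, 3, 4, 1, 2, 3, 8, 7, 6, 5, 4, 3, 2, 1], 0)),
    (8004, 40, 31, ([5, 4, 3, 8, 9, 3, 8, 4, 5, 3, 4, 2, 3, 8, 6, 5, 4, 3, 2, 1], 0)),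
    (11589, 41, 38, ([5, 3, 4, 2, 3, 8, 9, 3, 4, 2, 3, 8, 5, 6, 4, 5, 2, 3, 4, 1, 2, 3, 8, 9, 4, 5, 3, 4, 1, 2, 3, 8, 7, 6, 5, 4, 3, 2, 1], 0)),
    (8006, 43, 42, ([8, 9, 3, 8, 4, 5, 3, 4, 2, 3, 8, 6, 5, 4, 3, 2, 1], 0))]

end CfsgLib.Sporadic.FiTransfer.Norm23
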