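import Cfsg.Agent.Lib.Sporadic.FiTransfer.Norm23.Defs

/-!
Certificate data for the normaliser of a subgroup of order 5 of Fi23.
-/

set_option autoImplicit false
set_option maxRecDepth 100000

namespace CfsgLib.Sporadic.FiTransfer.Norm23

/-- Representatives, part 0. -/
def reps5_0 : List (ℕ × ℕ × (List ℕ × ℕ)) := [(196, 1000, ([3, 4, 0, 1, 2, 3, 8, 9, 5, 4, 3, 8, 6, 5, 4, 3], 2))]

/-- The marked points. -/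
def mask5 : ℕ := 0x200000000000000000000000000000000000000000000000000000000000000001000000000000000000000000000000000000000000000004000000000000000000000000000000000800000000000000000000010000000000000000000000000000000000000000000000000

/-- The certificate. -/
def cert5 : Cert where
  p := 5
  w := [3, 4, 5, 6]
  fix := [0, 2365, 7, 1732, 10, 2155, 6, 2364, 8, 1876, 11, 52, 8004, 76, 9592, 72, 8007, 91, 106, 11589, 134]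
  fixHalf := [([7, 6, 5, 4, 3, 8, 2, 3, 4, 1, 2, 3, 8, 5, 6, 4, 5, 3, 4, 2, 3, 8, 7, 6, 5, 4, 3, 2], 1), ([7, 6, 5, 4, 3], 2), ([2, 3, 4, 1, 2, 3, 8, 5, 6, 4, 5, 3, 4, 2, 3, 8, 7, 6, 5, 4, 3, 2], 1), ([7, 6, 5, 4, 3, 2], 1), ([2, 3, 8, 4, 5, 3, 4, 2, 3, 8, 9, 6, 5, 4, 3, 8, 7, 6, 5, 4, 3], 2), ([7, 6, 5, 4, 3, 2, 1], 0), ([8, 3, 4, 1, 2, 3, 8, 5, 6, 4, 5, 3, 4, 2, 3, 8, 7, 6, 5, 4, 3, 2], 1), ([8, 7, 6, 5, 4], 3), ([8, 3, 4, 2, 3, 8, 5, 6, 4, 5, 3, 4, 2, 3, 8, 7, 6, 5, 4, 3, 2], 1), ([9, 8, 7, 6, 5, 4], 3), ([8, 3, 4, 2, 3, 8, 5, 6, 4, 5, 3, 4, 2, 3, 8, 7, 6, 5, 4, 3, 2, 1], 0), ([1, 2, 3, 8, 4, 5, 3, 4, 2, 3, 8, 6, 5, 4, 3, 2], 1), ([], 1), ([8, 3, 4, 2, 3, 8, 9, 5, 4, 3, 8, 6, 5, 4, 3], 2), ([1], 0), ([2, 3, 8, 4, 5, 3, 4, 2, 3, 8, 6, 5, 4, 3, 2], 1), ([], 9), ([2, 3, 8, 4, 5, 3, 4, 2, 3,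 8, 6, 5, 4, 3, 2, 1], 0), ([9, 2, 3, 8, 4, 5, 3, 4, 2, 3, 8, 6, 5, 4, 3, 2], 1), ([], 0), ([9, 2, 3, 8, 4, 5, 3, 4, 2, 3, 8, 6, 5, 4, 3, 2, 1], 0)]
  s := 196
  sHalf := ([3, 4, 0, 1, 2, 3, 8, 9, 5, 4, 3, 8, 6, 5, 4, 3], 2)
  orb := [196, 873, 612, 422, 287]
  prof := [true, false, false, false, false]
  sigOrd := [12, 16, 5, 13, 15, 11, 18, 10, 0, 19, 14, 1, 7, 3, 9, 17, 20, 4, 8, 2, 6]
  sig := [true, false, false, false, false, true, false, false, false, false, true, true, true, true, false, true, true, false, true, false, false]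
  al := [[]]
  mask := mask5
  reps := reps5_0
  ders := [(420, 21, 1, ([3, 4, 0, 1, 2, 3, 8, 9, 5, 4, 3, 8, 6, 5, 4, 3], 2)),
    (7999, 21, 20, ([3, 4, 0, 1, 2, 3, 8, 9, 5, 4, 3, 8, 6, 5, 4, 3], 2)),
    (92, 22, 7, ([0, 1, 2, 3, 8, 9, 4, 3, 8, 5, 4, 3], 2)),
    (8005, 23, 22, ([0, 1, 2, 3, 8, 9, 4, 3, 8, 6, 5, 4, 3], 2)),
    (8002, 24, 23, ([0, 1, 2, 3, 8, 9, 5, 4, 3, 8, 6, 5, 4, 3], 2)),
    (8000, 25, 21, ([4, 0, 1, 2, 3, 8, 9, 5, 4, 3, 8, 6, 5, 4, 3], 2)),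
    (8001, 25, 24, ([4, 0, 1, 2, 3, 8, 9, 5, 4, 3, 8, 6, 5, 4, 3], 2)),
    (190, 26, 7, ([7, 6, 5, 4, 3, 8, 9, 4, 3, 8, 5, 6, 4, 5, 3, 4, 2, 3, 8, 7, 6, 5, 4, 3, 2, 1], 0)),
    (8006, 28, 20, ([9, 2, 3, 8, 4, 5, 3, 4, 2, 3, 8, 7, 6, 5, 4, 3, 2, 1], 0)),
    (8003, 33, 20, ([9, 3, 8, 4, 5, 3, 4, 2, 3, 8, 6, 5, 4, 3, 2, 1], 0))]

end CfsgLib.Sporadic.FiTransfer.Norm23
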