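import Cfsg.Agent.Lib.Sporadic.FiTransfer.Norm23.Defs

/-!
Words of elements in normalisers of subgroups of prime order, and data for the elements inverting.
-/

set_option autoImplicit false

namespace CfsgLib.Sporadic.FiTransfer.Norm23

/-- A word that normalises the element of order five, as the second power. -/
def nW5 : List ℕ := [5, 6, 4]

/-- A word that normalises the element of order seven, as the third power. -/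
def nW7 : List ℕ := [4, 5, 7, 6, 5, 4, 3, 8, 2, 3, 4, 1, 2, 3, 8, 5, 6, 4, 5, 3, 4, 2, 3, 8, 7, 6, 5, 4, 3, 2, 1, 2, 3, 4, 5, 6, 7, 8, 3, 2, 4, 3, 5, 4, 6, 5, 8, 3, 2, 1, 4, 3, 2, 8, 3, 4, 5, 6, 7, 6, 9, 8, 4, 3, 4, 8, 9, 3]

/-- A word that normalises the element of order thirteen, as the fourth power. -/
def nW13 : List ℕ := [2, 4, 2, 3, 8, 9, 5, 4, 3, 8, 6, 5, 4, 3, 2, 3, 4, 5, 6, 8, 3, 4, 5, 9, 8, 3, 2, 1, 4, 1, 2, 3, 8, 9, 8, 5, 3, 4, 2, 3, 8, 6, 5, 4, 3, 2, 1, 2, 3, 4, 5, 6, 8, 3, 2, 4, 3, 5, 8, 9, 8, 3, 2, 1, 4, 3, 8, 4, 3, 2, 3, 4, 8, 3, 6, 5, 4, 5, 6, 9]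

/-- A word that normalises the element of order eleven, as the third power. -/
def nW11 : List ℕ := [6, 9, 6, 5, 6, 8, 9, 6, 3, 4, 5, 2, 3, 4, 1, 2, 3, 8, 7, 6, 5, 4, 3, 2, 1, 0, 1, 2, 3, 4, 5, 6, 7, 8, 3, 2, 1, 4, 3, 2, 5, 4, 3, 6, 9, 8, 4, 6, 5, 4, 2, 3, 8, 9, 1, 2, 3, 8, 7, 6, 5, 4, 3, 2, 1, 0, 1, 2, 3, 4, 5, 6, 7, 8, 3, 2, 1, 9, 8, 3, 2, 4, 5, 6, 2, 3, 8, 9, 1, 2, 3, 8, 4, 3, 2, 1, 0, 1, 2, 3, 4, 8, 3, 2, 1, 9, 8, 3, 2, 9, 8, 4, 5, 3, 4, 2, 3, 8, 9, 2, 3, 4, 1, 2, 3, 8, 7, 6, 5, 4, 3, 2, 1, 0, 1, 2, 3, 4, 5, 6, 7, 8, 3, 2, 1, 4, 3, 2, 9, 8, 3, 2, 4, 3, 5, 4, 8, 9, 4, 0, 1, 2, 3, 8, 3, 4, 5, 2, 3, 4, 1, 2, 3, 8, 9, 6, 5, 4, 1, 2, 3, 8, 7, 6, 5, 4, 3, 2, 1, 0, 1, 2, 3, 4, 5, 6, 7, 8, 3,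 2, 1, 4, 5, 6, 9, 8, 3, 2, 1, 4, 3, 2, 5, 4, 3, 8, 3, 2, 1, 0, 4]

/-- A word that inverts the element of order eleven. -/
def sW11 : List ℕ := [1, 9, 3, 2, 1, 0, 1, 2, 3, 8, 9, 3, 8, 7, 6, 5, 4, 3, 2, 1, 0, 1, 2, 3, 4, 5, 6, 7, 8, 3, 9, 8, 7, 6, 5, 4, 3, 4, 5, 6, 7, 3, 8, 9, 8, 5, 3, 4, 2, 3, 8, 6, 5, 4, 3, 2, 1, 2, 3, 4, 5, 6, 8, 3, 2, 4, 3, 5, 8, 9, 8, 3, 6, 6, 5, 4, 1, 2, 3, 8, 9, 8, 5, 3, 4, 2, 3, 8, 7, 6, 5, 4, 3, 2, 1, 0, 1, 2, 3, 4, 5, 6, 7, 8, 3, 2, 4, 3, 5, 8, 9, 8, 3, 2, 1, 4, 5, 6]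

/-- A word that normalises the element of order seventeen, as the third power. -/
def nW17 : List ℕ := [0, 1, 0, 1, 9, 2, 1, 2, 3, 8, 9, 4, 5, 6, 3, 4, 5, 2, 3, 4, 1, 2, 3, 8, 7, 6, 5, 4, 3, 2, 1, 0, 1, 2, 3, 4, 5, 6, 7, 8, 3, 2, 1, 4, 3, 2, 5, 4, 3, 6, 5, 4, 9, 8, 3, 2, 1, 9, 8, 3, 2, 1, 2, 3, 8, 9, 3, 8, 9, 5, 6, 4, 5, 3, 4, 2, 3, 8, 7, 6, 5, 4, 3, 2, 1, 0, 1, 2, 3, 4, 5, 6, 7, 8, 3, 2, 4, 3, 5, 4, 6, 5, 9, 8, 3, 8, 4, 3, 2, 1, 2, 3, 4, 8, 2, 3, 8, 9, 6, 5, 4, 1, 2, 3, 8, 7, 6, 5, 4, 3, 2, 1, 0, 1, 2, 3, 4, 5, 6, 7, 8, 3, 2, 1, 4, 5, 6, 9, 8, 3, 2, 9, 5, 4, 3, 8, 4, 5, 6, 3, 4, 5, 2, 3, 4, 1, 2, 3, 8, 9, 6, 5, 2, 3, 4, 1, 2, 3, 8, 7, 6, 5, 4, 3, 2, 1, 0, 1, 2, 3, 4, 5, 6, 7, 8, 3, 2, 1,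 4, 3, 2, 5, 6, 9, 8, 3, 2, 1, 4, 3, 2, 5, 4, 3, 6, 5, 4, 8, 3, 4, 5, 9]

/-- A word that normalises the element of order twenty-three, as the second power. -/
def nW23 : List ℕ := [6, 5, 6, 0, 2, 3, 8, 9, 1, 2, 3, 8, 7, 6, 5, 4, 3, 2, 1, 0, 1, 2, 3, 4, 5, 6, 7, 8, 3, 2, 1, 9, 8, 3, 2, 2, 3, 8, 9, 5, 4, 3, 8, 7, 6, 5, 4, 3, 2, 3, 4, 5, 6, 7, 8, 3, 4, 5, 9, 8, 3, 2, 3, 8, 9, 2, 3, 8, 4, 5, 3, 4, 2, 3, 8, 9, 3, 8, 4, 5, 3, 4, 1, 2, 3, 8, 7, 6, 5, 4, 3, 2, 1, 0, 1, 2, 3, 4, 5, 6, 7, 8, 3, 2, 1, 4, 3, 5, 4, 8, 3, 9, 8, 3, 2, 4, 3, 5, 4, 8, 3, 2, 9, 8, 3, 2, 3, 8, 6, 4, 5, 3, 4, 2, 3, 8, 9, 5, 6, 4, 5, 3, 4, 2, 3, 8, 7, 6, 5, 4, 3, 2, 1, 2, 3, 4, 5, 6, 7, 8, 3, 2, 4, 3, 5, 4, 6, 5, 9, 8, 3, 2, 4,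 3, 5, 4, 6, 8, 3, 2, 3, 3, 4, 1, 2, 3, 8, 9, 5, 3, 4, 2, 3, 8, 6, 5, 4, 3, 2, 1, 0, 1, 2, 3, 4, 5, 6, 8, 3, 2, 4, 3, 5, 9, 8, 3, 2, 1, 4, 3]

/-- A word that is a second element of order five. -/
def yW : List ℕ := [2, 3, 8, 4, 5, 3, 4, 2, 3, 8, 6, 5, 4, 3, 2, 1, 2, 3, 4, 5, 6, 8, 3, 2, 4, 3, 5, 4, 8, 3, 2, 1, 2, 3, 8, 4, 5, 3, 4, 2, 3, 8, 6, 5, 4, 3, 2, 1, 2, 3, 4, 5, 6, 8, 3, 2, 4, 3, 5, 4, 8, 3, 2, 1, 8, 3, 4, 1, 2, 3, 8, 5, 6, 4, 5, 3, 4, 2, 3, 8, 7, 6, 5, 4, 3, 2, 1, 2, 3, 4, 5, 6, 7, 8, 3, 2, 4, 3, 5, 4, 6, 5, 8, 3, 2, 1, 4, 3, 8, 7, 6, 5, 4, 3, 8, 2, 3, 4, 1, 2, 3, 8, 5, 6, 4, 5, 3, 4, 2, 3, 8, 7, 6, 5, 4, 3, 2, 1, 2, 3, 4, 5, 6, 7, 8, 3, 2, 4, 3, 5, 4, 6, 5, 8, 3, 2, 1, 4, 3, 2, 8,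 3, 4, 5, 6, 7]

/-- A word that squares the second element of order five. -/
def sW5 : List ℕ := [2, 3, 8, 4, 5, 3, 4, 2, 3, 8, 6, 5, 4, 3, 2, 1, 2, 3, 4, 5, 6, 8, 3, 2, 4, 3, 5, 4, 8, 3, 2, 1, 8, 3, 4, 1, 2, 3, 8, 5, 6, 4, 5, 3, 4, 2, 3, 8, 7, 6, 5, 4, 3, 2, 1, 2, 3, 4, 5, 6, 7, 8, 3, 2, 4, 3, 5, 4, 6, 5, 8, 3, 2, 1, 4, 3, 8]

/-- A word that carries the first element of order five to the second. -/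
def m1W : List ℕ := [7, 5, 4, 3, 8, 2, 3, 4, 1, 2, 3, 8, 5, 6, 4, 5, 3, 4, 2, 3, 8, 7, 6, 5, 4, 3, 2, 1, 2, 3, 4, 5, 6, 7, 8, 3, 2, 4, 3, 5, 4, 6, 5, 8, 3, 2, 1, 4, 3, 2, 8, 3, 4, 5, 4, 3, 2, 3, 4, 3, 2, 1, 2, 3, 2, 3, 8, 4, 5, 3, 4, 2, 3, 8, 6, 5, 4, 3, 2, 1, 2, 3, 4, 5, 6, 8, 3, 2, 4, 3, 5, 4, 8, 3, 2, 0, 3, 8, 4, 5, 3, 4, 1, 2, 3, 8, 6, 5, 4, 3, 2, 1, 0, 1, 2, 3, 4, 5, 6, 8, 3, 2, 1, 4, 3, 5, 4, 8, 3]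

/-- A word that carries the first element of order five to the product. -/
def m2W : List ℕ := [0, 1, 2, 3, 8, 9, 4, 2, 3, 8, 6, 7, 5, 6, 4, 5, 2, 3, 4, 1, 2, 3, 8, 9, 6, 5, 2, 3, 4, 1, 2, 3, 8, 7, 6, 5, 4, 3, 2, 1, 0, 1, 2, 3, 4, 5, 6, 7, 8, 3, 2, 1, 4, 3, 2, 5, 6, 9, 8, 3, 2, 1, 4, 3, 2, 5, 4, 6, 5, 7, 6, 8, 3, 2, 4, 9, 8, 3, 2, 1, 0, 6, 5, 4, 3, 2, 1, 0, 1, 2, 3, 4, 5, 6, 9, 8, 6, 5, 3, 4, 2, 3, 8, 7, 6, 5, 4, 3, 2, 1, 0, 1, 2, 3, 4, 5, 6, 7, 8, 3, 2, 4, 3, 5, 6, 8, 9, 9, 4, 3, 8, 5, 6, 4, 5, 3, 4, 2, 3, 8, 7, 6, 5, 4, 3, 2, 1, 0, 1, 2, 3, 4, 5, 6, 7, 8, 3, 2, 4, 3, 5, 4, 6, 5, 8, 3, 4, 9, 5, 3, 4, 0, 1, 2, 3, 8, 9, 6, 5, 3, 4, 2, 3, 8, 5, 6, 4, 5, 2, 3, 4, 1, 2, 3, 8, 9, 5, 2, 3, 4, 1,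 2, 3, 8, 7, 6, 5, 4, 3, 2, 1, 0, 1, 2, 3, 4, 5, 6, 7, 8, 3, 2, 1, 4, 3, 2, 5, 9, 8, 3, 2, 1, 4, 3, 2, 5, 4, 6, 5, 8, 3, 2, 4, 3, 5, 6, 9, 8, 3, 2, 1, 0, 4, 3, 5, 4, 3, 8, 4, 5, 2, 3, 4, 1, 2, 3, 8, 9, 5, 4, 1, 2, 3, 8, 6, 5, 4, 3, 2, 1, 0, 1, 2, 3, 4, 5, 6, 8, 3, 2, 1, 4, 5, 9, 8, 3, 2, 1, 4, 3, 2, 5, 4, 8, 3, 4, 8, 9, 0, 1, 2, 3, 8, 4, 5, 3, 4, 2, 3, 8, 9, 4, 5, 2, 3, 4, 1, 2, 3, 8, 6, 5, 4, 3, 2, 1, 0, 1, 2, 3, 4, 5, 6, 8, 3, 2, 1, 4, 3, 2, 5, 4, 9, 8, 3, 2, 4, 3, 5, 4, 8, 3, 2, 1, 0, 9, 8]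

/-- Points derived from the seeds and their mirror images, order 11. -/
def mir11 : List (ℕ × ℕ × ℕ × ℕ × (List ℕ × ℕ) × (List ℕ × ℕ)) :=
  [(1277, 1277, 2, 0, ([1, 2, 3, 8, 9, 8, 6, 5, 3, 4, 2, 3, 8, 7, 6, 5, 4, 3, 2], 1), ([1, 2, 3, 8, 9, 8, 6, 5, 3, 4, 2, 3, 8, 7, 6, 5, 4, 3, 2], 1)),
    (21529, 23847, 7, 1, ([8, 3, 2, 1], 0), ([9], 8)),
    (2187, 2518, 13, 4, ([3, 4, 1, 2, 3, 8, 9, 8, 6, 5, 3, 4, 2, 3, 8, 7, 6, 5, 4, 3, 2], 1), ([3, 4, 1, 2, 3, 8, 9, 8, 6, 5, 3, 4, 2, 3, 8, 7, 6, 5, 4, 3, 2], 1))]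

/-- Two places whose mirror images differ in commutation, order 11. -/
def contra11 : ℕ × ℕ × (List ℕ × ℕ) × (List ℕ × ℕ) := (15, 14, ([7, 6, 5, 4, 3, 8, 9, 8, 5, 3, 4, 2, 3, 8, 7, 6, 5, 4, 3, 2, 1], 0), ([7, 6, 5, 4, 3, 8, 9, 8, 3, 4, 2, 3, 8, 5, 4, 3, 2], 1))

/-- Points derived from the seeds and their mirror images, order 23. -/
def mir23 : List (ℕ × ℕ × ℕ × ℕ × (List ℕ × ℕ) × (List ℕ × ℕ)) :=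
  [(3938, 3296, 1, 0, ([8, 3, 4, 5, 2, 3, 4, 1, 2, 3, 8, 9, 6, 4, 5, 3, 4, 1, 2, 3, 8, 7, 6, 5, 4, 3, 2, 1], 0), ([9, 1, 2, 3, 8, 6, 4, 5, 3, 4, 2, 3, 8, 9, 6, 4, 5, 3, 4, 2, 3, 8, 7, 6, 5, 4, 3, 2, 1], 0))]

/-- Two places whose mirror images differ in commutation, order 23. -/
def contra23 : ℕ × ℕ × (List ℕ × ℕ) × (List ℕ × ℕ) := (23, 3, ([6, 5, 2, 3, 4, 1, 2, 3, 8, 9, 8, 6, 5, 3, 4, 2, 3, 8, 7, 6, 5, 4, 3, 2, 1], 0), ([2, 3, 8, 4, 5, 3, 4, 2, 3, 8, 9, 5, 6, 4, 5, 3, 4, 2, 3, 8, 7, 6, 5, 4, 3, 2], 1))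

end CfsgLib.Sporadic.FiTransfer.Norm23
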