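import Cfsg.Agent.Lib.Sporadic.FiTransfer.Norm23.Act

/-!
What a checked certificate says about an element of prime order of Fi23.
-/

set_option autoImplicit false
set_option maxRecDepth 100000

open Cfsg.Spor

namespace CfsgLib.Sporadic.FiTransfer.Norm23

open CosetCert.Fi23P.Two (el el_append el_nil genPts)
open CosetCert.Fi23P.OutFi (fullWord)

/-- Four ranges cover the 31671 points. -/
theorem cover_range {f : ℕ → ℕ → Bool}
    (hs : ∀ {t n : ℕ}, f t n = true → ∀ v, t ≤ v → v < t + n → f v 1 = true)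
    (h0 : f 0 8000 = true) (h1 : f 8000 8000 = true) (h2 : f 16000 8000 = true)
    (h3 : f 24000 7671 = true) : ∀ v < 31671, f v 1 = true := by
  intro v hv
  rcases lt_or_ge v 8000 with a | a
  · exact hs h0 v (Nat.zero_le _) (by omega)
  rcases lt_or_ge v 16000 with b | b
  · exact hs h1 v a (by omega)
  rcases lt_or_ge v 24000 with c | c
  · exact hs h2 v b (by omega)
  exact hs h3 v c (by omega)

namespace Cert

variable (C : Cert)

/-- The certificate passes all checks. -/
structure Valid : Prop where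
  base : C.baseK = true
  fixScan : ∀ v < 31671, C.fixScanK v 1 = true
  scan : ∀ v < 31671, C.scanK v 1 = true
  mask : C.maskK = true
  reps : ∀ r ∈ C.reps, C.repAt r = true
  close : C.closeK = true

/-- The element. -/
noncomputable def X : Fi23 := el C.w

variable {C}

theorem range_all_one {f : ℕ → Bool} {t n : ℕ} (h : (List.range n).all (fun i => f (t + i)) = true)
    {v : ℕ} (h1 : t ≤ v) (h2 : v < t + n) : (List.range 1).all (fun i => f (v + i)) = true := by
  rw [List.all_eq_true] at h ⊢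
  intro i hi
  rw [List.mem_range] at hi
  have := h (v - t) (List.mem_range.2 (by omega))
  rwa [show t + (v - t) = v + i by omega] at this

theorem fixScan_split {t n : ℕ} (h : C.fixScanK t n = true) :
    ∀ v, t ≤ v → v < t + n → C.fixScanK v 1 = true := fun _ h1 h2 =>
  range_all_one (f := fun u => !(Nat.beq (run C.w u) u) || C.fix.contains u) h h1 h2

theorem scan_split {t n : ℕ} (h : C.scanK t n = true) :
    ∀ v, t ≤ v → v < t + n → C.scanK v 1 = true := fun _ h1 h2 =>
  range_all_one (f := fun u => C.sigOrd.any (fun j => bif C.sig.getD j false then !(comR (C.fh j) u)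
    else comR (C.fh j) u) || Nat.testBit C.mask u || C.fix.contains u) h h1 h2

theorem repsK_mem {t n : ℕ} (h : C.repsK t n = true) {r : ℕ × ℕ × (List ℕ × ℕ)}
    (hr : r ∈ (C.reps.drop t).take n) : C.repAt r = true := List.all_eq_true.1 h r hr

theorem reps_of_chunks (C : Cert) (k : ℕ) (hk : C.reps.length ≤ 400 * k)
    (h : ∀ i < k, C.repsK (400 * i) 400 = true) : ∀ r ∈ C.reps, C.repAt r = true := by
  intro r hr
  obtain ⟨j, hj, rfl⟩ := List.mem_iff_getElem.1 hr
  refine repsK_mem (h (j / 400) (by omega)) ?_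
  rw [List.mem_iff_getElem]
  refine ⟨j % 400, by rw [List.length_take, List.length_drop]; omega, ?_⟩
  rw [List.getElem_take, List.getElem_drop]
  congr 1
  omega

/-- The numbers of the fixed points. -/
def fp (C : Cert) (i : ℕ) : ℕ := C.fix.getD i 31671

namespace Valid

variable (V : C.Valid)
include V

theorem base' :
    wordK C.w = true ∧ 1 < C.p ∧ sameR (powW C.p C.w) [] = true ∧
    (∀ i < C.fix.length, halfR (C.fp i) (C.fh i) = true ∧ run C.w (C.fp i) = C.fp i) ∧
    halfR C.s C.sHalf = true ∧ run C.w C.s ≠ C.s ∧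
    (∀ j < C.p, run (powW j C.w) C.s = C.orb.getD j 31671 ∧
      comR C.sHalf (C.orb.getD j 31671) = C.prof.getD j false) ∧
    (∀ i < C.fix.length, comR (C.fh i) C.s = C.sig.getD i false) ∧
    (∀ a ∈ C.al, wordK a = true ∧ sameR (C.w ++ a) (a ++ C.w) = true ∧ ∀ f ∈ C.fix, run a f = f) ∧
    ∀ i ∈ C.sigOrd, i < C.fix.length := by
  have h := V.base
  simp only [baseK, Bool.and_eq_true, List.all_eq_true, List.mem_range, beq_iff_eq, Nat.beq_eq,
    Nat.blt_eq, Bool.not_eq_true', and_assoc] at h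
  obtain ⟨a, b, c, d, e, f, g, i, j, k⟩ := h
  refine ⟨a, b, c, d, e, ?_, g, i, fun x hx => ?_, k⟩
  · intro he
    rw [Nat.beq_eq.mpr he] at f
    exact Bool.noConfusion f
  · obtain ⟨j1, j2, j3⟩ := j x hx
    exact ⟨j1, j2, j3⟩

theorem w_lt : ∀ x ∈ C.w, x < 10 := wordK_lt V.base'.1

theorem fix_lt {i : ℕ} (hi : i < C.fix.length) : C.fp i < 31671 :=
  (halfR_spec (V.base'.2.2.2.1 i hi).1).1

theorem act_fix {i : ℕ} (hi : i < C.fix.length) : act C.X (C.fp i) = C.fp i := by
  rw [X, act_el V.w_lt (V.fix_lt hi)]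
  exact (V.base'.2.2.2.1 i hi).2

theorem pow_fix (k : ℕ) {i : ℕ} (hi : i < C.fix.length) : act (C.X ^ k) (C.fp i) = C.fp i := by
  induction k with
  | zero => rw [pow_zero, act_one]
  | succ k ih => rw [pow_succ, act_mul, V.act_fix hi, ih]

theorem X_pow : C.X ^ C.p = 1 := by
  rw [X, ← el_powW, ← el_nil]
  exact eq_of_sameR (powW_lt V.w_lt _) (by simp) V.base'.2.2.1

theorem s_lt : C.s < 31671 := (halfR_spec V.base'.2.2.2.2.1).1

theorem act_s : act C.X C.s ≠ C.s := by
  rw [X, act_el V.w_lt V.s_lt]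
  exact V.base'.2.2.2.2.2.1

theorem X_ne_one : C.X ≠ 1 := fun e => V.act_s (by rw [e, act_one])

theorem orderOf_X (hp : C.p.Prime) : orderOf C.X = C.p :=
  haveI : Fact C.p.Prime := ⟨hp⟩
  orderOf_eq_prime V.X_pow V.X_ne_one

theorem orb_eq {j : ℕ} (hj : j < C.p) : act (C.X ^ j) C.s = C.orb.getD j 31671 := by
  rw [X, act_pow V.w_lt j V.s_lt]
  exact (V.base'.2.2.2.2.2.2.1 j hj).1

theorem prof_iff {j : ℕ} (hj : j < C.p) :
    Com C.s (act (C.X ^ j) C.s) ↔ C.prof.getD j false = true := by
  rw [← (V.base'.2.2.2.2.2.2.1 j hj).2, comR_iff V.base'.2.2.2.2.1 (by rw [← V.orb_eq hj]; exact act_lt V.s_lt),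
    V.orb_eq hj]

theorem sig_iff {i : ℕ} (hi : i < C.fix.length) : Com (C.fp i) C.s ↔ C.sig.getD i false = true := by
  rw [← V.base'.2.2.2.2.2.2.2.1 i hi, comR_iff (V.base'.2.2.2.1 i hi).1 V.s_lt]

/-- The fixed points of the element. -/
theorem fixed {v : ℕ} (hv : v < 31671) (h : act C.X v = v) : ∃ i < C.fix.length, C.fp i = v := by
  have h1 := List.all_eq_true.1 (V.fixScan v hv) 0 (List.mem_range.2 Nat.zero_lt_one)
  rw [Nat.add_zero, show run C.w v = v by rw [← act_el V.w_lt hv]; exact h, Nat.beq_eq.mpr rfl] at h1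
  simp only [Bool.not_true, Bool.false_or, List.contains_iff_mem] at h1
  obtain ⟨i, hi, e⟩ := List.mem_iff_getElem.1 h1
  exact ⟨i, hi, by rw [fp, List.getD_eq_getElem _ _ hi, e]⟩

theorem al_fix {a : ℕ} (ha : a < C.al.length) {i : ℕ} (hi : i < C.fix.length) :
    act (el (C.al.getD a [])) (C.fp i) = C.fp i := by
  have hm : C.al.getD a [] ∈ C.al := by rw [List.getD_eq_getElem _ _ ha]; exact List.getElem_mem _
  obtain ⟨h1, -, h3⟩ := V.base'.2.2.2.2.2.2.2.2.1 _ hm
  rw [act_el (wordK_lt h1) (V.fix_lt hi)]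
  refine h3 _ ?_
  rw [fp, List.getD_eq_getElem _ _ hi]
  exact List.getElem_mem _

theorem al_comm {a : ℕ} (ha : a < C.al.length) : Commute (el (C.al.getD a [])) C.X := by
  have hm : C.al.getD a [] ∈ C.al := by rw [List.getD_eq_getElem _ _ ha]; exact List.getElem_mem _
  obtain ⟨h1, h2, -⟩ := V.base'.2.2.2.2.2.2.2.2.1 _ hm
  have := eq_of_sameR (fun x hx => (List.mem_append.1 hx).elim (V.w_lt x) (wordK_lt h1 x))
    (fun x hx => (List.mem_append.1 hx).elim (wordK_lt h1 x) (V.w_lt x)) h2
  rw [el_append, el_append] at this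
  exact this

theorem orbBits_spec {r v : ℕ} (h : Nat.testBit (C.orbBits r) v = true) (hr : r < 31671) :
    ∃ i : ℕ, act (C.X ^ i) r = v := by
  suffices key : ∀ n r, r < 31671 →
      Nat.testBit (Nat.rec (motive := fun _ => ℕ → ℕ) (fun _ => 0)
        (fun _ ih v => Nat.lor (Nat.shiftLeft 1 v)
          (Nat.rec (motive := fun _ => ℕ) (ih 0) (fun k _ => ih (Nat.succ k)) (run C.w v))) n r) v = true →
      ∃ i : ℕ, act (C.X ^ i) r = v from key _ r hr h
  intro n
  induction n with
  | zero => intro r _ h; simp at h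
  | succ n ih =>
    intro r hr h
    change Nat.testBit ((1 <<< r) ||| _) v = true at h
    rw [Nat.testBit_or, Bool.or_eq_true, Nat.one_shiftLeft, Nat.testBit_two_pow, decide_eq_true_eq] at h
    rcases h with h | h
    · exact ⟨0, by rw [pow_zero, act_one, h]⟩
    · have e : ∀ (f : ℕ → ℕ) (m : ℕ), Nat.rec (motive := fun _ => ℕ) (f 0) (fun k _ => f (Nat.succ k)) m = f m :=
        fun f m => by cases m <;> rfl
      rw [e] at h
      have hr' : run C.w r < 31671 := by rw [← act_el V.w_lt hr]; exact act_lt hr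
      obtain ⟨i, hi⟩ := ih _ hr' h
      refine ⟨i + 1, ?_⟩
      rw [pow_succ, act_mul, X, act_el V.w_lt hr]
      exact hi

/-- The image of the chosen point under an element fixing the fixed points and keeping the profile. -/
theorem candidate {g : Fi23} (hF : ∀ i < C.fix.length, act g (C.fp i) = C.fp i)
    (hP : ∀ j < C.p, (Com (act g C.s) (act (C.X ^ j) (act g C.s)) ↔ Com C.s (act (C.X ^ j) C.s))) :
    ∃ (i : ℕ) (a : ℕ), a < C.al.length ∧ act g C.s = act (C.X ^ i * el (C.al.getD a [])) C.s := by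
  set v := act g C.s with hvdef
  have hv : v < 31671 := act_lt V.s_lt
  have hsig : ∀ j < C.fix.length, (Com (C.fp j) v ↔ C.sig.getD j false = true) := fun j hj => by
    rw [← V.sig_iff hj, hvdef]
    conv_lhs => rw [← hF j hj]
    exact com_act g
  have h1 := List.all_eq_true.1 (V.scan v hv) 0 (List.mem_range.2 Nat.zero_lt_one)
  rw [Nat.add_zero, Bool.or_eq_true, Bool.or_eq_true, List.any_eq_true] at h1
  rcases h1 with (⟨j, hj, h1⟩ | h1) | h1
  · exfalso
    have hj' := V.base'.2.2.2.2.2.2.2.2.2 j hj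
    have h2 := hsig j hj'
    rw [← comR_iff (V.base'.2.2.2.1 j hj').1 hv] at h2
    revert h1 h2
    cases C.sig.getD j false <;> cases comR (C.fh j) v <;> simp
  · rw [← Nat.eq_of_beq_eq_true V.mask] at h1
    obtain ⟨r, hr, h1⟩ := testBit_foldr (fun r : ℕ × ℕ × (List ℕ × ℕ) => C.orbBits r.1)
      C.reps v h1
    have hw := V.reps r hr
    obtain ⟨hH, hw⟩ := Bool.and_eq_true_iff.1 hw
    obtain ⟨hr1, -, -⟩ := halfR_spec hH
    obtain ⟨i, hi⟩ := V.orbBits_spec h1 hr1
    by_cases c1 : 1000 ≤ r.2.1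
    · rw [Nat.ble_eq_true_of_le c1, cond_true] at hw
      simp only [Bool.and_eq_true, Nat.blt_eq, Nat.beq_eq] at hw
      refine ⟨i, r.2.1 - 1000, hw.1, ?_⟩
      have hm : C.al.getD (r.2.1 - 1000) [] ∈ C.al := by
        rw [List.getD_eq_getElem _ _ hw.1]; exact List.getElem_mem _
      rw [act_mul, act_el (wordK_lt (V.base'.2.2.2.2.2.2.2.2.1 _ hm).1) V.s_lt, hw.2, hi]
    rw [show Nat.ble 1000 r.2.1 = false from Bool.eq_false_iff.2 fun e => c1 (Nat.le_of_ble_eq_true e),
      cond_false] at hw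
    exfalso
    by_cases c2 : 500 ≤ r.2.1
    · rw [Nat.ble_eq_true_of_le c2, cond_true] at hw
      simp only [Bool.and_eq_true, Nat.blt_eq, Bool.not_eq_true', beq_eq_false_iff_ne] at hw
      obtain ⟨hj, hne⟩ := hw
      refine hne (Bool.eq_iff_iff.2 ?_)
      rw [comR_iff (V.base'.2.2.2.1 _ hj).1 hr1, ← hsig _ hj]
      rw [← hi]
      conv_rhs => rw [← V.pow_fix i hj]
      exact (com_act _).symm
    · rw [show Nat.ble 500 r.2.1 = false from Bool.eq_false_iff.2 fun e => c2 (Nat.le_of_ble_eq_true e),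
        cond_false] at hw
      simp only [Bool.and_eq_true, Nat.blt_eq, Bool.not_eq_true', beq_eq_false_iff_ne] at hw
      obtain ⟨hj, hne⟩ := hw
      refine hne (Bool.eq_iff_iff.2 ?_)
      rw [← V.prof_iff hj, ← hP _ hj, ← act_pow V.w_lt _ hr1,
        comR_iff hH (act_lt hr1)]
      show _ ↔ Com v (act (C.X ^ r.2.1) v)
      rw [← hi, ← act_mul (C.X ^ r.2.1), ← pow_add, add_comm, pow_add, act_mul]
      exact (com_act _).symm
  · exfalso
    rw [List.contains_iff_mem] at h1
    obtain ⟨j, hj, e⟩ := List.mem_iff_getElem.1 h1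
    have e' : C.fp j = v := by rw [fp, List.getD_eq_getElem _ _ hj, e]
    have : C.s = C.fp j := act_injective g (by rw [hF j hj, e'])
    exact V.act_s (this ▸ V.act_fix hj)

/-- An element fixing the seeds is trivial. -/
theorem eq_one_of_seeds {g : Fi23} (h : ∀ v ∈ C.seeds, act g v = v) : g = 1 := by
  have hK := V.close
  simp only [closeK, Bool.and_eq_true, List.all_eq_true, List.mem_range, List.contains_iff_mem,
    and_assoc] at hK
  obtain ⟨hd, hg⟩ := hK
  have key : ∀ m < C.pts.length, act g (C.pts.getD m 31671) = C.pts.getD m 31671 := by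
    intro m
    induction m using Nat.strong_induction_on with
    | _ m ih =>
      intro hm
      rcases lt_or_ge m C.seeds.length with h' | h'
      · refine h _ ?_
        rw [pts, List.getD_append _ _ _ _ h', List.getD_eq_getElem _ _ h']
        exact List.getElem_mem _
      obtain ⟨n, rfl⟩ : ∃ n, m = C.seeds.length + n := ⟨m - C.seeds.length, by omega⟩
      have hn : n < C.ders.length := by
        rw [pts, List.length_append, List.length_map] at hm; omega
      obtain ⟨ha, hb, hh, hbl, he⟩ := hd n hn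
      generalize C.ders.getD n (0, 31671, 31671, ([], 0)) = d at ha hb hh hbl he
      have ha' : d.2.1 < C.seeds.length + n := Nat.le_of_ble_eq_true ha
      have hb' : d.2.2.1 < C.seeds.length + n := Nat.le_of_ble_eq_true hb
      obtain ⟨hal, hl, htp⟩ := halfR_spec hh
      have fa := ih _ ha' (by omega)
      have fb := ih _ hb' (by omega)
      have hcm : Commute g (tp (C.pts.getD d.2.1 31671)) := (commute_tp_iff hal).2 fa
      have e : C.pts.getD (C.seeds.length + n) 31671
          = act (tp (C.pts.getD d.2.1 31671)) (C.pts.getD d.2.2.1 31671) := by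
        rw [htp, act_el hl (Nat.le_of_ble_eq_true hbl)]
        exact (Nat.eq_of_beq_eq_true he).symm
      rw [e, ← act_mul, hcm.eq, act_mul, fb]
  refine eq_one_of_gens_fix fun v hv => ?_
  obtain ⟨m, hm, e⟩ := List.mem_iff_getElem.1 (hg v hv)
  have := key m hm
  rwa [List.getD_eq_getElem _ _ hm, e] at this

theorem seeds_fix {g : Fi23} (hF : ∀ i < C.fix.length, act g (C.fp i) = C.fp i) (hs : act g C.s = C.s)
    (hc : Commute g C.X) (hlen : C.orb.length = C.p) : ∀ v ∈ C.seeds, act g v = v := by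
  intro v hv
  rcases List.mem_append.1 hv with hv | hv
  · obtain ⟨i, hi, e⟩ := List.mem_iff_getElem.1 hv
    have := hF i hi
    rwa [fp, List.getD_eq_getElem _ _ hi, e] at this
  · obtain ⟨j, hj, e⟩ := List.mem_iff_getElem.1 hv
    have e' := V.orb_eq (hlen ▸ hj)
    rw [List.getD_eq_getElem _ _ hj, e] at e'
    rw [← e', ← act_mul, (hc.pow_right j).eq, act_mul, hs]

/-- The kernel: an element centralising the element and fixing its fixed points. -/
theorem centralizer_kernel (hlen : C.orb.length = C.p) {g : Fi23}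
    (hF : ∀ i < C.fix.length, act g (C.fp i) = C.fp i) (hc : Commute g C.X) :
    ∃ (i : ℕ) (a : ℕ), a < C.al.length ∧ g = C.X ^ i * el (C.al.getD a []) := by
  obtain ⟨i, a, ha, e⟩ := V.candidate hF fun j _ => by
    rw [← act_mul (C.X ^ j), ← (hc.pow_right j).eq, act_mul]
    exact com_act g
  refine ⟨i, a, ha, inv_mul_eq_one.1 ?_ |>.symm⟩
  set h := C.X ^ i * el (C.al.getD a []) with hh
  have hfixh : ∀ k < C.fix.length, act h (C.fp k) = C.fp k := fun k hk => by
    rw [hh, act_mul, V.al_fix ha hk, V.pow_fix i hk]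
  refine V.eq_one_of_seeds (V.seeds_fix (fun k hk => ?_) ?_ ?_ hlen)
  · rw [act_mul, hF k hk]
    exact act_inv_fix (hfixh k hk)
  · rw [act_mul, e, act_inv_cancel]
  · exact (((Commute.refl C.X).pow_left i).mul_left (V.al_comm ha)).inv_left.mul_left hc

end Valid

end Cert

end CfsgLib.Sporadic.FiTransfer.Norm23
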