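import Cfsg.Agent.Lib.Sporadic.FiTransfer.Norm23.Check17Small
import Cfsg.Agent.Lib.Sporadic.FiTransfer.Norm23.Check17Fix
import Cfsg.Agent.Lib.Sporadic.FiTransfer.Norm23.Check17Scan
import Cfsg.Agent.Lib.Sporadic.FiTransfer.Norm23.Check17RepsA
import Cfsg.Agent.Lib.Sporadic.FiTransfer.Norm23.Check17RepsB
import Cfsg.Agent.Lib.Sporadic.FiTransfer.Norm23.Kernel

/-!
The certificate for order 17 is valid.
-/

set_option autoImplicit false
set_option maxRecDepth 100000
set_option maxHeartbeats 0

namespace CfsgLib.Sporadic.FiTransfer.Norm23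

theorem valid17 : cert17.Valid where
  base := base17
  mask := mask17_ok
  close := close17
  fixScan := cover_range (fun h => Cert.fixScan_split h) fixScan17_0 fixScan17_1 fixScan17_2 fixScan17_3
  scan := cover_range (fun h => Cert.scan_split h) scan17_0 scan17_1 scan17_2 scan17_3
  reps := cert17.reps_of_chunks 5 (by decide +kernel) fun i hi => by
    interval_cases i
    · exact reps17_ok0
    · exact reps17_ok1
    · exact reps17_ok2
    · exact reps17_ok3
    · exact reps17_ok4

end CfsgLib.Sporadic.FiTransfer.Norm23
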