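import Cfsg.Agent.Lib.Sporadic.FiTransfer.Norm23.Check23Small
import Cfsg.Agent.Lib.Sporadic.FiTransfer.Norm23.Check23Fix
import Cfsg.Agent.Lib.Sporadic.FiTransfer.Norm23.Check23Scan
import Cfsg.Agent.Lib.Sporadic.FiTransfer.Norm23.Check23RepsA
import Cfsg.Agent.Lib.Sporadic.FiTransfer.Norm23.Check23RepsB
import Cfsg.Agent.Lib.Sporadic.FiTransfer.Norm23.Kernel

/-!
The certificate for order 23 is valid.
-/

set_option autoImplicit false
set_option maxRecDepth 100000
set_option maxHeartbeats 0

namespace CfsgLib.Sporadic.FiTransfer.Norm23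

theorem valid23 : cert23.Valid where
  base := base23
  mask := mask23_ok
  close := close23
  fixScan := cover_range (fun h => Cert.fixScan_split h) fixScan23_0 fixScan23_1 fixScan23_2 fixScan23_3
  scan := cover_range (fun h => Cert.scan_split h) scan23_0 scan23_1 scan23_2 scan23_3
  reps := cert23.reps_of_chunks 4 (by decide +kernel) fun i hi => by
    interval_cases i
    · exact reps23_ok0
    · exact reps23_ok1
    · exact reps23_ok2
    · exact reps23_ok3

end CfsgLib.Sporadic.FiTransfer.Norm23
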