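import Cfsg.Agent.Lib.Sporadic.FiTransfer.Norm23.Instance
import Cfsg.Agent.Lib.Sporadic.FiTransfer.Norm23.Valid17
import Cfsg.Agent.Lib.Sporadic.FiTransfer.Norm23.Valid23
import Cfsg.Agent.Lib.Sporadic.FiTransfer.Norm23.Elts

/-!
The normalisers of elements of orders seventeen and twenty-three of Fi23.
-/

set_option autoImplicit false
set_option maxRecDepth 100000

open Cfsg.Spor

namespace CfsgLib.Sporadic.FiTransfer.Norm23

open CosetCert.Fi23P.Two (el el_nil)

/-- The normaliser is the Frobenius group and the element generates its own centraliser. -/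
theorem freeShape {X n : Fi23} {p e k : ℕ} (FD : FrobData X n p e k)
    (hker : ∀ g : Fi23, (∃ j : ℕ, g * X * g⁻¹ = X ^ j) → g ∈ FD.F) :
    FreeShape (p * e) (Subgroup.zpowers X) := by
  have : Finite Fi23 := CosetCert.Fi23P.finite
  have hN : Subgroup.normalizer ((Subgroup.zpowers X : Subgroup Fi23) : Set Fi23) = FD.F :=
    le_antisymm (fun g hg => hker g (mem_normalizer_zpowers.1 hg)) fun g hg => by
      obtain ⟨i, l, rfl⟩ := hg
      exact mem_normalizer_zpowers.2 ⟨_, FD.conj_X i l⟩
  refine ⟨by rw [hN, FD.card_F], le_antisymm (fun g hg => ?_) fun g hg => ?_⟩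
  · rw [← FD.inf_centralizer]
    refine ⟨hker g ⟨1, ?_⟩, hg⟩
    rw [pow_one, (mem_centralizer_zpowers.1 hg).eq, mul_inv_cancel_right]
  · rw [← FD.inf_centralizer] at hg
    exact hg.2

theorem conj17_ok : conjK nW17 cert17.w 3 = true := by decide +kernel
theorem exp17_ok : expK nW17 16 = true := by decide +kernel
theorem conj23_ok : conjK nW23 cert23.w 2 = true := by decide +kernel
theorem exp23_ok : expK nW23 11 = true := by decide +kernel
theorem mirror23_ok : cert23.mirrorK mir23 contra23 = true := by decide +kernel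

/-- The element of order seventeen. -/
noncomputable def X17 : Fi23 := cert17.X

/-- The element of order twenty-three. -/
noncomputable def X23 : Fi23 := cert23.X

theorem frob17 : FrobData X17 (el nW17) 17 16 3 :=
  Cert.frob (C := cert17) valid17 (show (17 : ℕ).Prime by norm_num) conj17_ok exp17_ok (by norm_num)
    (by decide)

theorem frob23 : FrobData X23 (el nW23) 23 11 2 :=
  Cert.frob (C := cert23) valid23 (show (23 : ℕ).Prime by norm_num) conj23_ok exp23_ok (by norm_num)
    (by decide)

theorem shape17 : FreeShape (17 * 16) (Subgroup.zpowers X17) :=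
  freeShape frob17 fun g hj => Cert.kernel_mem (C := cert17) valid17 frob17 (by decide +kernel)
    (by decide +kernel) (by decide +kernel) rfl
    (fun i hi => absurd hi (by rw [show cert17.fix.length = 0 from rfl]; omega)) hj

theorem shape23 : FreeShape (23 * 11) (Subgroup.zpowers X23) := by
  refine freeShape frob23 fun g hj => ?_
  obtain ⟨j, hj⟩ := hj
  have hfix : ∀ (y : Fi23), ∀ i < cert23.fix.length, act y (cert23.fp i) = cert23.fp i := fun y i hi =>
    absurd hi (by rw [show cert23.fix.length = 0 from rfl]; omega)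
  obtain ⟨l, r, hr, h⟩ := frob23.reduce hj (R := [1, 22]) (by decide +kernel)
  simp only [List.mem_cons, List.not_mem_nil, or_false] at hr
  rcases hr with rfl | rfl
  · rw [pow_one, mul_inv_eq_iff_eq_mul] at h
    obtain ⟨i, a, ha, e'⟩ := valid23.centralizer_kernel (by decide +kernel) (hfix _) h
    obtain rfl : a = 0 := by rw [show cert23.al.length = 1 from rfl] at ha; omega
    rw [show cert23.al.getD 0 [] = [] from rfl, el_nil, mul_one] at e'
    have hg : g = (el nW23 ^ l)⁻¹ * cert23.X ^ i := by rw [← e', inv_mul_cancel_left]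
    rw [hg]
    exact mul_mem (inv_mem (pow_mem frob23.n_mem l)) (pow_mem frob23.X_mem i)
  · refine absurd ?_ (valid23.no_inversion mirror23_ok (hfix (el nW23 ^ l * g)))
    change el nW23 ^ l * g * cert23.X * (el nW23 ^ l * g)⁻¹ = cert23.X ^ 22 at h
    rw [h]
    refine (inv_eq_of_mul_eq_one_right ?_).symm
    rw [← pow_succ']
    exact valid23.X_pow

theorem card_X17 : Nat.card (Subgroup.zpowers X17) = 17 := by
  rw [Nat.card_zpowers, frob17.ord]

theorem card_X23 : Nat.card (Subgroup.zpowers X23) = 23 := by
  rw [Nat.card_zpowers, frob23.ord]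

end CfsgLib.Sporadic.FiTransfer.Norm23
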