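import Mathlib

/-!
Groups generated by an element of prime order and an element acting on it faithfully.
-/

set_option autoImplicit false

namespace CfsgLib.Sporadic.FiTransfer.Norm23

variable {G : Type*} [Group G]

/-- An element `n` of exponent `e` acting on `X` of order `p` as raising to the power `k`. -/
structure FrobData (X n : G) (p e k : ℕ) : Prop where
  ord : orderOf X = p
  conj : n * X * n⁻¹ = X ^ k
  pow_e : n ^ e = 1
  e_pos : 0 < e
  p_gt : 1 < p
  faithful : ∀ l < e, k ^ l % p = 1 → l = 0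

namespace FrobData

variable {X n : G} {p e k : ℕ} (D : FrobData X n p e k)
include D

theorem conj_pow' (l i : ℕ) : n ^ l * X ^ i * (n ^ l)⁻¹ = X ^ (k ^ l * i) := by
  induction l generalizing i with
  | zero => simp
  | succ l ih =>
    calc n ^ (l + 1) * X ^ i * (n ^ (l + 1))⁻¹
        = n * (n ^ l * X ^ i * (n ^ l)⁻¹) * n⁻¹ := by rw [pow_succ']; group
      _ = (n * X * n⁻¹) ^ (k ^ l * i) := by rw [ih, ← conj_pow]
      _ = X ^ (k ^ (l + 1) * i) := by rw [D.conj, ← pow_mul]; ring_nf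

theorem swap (l i : ℕ) : n ^ l * X ^ i = X ^ (k ^ l * i) * n ^ l := by
  rw [← D.conj_pow' l i]; group

theorem mem_mul {a b : G} (ha : ∃ i l : ℕ, a = X ^ i * n ^ l) (hb : ∃ i l : ℕ, b = X ^ i * n ^ l) :
    ∃ i l : ℕ, a * b = X ^ i * n ^ l := by
  obtain ⟨i, l, rfl⟩ := ha
  obtain ⟨j, m, rfl⟩ := hb
  exact ⟨i + k ^ l * j, l + m, by rw [mul_assoc, ← mul_assoc (n ^ l), D.swap]; simp only [pow_add, mul_assoc]⟩

/-- The subgroup generated by `X` and `n`. -/
def F : Subgroup G where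
  carrier := {a | ∃ i l : ℕ, a = X ^ i * n ^ l}
  one_mem' := ⟨0, 0, by simp⟩
  mul_mem' ha hb := D.mem_mul ha hb
  inv_mem' := by
    rintro _ ⟨i, l, rfl⟩
    have h1 : (n ^ l)⁻¹ = n ^ ((e - 1) * l) := by
      refine inv_eq_of_mul_eq_one_right ?_
      rw [← pow_add, show l + (e - 1) * l = e * l by
        obtain ⟨t, rfl⟩ := Nat.exists_eq_succ_of_ne_zero D.e_pos.ne'
        simp only [Nat.succ_sub_one, Nat.succ_mul]; ring, pow_mul, D.pow_e, one_pow]
    have h2 : (X ^ i)⁻¹ = X ^ ((p - 1) * i) := by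
      refine inv_eq_of_mul_eq_one_right ?_
      rw [← pow_add, show i + (p - 1) * i = p * i by
        obtain ⟨t, rfl⟩ := Nat.exists_eq_succ_of_ne_zero (Nat.ne_zero_of_lt D.p_gt)
        simp only [Nat.succ_sub_one, Nat.succ_mul]; ring, pow_mul, ← D.ord, pow_orderOf_eq_one, one_pow]
    rw [mul_inv_rev, h1, h2]
    exact D.mem_mul ⟨0, (e - 1) * l, by simp⟩ ⟨(p - 1) * i, 0, by simp⟩

theorem mem_F {a : G} : a ∈ D.F ↔ ∃ i l : ℕ, a = X ^ i * n ^ l := Iff.rfl

theorem pow_mod_p (i : ℕ) : X ^ (i % p) = X ^ i := by rw [← D.ord, pow_mod_orderOf]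

theorem pow_mod_e (l : ℕ) : n ^ (l % e) = n ^ l := by
  conv_rhs => rw [← Nat.mod_add_div l e, pow_add, pow_mul, D.pow_e, one_pow, mul_one]

theorem X_mem : X ∈ D.F := ⟨1, 0, by simp⟩

theorem n_mem : n ∈ D.F := ⟨0, 1, by simp⟩

theorem zpowers_le : Subgroup.zpowers X ≤ D.F := (Subgroup.zpowers_le).2 D.X_mem

/-- The conjugate of `X` by `X ^ i * n ^ l`. -/
theorem conj_X (i l : ℕ) : X ^ i * n ^ l * X * (X ^ i * n ^ l)⁻¹ = X ^ (k ^ l) := by
  have := D.conj_pow' l 1
  rw [pow_one, mul_one] at this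
  calc X ^ i * n ^ l * X * (X ^ i * n ^ l)⁻¹ = X ^ i * (n ^ l * X * (n ^ l)⁻¹) * (X ^ i)⁻¹ := by group
    _ = X ^ (k ^ l) := by rw [this, ← pow_add, add_comm, pow_add, mul_inv_cancel_right]

theorem eq_zero_of_pow {l : ℕ} (hl : l < e) (h : X ^ (k ^ l) = X) : l = 0 := by
  refine D.faithful l hl ?_
  conv at h => rhs; rw [← pow_one X]
  rw [pow_eq_pow_iff_modEq, D.ord] at h
  rw [h, Nat.one_mod_eq_one.2 (Nat.ne_of_gt D.p_gt)]

theorem commute_iff_l {i l : ℕ} : Commute (X ^ i * n ^ l) X ↔ n ^ l = 1 := by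
  constructor
  · intro h
    rw [← D.pow_mod_e l]
    have e1 : X ^ i * n ^ (l % e) * X * (X ^ i * n ^ (l % e))⁻¹ = X := by
      rw [D.pow_mod_e l, h.eq, mul_inv_cancel_right]
    rw [D.conj_X] at e1
    rw [D.eq_zero_of_pow (Nat.mod_lt _ D.e_pos) e1, pow_zero]
  · intro h
    rw [h, mul_one]
    exact (Commute.refl X).pow_left i

theorem inf_centralizer : D.F ⊓ Subgroup.centralizer ((Subgroup.zpowers X : Subgroup G) : Set G) =
    Subgroup.zpowers X := by
  refine le_antisymm ?_ (le_inf D.zpowers_le ?_)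
  · rintro a ⟨⟨i, l, rfl⟩, ha⟩
    have hc : Commute (X ^ i * n ^ l) X :=
      (Subgroup.mem_centralizer_iff.1 ha X (Subgroup.mem_zpowers X)).symm
    rw [D.commute_iff_l.1 hc, mul_one]
    exact Subgroup.npow_mem_zpowers X i
  · intro a ha
    rw [Subgroup.mem_centralizer_iff]
    intro b hb
    obtain ⟨i, rfl⟩ := Subgroup.mem_zpowers_iff.1 ha
    obtain ⟨j, rfl⟩ := Subgroup.mem_zpowers_iff.1 hb
    exact ((Commute.refl X).zpow_zpow j i).eq

theorem card_F : Nat.card D.F = p * e := by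
  let f : Fin p × Fin e → D.F := fun a => ⟨X ^ (a.1 : ℕ) * n ^ (a.2 : ℕ), a.1, a.2, rfl⟩
  have hf : Function.Bijective f := by
    constructor
    · rintro ⟨i, l⟩ ⟨i', l'⟩ h
      have h0 : X ^ (i : ℕ) * n ^ (l : ℕ) = X ^ (i' : ℕ) * n ^ (l' : ℕ) := congrArg Subtype.val h
      have h1 : n ^ (((l : ℕ) + (e - l')) % e) = 1 := by
        rw [D.pow_mod_e]
        have hn : n ^ ((l : ℕ) + (e - l')) * X * (n ^ ((l : ℕ) + (e - l')))⁻¹ = X := by
          have e1 : n ^ ((l : ℕ) + (e - l')) = (X ^ (i : ℕ))⁻¹ * X ^ (i' : ℕ) := by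
            rw [pow_add]
            calc n ^ (l : ℕ) * n ^ (e - (l' : ℕ))
                = (X ^ (i : ℕ))⁻¹ * (X ^ (i' : ℕ) * n ^ (l' : ℕ)) * n ^ (e - (l' : ℕ)) := by
                  rw [← h0]; group
              _ = (X ^ (i : ℕ))⁻¹ * X ^ (i' : ℕ) * n ^ ((l' : ℕ) + (e - l')) := by
                  rw [pow_add]; simp only [mul_assoc]
              _ = _ := by rw [show (l' : ℕ) + (e - l') = e by omega, D.pow_e, mul_one]
          rw [e1]
          have hc : Commute ((X ^ (i : ℕ))⁻¹ * X ^ (i' : ℕ)) X :=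
            ((Commute.refl X).pow_left _).inv_left.mul_left ((Commute.refl X).pow_left _)
          rw [hc.eq, mul_inv_cancel_right]
        have e2 := D.commute_iff_l (i := 0) (l := (l : ℕ) + (e - l'))
        rw [pow_zero, one_mul] at e2
        exact e2.1 (mul_inv_eq_iff_eq_mul.1 hn)
      have h2 : ((l : ℕ) + (e - l')) % e = 0 := by
        have hlt := Nat.mod_lt ((l : ℕ) + (e - l')) D.e_pos
        refine D.eq_zero_of_pow hlt ?_
        have := D.conj_X 0 (((l : ℕ) + (e - l')) % e)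
        rw [h1, pow_zero] at this
        simpa using this.symm
      have hl : (l : ℕ) = l' := by
        have h3 : ((l : ℕ) + (e - l')) = e ∨ ((l : ℕ) + (e - l')) = 0 ∨ 2 * e ≤ ((l : ℕ) + (e - l')) := by
          obtain ⟨t, ht⟩ := Nat.dvd_of_mod_eq_zero h2
          rcases t with _ | _ | t
          · exact Or.inr (Or.inl (by simpa using ht))
          · exact Or.inl (by simpa using ht)
          · refine Or.inr (Or.inr ?_)
            rw [ht]; nlinarith
        omega
      rw [hl] at h0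
      have h4 := mul_right_cancel h0
      rw [pow_eq_pow_iff_modEq, D.ord] at h4
      refine Prod.ext (Fin.ext ?_) (Fin.ext hl)
      rw [← Nat.mod_eq_of_lt i.2, h4, Nat.mod_eq_of_lt i'.2]
    · rintro ⟨_, i, l, rfl⟩
      exact ⟨(⟨i % p, Nat.mod_lt _ (by have := D.p_gt; omega)⟩, ⟨l % e, Nat.mod_lt _ D.e_pos⟩),
        Subtype.ext (by simp [f, D.pow_mod_p, D.pow_mod_e])⟩
  rw [← Nat.card_congr (Equiv.ofBijective f hf), Nat.card_prod, Nat.card_fin, Nat.card_fin]

/-- Normal forms are unique. -/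
theorem inj {i i' l l' : ℕ} (hi : i < p) (hi' : i' < p) (hl : l < e) (hl' : l' < e)
    (h : X ^ i * n ^ l = X ^ i' * n ^ l') : i = i' ∧ l = l' := by
  have hfin : Finite D.F := Nat.finite_of_card_ne_zero (by
    rw [D.card_F]; exact (Nat.mul_pos (by have := D.p_gt; omega) D.e_pos).ne')
  let f : Fin p × Fin e → D.F := fun a => ⟨X ^ (a.1 : ℕ) * n ^ (a.2 : ℕ), a.1, a.2, rfl⟩
  have hs : Function.Surjective f := by
    rintro ⟨_, i, l, rfl⟩
    exact ⟨(⟨i % p, Nat.mod_lt _ (by omega)⟩, ⟨l % e, Nat.mod_lt _ D.e_pos⟩),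
      Subtype.ext (by simp [f, D.pow_mod_p, D.pow_mod_e])⟩
  have hb : Function.Bijective f := (Nat.bijective_iff_surjective_and_card f).2
    ⟨hs, by rw [Nat.card_prod, Nat.card_fin, Nat.card_fin, D.card_F]⟩
  have := hb.1 (a₁ := (⟨i, hi⟩, ⟨l, hl⟩)) (a₂ := (⟨i', hi'⟩, ⟨l', hl'⟩)) (Subtype.ext h)
  simp only [Prod.mk.injEq, Fin.mk.injEq] at this
  exact this

end FrobData

/-- The normaliser of a cyclic group of finite order. -/
theorem mem_normalizer_zpowers [Finite G] {X g : G} :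
    g ∈ Subgroup.normalizer ((Subgroup.zpowers X : Subgroup G) : Set G) ↔
      ∃ j : ℕ, g * X * g⁻¹ = X ^ j := by
  constructor
  · intro h
    have h2 : g * X * g⁻¹ ∈ Subgroup.zpowers X :=
      (Subgroup.mem_normalizer_iff.1 h X).1 (Subgroup.mem_zpowers X)
    rw [← mem_powers_iff_mem_zpowers] at h2
    obtain ⟨j, hj⟩ := h2
    exact ⟨j, hj.symm⟩
  · rintro ⟨j, hj⟩
    have hle : (Subgroup.zpowers X).map (MulAut.conj g).toMonoidHom ≤ Subgroup.zpowers X := by
      rw [MonoidHom.map_zpowers, Subgroup.zpowers_le]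
      show g * X * g⁻¹ ∈ _
      rw [hj]
      exact Subgroup.npow_mem_zpowers X j
    have heq : (Subgroup.zpowers X).map (MulAut.conj g).toMonoidHom = Subgroup.zpowers X :=
      Subgroup.eq_of_le_of_card_ge hle
        (le_of_eq (Subgroup.card_map_of_injective (MulAut.conj g).injective).symm)
    rw [Subgroup.mem_normalizer_iff]
    intro y
    conv_rhs => rw [← heq, Subgroup.mem_map]
    constructor
    · intro hy; exact ⟨y, hy, rfl⟩
    · rintro ⟨z, hz, e⟩
      rwa [← (MulAut.conj g).injective e]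

/-- Membership in the centraliser of a cyclic group. -/
theorem mem_centralizer_zpowers {X g : G} :
    g ∈ Subgroup.centralizer ((Subgroup.zpowers X : Subgroup G) : Set G) ↔ Commute g X := by
  constructor
  · intro h; exact (Subgroup.mem_centralizer_iff.1 h X (Subgroup.mem_zpowers X)).symm
  · intro h
    rw [Subgroup.mem_centralizer_iff]
    intro b hb
    obtain ⟨j, rfl⟩ := Subgroup.mem_zpowers_iff.1 hb
    exact (h.zpow_right j).eq.symm

end CfsgLib.Sporadic.FiTransfer.Norm23
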