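import Mathlib

/-!
The action of a symmetric group on the unordered pairs, written on indices, and the fact that a
permutation of the pairs respecting conjugation of transpositions comes from the symmetric group.
-/

set_option autoImplicit false

namespace CfsgLib.Sporadic.FiTransfer.Norm23

/-- A numbering of the pairs of `n` things. -/
structure PairLabel (n M : ℕ) where
  enc : Fin M → Fin n × Fin n
  dec : Fin n → Fin n → Fin M
  lt : ∀ a, (enc a).1 < (enc a).2
  dec_enc : ∀ a, dec (enc a).1 (enc a).2 = a
  enc_dec : ∀ i j, i < j → enc (dec i j) = (i, j)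
  symm : ∀ i j, dec i j = dec j i

namespace PairLabel

variable {n M : ℕ} (L : PairLabel n M)

/-- The transposition of a pair. -/
def tau (a : Fin M) : Equiv.Perm (Fin n) := Equiv.swap (L.enc a).1 (L.enc a).2

/-- The induced map on pairs. -/
def map (σ : Equiv.Perm (Fin n)) (a : Fin M) : Fin M := L.dec (σ (L.enc a).1) (σ (L.enc a).2)

/-- Conjugation of transpositions, on indices. -/
def act (a b : Fin M) : Fin M := L.map (L.tau a) b

theorem map_dec (σ : Equiv.Perm (Fin n)) {i j : Fin n} (h : i ≠ j) :
    L.map σ (L.dec i j) = L.dec (σ i) (σ j) := by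
  rcases lt_or_gt_of_ne h with h' | h'
  · rw [map, L.enc_dec i j h']
  · rw [map, L.symm i j, L.enc_dec j i h', L.symm (σ i)]

theorem map_map (σ τ : Equiv.Perm (Fin n)) (a : Fin M) : L.map σ (L.map τ a) = L.map (σ * τ) a := by
  have h : τ (L.enc a).1 ≠ τ (L.enc a).2 := fun e => (L.lt a).ne (τ.injective e)
  show L.map σ (L.dec _ _) = _
  rw [L.map_dec σ h]
  rfl

theorem map_one (a : Fin M) : L.map 1 a = a := L.dec_enc a

/-- The symmetric group on the pairs. -/
def psi : Equiv.Perm (Fin n) →* Equiv.Perm (Fin M) where
  toFun σ :=
    { toFun := L.map σ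
      invFun := L.map σ⁻¹
      left_inv := fun a => by rw [L.map_map, inv_mul_cancel, L.map_one]
      right_inv := fun a => by rw [L.map_map, mul_inv_cancel, L.map_one] }
  map_one' := Equiv.ext L.map_one
  map_mul' σ τ := Equiv.ext fun a => (L.map_map σ τ a).symm

theorem psi_apply (σ : Equiv.Perm (Fin n)) (a : Fin M) : L.psi σ a = L.map σ a := rfl

theorem psi_tau (a b : Fin M) : L.psi (L.tau a) b = L.act a b := rfl

theorem tau_dec {i j : Fin n} (h : i ≠ j) : L.tau (L.dec i j) = Equiv.swap i j := by
  rcases lt_or_gt_of_ne h with h' | h'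
  · rw [tau, L.enc_dec i j h']
  · rw [tau, L.symm i j, L.enc_dec j i h', Equiv.swap_comm]

theorem tau_map (σ : Equiv.Perm (Fin n)) (a : Fin M) : σ * L.tau a * σ⁻¹ = L.tau (L.map σ a) := by
  have h : σ (L.enc a).1 ≠ σ (L.enc a).2 := fun e => (L.lt a).ne (σ.injective e)
  rw [show L.map σ a = L.dec _ _ from rfl, L.tau_dec h, tau, Equiv.swap_apply_apply]

theorem map_act (σ : Equiv.Perm (Fin n)) (a b : Fin M) :
    L.map σ (L.act a b) = L.act (L.map σ a) (L.map σ b) := by
  rw [act, act, L.map_map, ← L.tau_map, L.map_map]
  congr 1
  group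

theorem psi_injective (hn : 3 ≤ n) : Function.Injective L.psi := by
  rw [injective_iff_map_eq_one]
  intro σ hσ
  have key : ∀ i j : Fin n, i ≠ j → σ i = i ∨ σ i = j := by
    intro i j hij
    have h : L.dec (σ i) (σ j) = L.dec i j := by
      rw [← L.map_dec σ hij, ← psi_apply, hσ]; rfl
    have h1 := congrArg L.tau h
    rw [L.tau_dec hij, L.tau_dec (fun e => hij (σ.injective e))] at h1
    by_contra hc
    rw [not_or] at hc
    have := DFunLike.congr_fun h1 (σ i)
    rw [Equiv.swap_apply_left, Equiv.swap_apply_of_ne_of_ne hc.1 hc.2] at this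
    exact hij (σ.injective this).symm
  refine Equiv.ext fun i => ?_
  have hc : 2 < Fintype.card (Fin n) := by rw [Fintype.card_fin]; omega
  obtain ⟨j, hji⟩ := Fintype.exists_ne_of_one_lt_card (α := Fin n) (by omega) i
  obtain ⟨k, hk⟩ : ∃ k : Fin n, k ≠ i ∧ k ≠ j := by
    by_contra hne
    simp only [not_exists, not_and, not_not] at hne
    have hsub : (Finset.univ : Finset (Fin n)) ⊆ {i, j} := fun k _ => by
      by_cases hki : k = i
      · simp [hki]
      · simp [hne k hki]
    have := (Finset.card_le_card hsub).trans (Finset.card_le_two)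
    rw [Finset.card_univ] at this
    omega
  rcases key i j hji.symm with h1 | h1
  · exact h1
  rcases key i k hk.1.symm with h2 | h2
  · exact h2
  · exact absurd (h1.symm.trans h2) hk.2.symm

theorem psi_mem_closure (σ : Equiv.Perm (Fin n)) :
    L.psi σ ∈ Subgroup.closure (Set.range fun a => L.psi (L.tau a)) := by
  have h : σ ∈ Subgroup.closure {τ : Equiv.Perm (Fin n) | τ.IsSwap} := by
    rw [Equiv.Perm.closure_isSwap]; exact Subgroup.mem_top _
  have h2 := Subgroup.mem_map_of_mem L.psi h
  rw [MonoidHom.map_closure] at h2
  refine Subgroup.closure_mono ?_ h2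
  rintro _ ⟨τ, ⟨i, j, hij, rfl⟩, rfl⟩
  exact ⟨L.dec i j, by simp only [L.tau_dec hij]⟩

/-- The rank of a pair. -/
def rank (a : Fin M) : ℕ := ((L.enc a).2 : ℕ) - (L.enc a).1

/-- A good step: a word of length at most two in the transpositions fixing the first `m` places. -/
def stepK (c : List (Fin M)) (m : ℕ) (q t : Fin M) : Bool :=
  let ok := fun a => (c.take m).all fun x => decide (L.act a x = x)
  decide (q = t) || ((List.finRange M).any fun a => ok a && decide (L.act a q = t)) ||
    (List.finRange M).any fun b => ok b && (List.finRange M).any fun a =>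
      decide (L.act a (L.act b q) = t) && ok a

/-- An impossible image of the next place. -/
def badK (c : List (Fin M)) (m : ℕ) (q t : Fin M) : Bool :=
  (c.take m).any fun x => decide (q = x) || !(decide (L.act x q = q) == decide (L.act x t = t))

/-- The check for the descent along a list of places. -/
def descK (c : List (Fin M)) : Bool :=
  (decide c.Nodup && ((List.finRange c.length).all fun m => (List.finRange M).all fun q =>
    L.badK c m q (c.get m) || L.stepK c m q (c.get m))) &&
  (List.finRange M).all fun a => decide (a ∈ c) ||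
    (List.finRange M).any fun b => decide (L.rank b < L.rank a) &&
      (List.finRange M).any fun x => decide (L.act b x = a) && decide (L.rank x < L.rank a)

theorem descend {c : List (Fin M)} (hc : L.descK c = true) (π : Equiv.Perm (Fin M))
    (hπ : ∀ a b, π (L.act a b) = L.act (π a) (π b)) : ∃ σ, L.psi σ = π := by
  simp only [descK, Bool.and_eq_true, decide_eq_true_eq, List.all_eq_true,
    Bool.or_eq_true, List.mem_finRange, forall_true_left] at hc
  obtain ⟨⟨hnd, hstep⟩, hgen⟩ := hc
  have equi : ∀ σ a b, (L.psi σ * π) (L.act a b) = L.act ((L.psi σ * π) a) ((L.psi σ * π) b) := by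
    intro σ a b
    simp only [Equiv.Perm.mul_apply, psi_apply, hπ, L.map_act]
  have main : ∀ m ≤ c.length, ∃ σ, ∀ x ∈ c.take m, (L.psi σ * π) x = x := by
    intro m
    induction m with
    | zero => intro _; exact ⟨1, by simp⟩
    | succ m ih =>
      intro hm
      obtain ⟨σ, hσ⟩ := ih (by omega)
      set t := c.get ⟨m, by omega⟩ with ht
      have htake : c.take (m + 1) = c.take m ++ [t] := by
        rw [List.take_succ_eq_append_getElem (by omega), ht, List.get_eq_getElem]
      set q := (L.psi σ * π) t with hq
      have h := hstep ⟨m, by omega⟩ q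
      rw [← ht] at h
      rcases h with h | h
      · exfalso
        simp only [badK, List.any_eq_true, Bool.or_eq_true, decide_eq_true_eq, Bool.not_eq_true',
          beq_eq_false_iff_ne, ne_eq] at h
        obtain ⟨x, hx, hx'⟩ := h
        rcases hx' with hx' | hx'
        · have : t = x := (L.psi σ * π).injective (by rw [hσ x hx]; exact hx')
          have h2 : t ∈ c.take m := this ▸ hx
          rw [List.mem_take_iff_getElem] at h2
          obtain ⟨j, hj, hje⟩ := h2
          have := (hnd.getElem_inj_iff).1 hje
          omega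
        · refine hx' ((decide_eq_decide).2 ?_)
          have e := equi σ x t
          rw [hσ x hx, ← hq] at e
          constructor
          · intro hh
            exact (L.psi σ * π).injective (by rw [e, ← hq, hh])
          · intro hh
            rw [hh, ← hq] at e
            exact e.symm
      · obtain ⟨τ, hτ, hτq⟩ : ∃ τ, (∀ x ∈ c.take m, L.map τ x = x) ∧ L.map τ q = t := by
          simp only [stepK, Bool.or_eq_true, decide_eq_true_eq, List.any_eq_true, Bool.and_eq_true,
            List.all_eq_true] at h
          rcases h with (h | ⟨a, -, ha, h⟩) | ⟨b, -, hb, a, -, h, ha⟩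
          · exact ⟨1, fun x _ => L.map_one x, by rw [L.map_one, h]⟩
          · exact ⟨L.tau a, ha, h⟩
          · refine ⟨L.tau a * L.tau b, fun x hx => ?_, ?_⟩
            · rw [← L.map_map]
              show L.act a (L.act b x) = x
              rw [hb x hx, ha x hx]
            · rw [← L.map_map]; exact h
        refine ⟨τ * σ, fun x hx => ?_⟩
        rw [htake, List.mem_append, List.mem_singleton] at hx
        rw [map_mul, mul_assoc, Equiv.Perm.mul_apply, psi_apply]
        rcases hx with hx | rfl
        · rw [hσ x hx, hτ x hx]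
        · rw [← hq, hτq]
  obtain ⟨σ, hσ⟩ := main c.length le_rfl
  rw [List.take_length] at hσ
  have hall : ∀ r, ∀ a, L.rank a = r → (L.psi σ * π) a = a := by
    intro r
    induction r using Nat.strong_induction_on with
    | _ r ih =>
      intro a ha
      rcases hgen a with h | h
      · exact hσ a h
      · simp only [List.any_eq_true, Bool.and_eq_true, decide_eq_true_eq] at h
        obtain ⟨b, -, hb, x, -, he, hx⟩ := h
        rw [← he, equi, ih _ (ha ▸ hb) b rfl, ih _ (ha ▸ hx) x rfl]
  refine ⟨σ⁻¹, ?_⟩
  have : L.psi σ * π = 1 := Equiv.ext fun a => hall _ a rfl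
  rw [map_inv, inv_eq_of_mul_eq_one_right this]

end PairLabel

/-- The pairs in lexicographic order. -/
def pairList (n : ℕ) : List (ℕ × ℕ) :=
  (List.range n).flatMap fun i => ((List.range n).filter fun j => decide (i < j)).map fun j => (i, j)

/-- The numbering of the pairs of seven things. -/
def label7 : PairLabel 7 21 where
  enc a := ((pairList 7).map fun p => ((Fin.ofNat 7 p.1, Fin.ofNat 7 p.2))).getD a (0, 1)
  dec i j := Fin.ofNat 21 ((pairList 7).idxOf (min (i : ℕ) j, max (i : ℕ) j))
  lt := by decide +kernel
  dec_enc := by decide +kernel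
  enc_dec := by decide +kernel
  symm := by decide +kernel

/-- The numbering of the pairs of five things. -/
def label5 : PairLabel 5 10 where
  enc a := ((pairList 5).map fun p => ((Fin.ofNat 5 p.1, Fin.ofNat 5 p.2))).getD a (0, 1)
  dec i j := Fin.ofNat 10 ((pairList 5).idxOf (min (i : ℕ) j, max (i : ℕ) j))
  lt := by decide +kernel
  dec_enc := by decide +kernel
  enc_dec := by decide +kernel
  symm := by decide +kernel

/-- The numbering of the pairs of three things. -/
def label3 : PairLabel 3 3 where
  enc a := ((pairList 3).map fun p => ((Fin.ofNat 3 p.1, Fin.ofNat 3 p.2))).getD a (0, 1)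
  dec i j := Fin.ofNat 3 ((pairList 3).idxOf (min (i : ℕ) j, max (i : ℕ) j))
  lt := by decide +kernel
  dec_enc := by decide +kernel
  enc_dec := by decide +kernel
  symm := by decide +kernel

theorem desc7 : label7.descK [0, 6, 11, 15, 18, 20] = true := by decide +kernel
theorem desc5 : label5.descK [0, 4, 7, 9] = true := by decide +kernel
theorem desc3 : label3.descK [0, 2] = true := by decide +kernel

end CfsgLib.Sporadic.FiTransfer.Norm23
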