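import Mathlib
import Cfsg.Prelude.Def_Transfer

/-!
The shapes of normalisers of subgroups of prime order, and their transport along isomorphisms.
-/

set_option autoImplicit false

namespace CfsgLib.Sporadic.FiTransfer.Norm23

variable {G H : Type*} [Group G] [Group H]

/-- The transpositions commuting with `X`, generating a subgroup. -/
def centClosure (D : Set G) (X : Subgroup G) : Subgroup G :=
  Subgroup.closure (D ∩ (Subgroup.centralizer ((X : Subgroup G) : Set G) : Set G))

/-- The normaliser of `X` is a Frobenius group of order `m` times a symmetric group of degree `n`. -/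
def NormalShape (D : Set G) (m n : ℕ) (X : Subgroup G) : Prop :=
  ∃ F : Subgroup G, Nat.card ↥F = m ∧ X ≤ F ∧ F ⊓ Subgroup.centralizer ((X : Subgroup G) : Set G) = X ∧
    F ⊓ centClosure D X = ⊥ ∧ (∀ x ∈ F, ∀ y ∈ centClosure D X, x * y = y * x) ∧
    F ⊔ centClosure D X = Subgroup.normalizer ((X : Subgroup G) : Set G) ∧
    Nonempty (↥(centClosure D X) ≃* Equiv.Perm (Fin n))

/-- Two transpositions commute with `X`; the shape of the part of the normaliser fixing one. -/
def PairShape (D : Set G) (X : Subgroup G) : Prop :=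
  ∃ d b : G, d ∈ D ∧ b ∈ D ∧ d ≠ b ∧
    (D ∩ (Subgroup.centralizer ((X : Subgroup G) : Set G) : Set G)) = {d, b} ∧
    ∃ F : Subgroup G, Nat.card ↥F = 55 ∧ X ≤ F ∧
      F ⊓ Subgroup.centralizer ((X : Subgroup G) : Set G) = X ∧
      F ⊓ Subgroup.closure ({d, b} : Set G) = ⊥ ∧
      (∀ x ∈ F, ∀ y ∈ Subgroup.closure ({d, b} : Set G), x * y = y * x) ∧
      F ⊔ Subgroup.closure ({d, b} : Set G) =
        (Subgroup.normalizer ((X : Subgroup G) : Set G) ⊓ Subgroup.centralizer ({d} : Set G)) ∧
      ((Subgroup.normalizer ((X : Subgroup G) : Set G) ⊓ Subgroup.centralizer ({d} : Set G)).subgroupOf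
        (Subgroup.normalizer ((X : Subgroup G) : Set G))).index = 2

/-- The normaliser of `X` has order `m` and `X` is self-centralising. -/
def FreeShape (m : ℕ) (X : Subgroup G) : Prop :=
  Nat.card ↥(Subgroup.normalizer ((X : Subgroup G) : Set G)) = m ∧
    Subgroup.centralizer ((X : Subgroup G) : Set G) = X

/-- The shape of a Sylow subgroup for the prime five. -/
def SylowShape (D : Set G) (E : Subgroup G) : Prop :=
  Cfsg.IsElementaryAbelian 5 E ∧ Nat.card E = 25 ∧
    (∃ d ∈ D, E ⊓ Subgroup.zpowers d = ⊥ ∧ (∀ x ∈ E, ∀ y ∈ Subgroup.zpowers d, x * y = y * x) ∧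
      E ⊔ Subgroup.zpowers d = Subgroup.centralizer ((E : Subgroup G) : Set G)) ∧
    Nat.card ↥(Subgroup.normalizer ((E : Subgroup G) : Set G)) = 4800

theorem map_centralizer (e : G ≃* H) (s : Set G) :
    (Subgroup.centralizer s).map e.toMonoidHom = Subgroup.centralizer (e '' s) := by
  ext y
  rw [Subgroup.mem_map_equiv, Subgroup.mem_centralizer_iff, Subgroup.mem_centralizer_iff,
    Set.forall_mem_image]
  refine forall₂_congr fun x _ => ?_
  rw [← e.injective.eq_iff, map_mul, map_mul, e.apply_symm_apply]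

theorem map_centralizer_subgroup (e : G ≃* H) (X : Subgroup G) :
    (Subgroup.centralizer (X : Set G)).map e.toMonoidHom =
      Subgroup.centralizer ((X.map e.toMonoidHom : Subgroup H) : Set H) := by
  rw [map_centralizer, Subgroup.coe_map]
  rfl

theorem map_normalizer (e : G ≃* H) (X : Subgroup G) :
    (Subgroup.normalizer (X : Set G)).map e.toMonoidHom =
      Subgroup.normalizer ((X.map e.toMonoidHom : Subgroup H) : Set H) := by
  ext y
  rw [Subgroup.mem_map_equiv, Subgroup.mem_normalizer_iff, Subgroup.mem_normalizer_iff]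
  constructor
  · intro h z
    rw [Subgroup.mem_map_equiv, Subgroup.mem_map_equiv, h, map_mul, map_mul, map_inv]
  · intro h z
    have := h (e z)
    rw [Subgroup.mem_map_equiv, Subgroup.mem_map_equiv, map_mul, map_mul, map_inv,
      e.symm_apply_apply] at this
    exact this

theorem map_centClosure (e : G ≃* H) {D : Set G} {D' : Set H} (he : e '' D = D') (X : Subgroup G) :
    (centClosure D X).map e.toMonoidHom = centClosure D' (X.map e.toMonoidHom) := by
  rw [centClosure, centClosure, MonoidHom.map_closure, ← map_centralizer_subgroup, Subgroup.coe_map,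
    ← he]
  congr 1
  exact Set.image_inter e.injective

/-- Pullback of a subgroup. -/
theorem map_comap_equiv (e : G ≃* H) (F : Subgroup H) :
    (F.comap e.toMonoidHom).map e.toMonoidHom = F :=
  Subgroup.map_comap_eq_self_of_surjective e.surjective F

theorem card_map_equiv (e : G ≃* H) (F : Subgroup G) : Nat.card (F.map e.toMonoidHom) = Nat.card F :=
  Subgroup.card_map_of_injective e.injective

theorem comm_of_map (e : G ≃* H) {A B : Subgroup G}
    (h : ∀ x ∈ A.map e.toMonoidHom, ∀ y ∈ B.map e.toMonoidHom, x * y = y * x) :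
    ∀ x ∈ A, ∀ y ∈ B, x * y = y * x := fun x hx y hy =>
  e.injective (by
    rw [map_mul, map_mul]
    exact h _ (Subgroup.mem_map_of_mem e.toMonoidHom hx) _ (Subgroup.mem_map_of_mem e.toMonoidHom hy))

theorem NormalShape.pull (e : G ≃* H) {D : Set G} {D' : Set H} (he : e '' D = D') {m n : ℕ}
    {X : Subgroup G} (h : NormalShape D' m n (X.map e.toMonoidHom)) : NormalShape D m n X := by
  obtain ⟨F', hc, hle, hFC, hFS, hcomm, hsup, ⟨ψ⟩⟩ := h
  have hinj : Function.Injective (Subgroup.map e.toMonoidHom) := Subgroup.map_injective e.injective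
  set F := F'.comap e.toMonoidHom
  have hF : F.map e.toMonoidHom = F' := map_comap_equiv e F'
  refine ⟨F, by rw [← card_map_equiv e, hF, hc], Subgroup.map_le_iff_le_comap.1 hle, hinj ?_, hinj ?_,
    comm_of_map e ?_, hinj ?_, ⟨?_⟩⟩
  · rw [Subgroup.map_inf _ _ _ e.injective, hF, map_centralizer_subgroup, hFC]
  · rw [Subgroup.map_inf _ _ _ e.injective, hF, map_centClosure e he, hFS, Subgroup.map_bot]
  · rw [hF, map_centClosure e he]; exact hcomm
  · rw [Subgroup.map_sup, hF, map_centClosure e he, hsup, map_normalizer]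
  · exact ((centClosure D X).equivMapOfInjective e.toMonoidHom e.injective).trans
      ((MulEquiv.subgroupCongr (map_centClosure e he X)).trans ψ)

theorem index_subgroupOf_map (e : G ≃* H) (A B : Subgroup G) :
    ((A.map e.toMonoidHom).subgroupOf (B.map e.toMonoidHom)).index = (A.subgroupOf B).index :=
  Subgroup.relIndex_map_map_of_injective A B e.injective

theorem PairShape.pull (e : G ≃* H) {D : Set G} {D' : Set H} (he : e '' D = D')
    {X : Subgroup G} (h : PairShape D' (X.map e.toMonoidHom)) : PairShape D X := by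
  obtain ⟨d', b', hd, hb, hne, hset, F', hc, hle, hFC, hFS, hcomm, hsup, hidx⟩ := h
  obtain ⟨d, rfl⟩ := e.surjective d'
  obtain ⟨b, rfl⟩ := e.surjective b'
  have hinj : Function.Injective (Subgroup.map e.toMonoidHom) := Subgroup.map_injective e.injective
  have hcl : (Subgroup.closure ({d, b} : Set G)).map e.toMonoidHom = Subgroup.closure {e d, e b} := by
    rw [MonoidHom.map_closure, Set.image_pair]
    rfl
  have hsingle : (Subgroup.centralizer ({d} : Set G)).map e.toMonoidHom =
      Subgroup.centralizer ({e d} : Set H) := by rw [map_centralizer, Set.image_singleton]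
  set F := F'.comap e.toMonoidHom
  have hF : F.map e.toMonoidHom = F' := map_comap_equiv e F'
  have hN : (Subgroup.normalizer (X : Set G) ⊓ Subgroup.centralizer ({d} : Set G)).map e.toMonoidHom =
      Subgroup.normalizer ((X.map e.toMonoidHom : Subgroup H) : Set H) ⊓ Subgroup.centralizer {e d} := by
    rw [Subgroup.map_inf _ _ _ e.injective, map_normalizer, hsingle]
  refine ⟨d, b, (e.injective.mem_set_image).1 (he.symm ▸ hd), (e.injective.mem_set_image).1 (he.symm ▸ hb),
    fun hdb => hne (congrArg e hdb), e.injective.image_injective ?_, F,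
    by rw [← card_map_equiv e, hF, hc], Subgroup.map_le_iff_le_comap.1 hle, hinj ?_, hinj ?_,
    comm_of_map e ?_, hinj ?_, ?_⟩
  · rw [Set.image_inter e.injective, he, Set.image_pair, ← hset, ← map_centralizer_subgroup]
    rfl
  · rw [Subgroup.map_inf _ _ _ e.injective, hF, map_centralizer_subgroup, hFC]
  · rw [Subgroup.map_inf _ _ _ e.injective, hF, hcl, hFS, Subgroup.map_bot]
  · rw [hF, hcl]; exact hcomm
  · rw [Subgroup.map_sup, hF, hcl, hN, hsup]
  · rw [← index_subgroupOf_map e, hN, map_normalizer]; exact hidx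

theorem FreeShape.pull (e : G ≃* H) {m : ℕ} {X : Subgroup G} (h : FreeShape m (X.map e.toMonoidHom)) :
    FreeShape m X :=
  ⟨by rw [← card_map_equiv e, map_normalizer, h.1],
    Subgroup.map_injective (f := e.toMonoidHom) e.injective (by rw [map_centralizer_subgroup, h.2])⟩

theorem SylowShape.pull (e : G ≃* H) {D : Set G} {D' : Set H} (he : e '' D = D') {E : Subgroup G}
    (h : SylowShape D' (E.map e.toMonoidHom)) : SylowShape D E := by
  obtain ⟨hea, hc, ⟨d', hd, hbot, hcomm, hsup⟩, hn⟩ := h
  obtain ⟨d, rfl⟩ := e.surjective d'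
  have hinj : Function.Injective (Subgroup.map e.toMonoidHom) := Subgroup.map_injective e.injective
  have hz : (Subgroup.zpowers d).map e.toMonoidHom = Subgroup.zpowers (e d) := MonoidHom.map_zpowers _ _
  refine ⟨?_, by rw [← card_map_equiv e, hc], ⟨d, (e.injective.mem_set_image).1 (he.symm ▸ hd), hinj ?_,
    comm_of_map e ?_, hinj ?_⟩, by rw [← card_map_equiv e, map_normalizer, hn]⟩
  · obtain ⟨h1, h2⟩ := hea
    let ψ := E.equivMapOfInjective e.toMonoidHom e.injective
    exact ⟨⟨⟨fun a b => ψ.injective (by rw [map_mul, map_mul]; exact h1.is_comm.comm _ _)⟩⟩,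
      fun a ha => e.injective (by
        rw [map_pow, map_one]; exact h2 _ (Subgroup.mem_map_of_mem e.toMonoidHom ha))⟩
  · rw [Subgroup.map_inf _ _ _ e.injective, hz, hbot, Subgroup.map_bot]
  · rw [hz]; exact hcomm
  · rw [Subgroup.map_sup, hz, hsup, map_centralizer_subgroup]

/-- Conjugation moves a conjugation invariant set to itself. -/
theorem conj_image {D : Set G} (hD : ∀ g : G, ∀ d ∈ D, g * d * g⁻¹ ∈ D) (g : G) :
    MulAut.conj g '' D = D := by
  ext y
  constructor
  · rintro ⟨x, hx, rfl⟩; exact hD g x hx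
  · intro hy
    exact ⟨g⁻¹ * y * g, by simpa using hD g⁻¹ y hy, by simp [mul_assoc]⟩

/-- All subgroups of one order have a property. -/
theorem all_of_conj (P : Subgroup G → Prop) (hP : ∀ (g : G) (X : Subgroup G),
    P (X.map (MulAut.conj g).toMonoidHom) → P X) {p : ℕ}
    (hconj : ∀ X Y : Subgroup G, Nat.card X = p → Nat.card Y = p →
      ∃ g : G, X.map (MulAut.conj g).toMonoidHom = Y)
    {X₀ : Subgroup G} (hc : Nat.card X₀ = p) (h : P X₀) : ∀ X : Subgroup G, Nat.card X = p → P X := by
  intro X hX
  obtain ⟨g, hg⟩ := hconj X X₀ hX hc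
  exact hP g X (hg ▸ h)

/-- Conjugacy of subgroups of one order, transported. -/
theorem conj_pull (e : G ≃* H) {p : ℕ}
    (h : ∀ X Y : Subgroup H, Nat.card X = p → Nat.card Y = p →
      ∃ g : H, X.map (MulAut.conj g).toMonoidHom = Y) :
    ∀ X Y : Subgroup G, Nat.card X = p → Nat.card Y = p →
      ∃ g : G, X.map (MulAut.conj g).toMonoidHom = Y := by
  intro X Y hX hY
  obtain ⟨g, hg⟩ := h (X.map e.toMonoidHom) (Y.map e.toMonoidHom)
    (by rw [card_map_equiv, hX]) (by rw [card_map_equiv, hY])
  refine ⟨e.symm g, Subgroup.map_injective (f := e.toMonoidHom) e.injective ?_⟩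
  rw [← hg, Subgroup.map_map, Subgroup.map_map]
  congr 1
  ext x
  simp

/-- Subgroups of prime order are conjugate when the square of the prime does not divide the group order. -/
theorem conj_of_prime [Finite G] {p : ℕ} (hp : p.Prime) (h : ¬ p ^ 2 ∣ Nat.card G) :
    ∀ X Y : Subgroup G, Nat.card X = p → Nat.card Y = p →
      ∃ g : G, X.map (MulAut.conj g).toMonoidHom = Y := by
  haveI := Fact.mk hp
  intro X Y hX hY
  have hdvd : p ∣ Nat.card G := hX ▸ Subgroup.card_subgroup_dvd_card X
  have hne : Nat.card G ≠ 0 := Nat.card_pos.ne'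
  have hfac : (Nat.card G).factorization p = 1 := by
    have h1 := hp.dvd_iff_one_le_factorization hne |>.1 hdvd
    have h2 : ¬ 2 ≤ (Nat.card G).factorization p := fun h' =>
      h ((hp.pow_dvd_iff_le_factorization hne).2 h')
    omega
  obtain ⟨g, hg⟩ := MulAction.exists_smul_eq G (Sylow.ofCard X (by rw [hX, hfac, pow_one]))
    (Sylow.ofCard Y (by rw [hY, hfac, pow_one]))
  refine ⟨g, ?_⟩
  have := congrArg (fun S : Sylow p G => (S : Subgroup G)) hg
  simp only [Sylow.coe_subgroup_smul, Subgroup.pointwise_smul_def] at this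
  exact this

end CfsgLib.Sporadic.FiTransfer.Norm23
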