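import Cfsg.Agent.Lib.Sporadic.FiTransfer23.Model
import Cfsg.Agent.Lib.Sporadic.FiTransfer.Norm23.Act
import Cfsg.Agent.Lib.Sporadic.FiTransfer.Norm23.Frob
import Cfsg.Agent.Lib.Sporadic.FiTransfer.Norm23.Pairs
import Cfsg.Agent.Lib.Sporadic.FiTransfer.Norm23.Transport

/-!
From a list of fixed points carrying the pairs of a small set to the shape of a normaliser.
-/

set_option autoImplicit false
set_option maxRecDepth 100000

open Cfsg.Spor

namespace CfsgLib.Sporadic.FiTransfer.Norm23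

open CosetCert.Fi23P (pt tr tr_mem_ker tr_ne_one center_eq card_ker_toFi22 coding sub lH relE7_mem finite)
open CosetCert.Fi23P.Two (zz zz_comm)
open CosetCert.Fi23P.OutFi (zz_eq_dp dp_ne_one)
open CosetCert.Fi23Data (table)

attribute [local irreducible] CosetCert.PTab.img CosetCert.Forest.cls

theorem tr_eq_tp : tr = tp 0 := by
  have : Finite Fi23 := finite
  have h0 : tp 0 = zz := by
    rw [zz_eq_dp, ← tp_fin]
    rfl
  have hz : (⟨zz, relE7_mem⟩ : sub lH) ∈ Subgroup.center (sub lH) :=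
    Subgroup.mem_center_iff.2 fun k => Subtype.ext (zz_comm k.2).eq
  rw [center_eq] at hz
  have hzne : zz ≠ 1 := by rw [zz_eq_dp]; exact dp_ne_one _
  obtain ⟨y, -, hy⟩ := (Nat.card_eq_two_iff' (1 : CosetCert.Fi23P.toFi22.ker)).1 card_ker_toFi22
  have e1 := hy ⟨_, tr_mem_ker⟩ fun e => tr_ne_one (congrArg (fun z : CosetCert.Fi23P.toFi22.ker => ((z : sub lH) : Fi23)) e)
  have e2 := hy ⟨_, hz⟩ fun e => hzne (congrArg (fun z : CosetCert.Fi23P.toFi22.ker => ((z : sub lH) : Fi23)) e)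
  rw [h0]
  exact congrArg (fun z : CosetCert.Fi23P.toFi22.ker => ((z : sub lH) : Fi23)) (e1.trans e2.symm)

/-- The class consists of the numbered transpositions. -/
theorem mem_class_iff {y : Fi23} : y ∈ FiTransfer23.classTr ↔ ∃ v < 31671, tp v = y := by
  constructor
  · intro hy
    obtain ⟨g, rfl⟩ := isConj_iff.1 hy
    exact ⟨act g 0, act_lt (by norm_num), by rw [tr_eq_tp, conj_tp]⟩
  · rintro ⟨v, hv, rfl⟩
    obtain ⟨g, hg⟩ := CosetCert.Fi23P.transitive ⟨v, show v < table.N from hv⟩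
    refine isConj_iff.2 ⟨g, ?_⟩
    rw [tr_eq_tp, conj_tp, act, dif_pos (show 0 < table.N by rw [N_val]; norm_num)]
    exact congrArg (fun u => tp (u : Fin table.N)) hg

/-- A commuting power of an element of prime order is trivial when the normaliser acts faithfully. -/
theorem eq_one_of_commute_n {X n : Fi23} {p e k : ℕ} (FD : FrobData X n p e k) (hp : p.Prime) (he : 1 < e)
    {i : ℕ} (h : Commute n (X ^ i)) : X ^ i = 1 := by
  by_contra hne
  have hcop : i.Coprime (orderOf X) := by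
    rw [FD.ord]
    refine ((hp.coprime_iff_not_dvd).2 fun hd => hne ?_).symm
    obtain ⟨t, rfl⟩ := hd
    rw [pow_mul, ← FD.ord, pow_orderOf_eq_one, one_pow]
  obtain ⟨m, hm⟩ := exists_pow_eq_self_of_coprime hcop
  have hc : Commute n X := hm ▸ h.pow_right m
  have h2 : X ^ (k ^ 1) = X := by rw [pow_one, ← FD.conj, hc.eq, mul_inv_cancel_right]
  exact absurd (FD.eq_zero_of_pow he h2) one_ne_zero

theorem centClosure_eq {X : Fi23} {M : ℕ} {fp : Fin M → ℕ} (hlt : ∀ a, fp a < 31671)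
    (hfix : ∀ v < 31671, act X v = v ↔ ∃ a, fp a = v) :
    FiTransfer23.classTr ∩ (Subgroup.centralizer ((Subgroup.zpowers X : Subgroup Fi23) : Set Fi23) : Set Fi23) =
      Set.range fun a => tp (fp a) := by
  ext y
  rw [Set.mem_inter_iff, SetLike.mem_coe, mem_centralizer_zpowers, mem_class_iff]
  constructor
  · rintro ⟨⟨v, hv, rfl⟩, hy⟩
    obtain ⟨a, rfl⟩ := (hfix v hv).1 ((commute_tp_iff hv).1 hy.symm)
    exact ⟨a, rfl⟩
  · rintro ⟨a, rfl⟩
    exact ⟨⟨_, hlt a, rfl⟩, ((commute_tp_iff (hlt a)).2 ((hfix _ (hlt a)).2 ⟨a, rfl⟩)).symm⟩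

/-- An element normalising a cyclic group permutes the points fixed by its generator. -/
theorem fix_map {X g : Fi23} (hg : g ∈ Subgroup.normalizer ((Subgroup.zpowers X : Subgroup Fi23) : Set Fi23))
    {v : ℕ} (hv : act X v = v) : act X (act g v) = act g v := by
  have hf : ∀ a ∈ Subgroup.zpowers X, act a v = v := by
    let St : Subgroup Fi23 :=
      { carrier := {a | act a v = v}
        one_mem' := act_one v
        mul_mem' := fun {a b} ha hb => by
          show act (a * b) v = v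
          rw [act_mul, show act b v = v from hb]; exact ha
        inv_mem' := fun {a} ha => act_inv_fix ha }
    exact (Subgroup.zpowers_le (H := St)).2 hv
  have h : g⁻¹ * X * g ∈ Subgroup.zpowers X := by
    have := (Subgroup.mem_normalizer_iff.1 (inv_mem hg) X).1 (Subgroup.mem_zpowers X)
    rwa [inv_inv] at this
  have h2 := congrArg (act g) (hf _ h)
  rwa [← act_mul, ← mul_assoc, mul_inv_cancel_left, act_mul] at h2

/-- Reduce the exponent by which an element acts. -/
theorem FrobData.reduce {X n : Fi23} {p e k : ℕ} (FD : FrobData X n p e k) {g : Fi23} {j : ℕ}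
    (hj : g * X * g⁻¹ = X ^ j) {R : List ℕ}
    (hres : (List.range p).all (fun j => Nat.beq j 0 || (List.range e).any fun l => R.contains (k ^ l * j % p)) =
      true) : ∃ l r, r ∈ R ∧ n ^ l * g * X * (n ^ l * g)⁻¹ = X ^ r := by
  have hp := FD.p_gt
  have h := List.all_eq_true.1 hres (j % p) (List.mem_range.2 (Nat.mod_lt _ (by omega)))
  rw [Bool.or_eq_true, List.any_eq_true] at h
  rcases h with h | ⟨l, -, h⟩
  · exfalso
    rw [Nat.beq_eq] at h
    rw [← FD.pow_mod_p, h, pow_zero] at hj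
    have hX : X = 1 := by
      have := congrArg (fun z => g⁻¹ * z * g) hj
      simpa [mul_assoc] using this
    have := FD.ord
    rw [hX, orderOf_one] at this
    omega
  · rw [List.contains_iff_mem] at h
    refine ⟨l, _, h, ?_⟩
    rw [FD.pow_mod_p, ← FD.conj_pow' l, FD.pow_mod_p, ← hj]
    group

section Pairs

variable {X n : Fi23} {p e k nn M : ℕ} (L : PairLabel nn M) (fp : Fin M → ℕ)

/-- An element acts on the fixed points as a permutation of the small set. -/
def Rel (g : Fi23) (σ : Equiv.Perm (Fin nn)) : Prop := ∀ b, act g (fp b) = fp (L.map σ b)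

theorem Rel.mul {g g' : Fi23} {σ τ : Equiv.Perm (Fin nn)} (h : Rel L fp g σ) (h' : Rel L fp g' τ) :
    Rel L fp (g * g') (σ * τ) := fun b => by rw [act_mul, h', h, L.map_map]

theorem Rel.one : Rel L fp 1 1 := fun b => by rw [act_one, L.map_one]

theorem Rel.inv {g : Fi23} {σ : Equiv.Perm (Fin nn)} (h : Rel L fp g σ) : Rel L fp g⁻¹ σ⁻¹ := fun b => by
  conv_lhs => rw [← L.map_one b, ← mul_inv_cancel σ, ← L.map_map, ← h]
  rw [act_inv_cancel]

theorem exists_rel {c : List (Fin M)} (hc : L.descK c = true) (hlt : ∀ a, fp a < 31671)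
    (hinj : Function.Injective fp) (hfix : ∀ v < 31671, act X v = v ↔ ∃ a, fp a = v)
    (hact : ∀ a b, act (tp (fp a)) (fp b) = fp (L.act a b)) {g : Fi23}
    (hg : g ∈ Subgroup.normalizer ((Subgroup.zpowers X : Subgroup Fi23) : Set Fi23)) :
    ∃ σ, Rel L fp g σ := by
  have hmap : ∀ a, ∃ b, fp b = act g (fp a) := fun a =>
    (hfix _ (act_lt (hlt a))).1 (fix_map hg ((hfix _ (hlt a)).2 ⟨a, rfl⟩))
  choose π hπ using hmap
  have hπinj : Function.Injective π := fun a b h => hinj (act_injective g (by rw [← hπ, ← hπ, h]))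
  let π' : Equiv.Perm (Fin M) := Equiv.ofBijective π (Finite.injective_iff_bijective.1 hπinj)
  obtain ⟨σ, hσ⟩ := L.descend hc π' (fun a b => hinj (by
    show fp (π _) = fp (L.act (π a) (π b))
    rw [hπ, ← hact, ← hact, hπ, hπ, ← act_mul, ← act_mul, ← conj_tp, inv_mul_cancel_right]))
  refine ⟨σ, fun b => ?_⟩
  rw [← L.psi_apply, hσ, ← hπ]
  rfl

theorem normalShape (FD : FrobData X n p e k) (hp : p.Prime) (he : 1 < e) (h3 : 3 ≤ nn) {c : List (Fin M)}
    (hc : L.descK c = true) (hlt : ∀ a, fp a < 31671) (hinj : Function.Injective fp)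
    (hfix : ∀ v < 31671, act X v = v ↔ ∃ a, fp a = v) (hn : ∀ a, act n (fp a) = fp a)
    (hact : ∀ a b, act (tp (fp a)) (fp b) = fp (L.act a b))
    (hker : ∀ g : Fi23, (∀ a, act g (fp a) = fp a) → (∃ j : ℕ, g * X * g⁻¹ = X ^ j) → g ∈ FD.F) :
    NormalShape FiTransfer23.classTr (p * e) nn (Subgroup.zpowers X) := by
  have : Finite Fi23 := finite
  set S := centClosure FiTransfer23.classTr (Subgroup.zpowers X) with hS
  have hSdef : S = Subgroup.closure (Set.range fun a => tp (fp a)) := by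
    rw [hS, centClosure, centClosure_eq hlt hfix]
  have hSX : ∀ g ∈ S, Commute g X ∧ Commute g n := by
    have hle : S ≤ Subgroup.centralizer {X, n} := by
      rw [hSdef, Subgroup.closure_le]
      rintro _ ⟨a, rfl⟩
      rw [SetLike.mem_coe, Subgroup.mem_centralizer_iff]
      intro y hy
      rcases hy with rfl | rfl
      · exact ((commute_tp_iff (hlt a)).2 ((hfix _ (hlt a)).2 ⟨a, rfl⟩)).eq
      · exact ((commute_tp_iff (hlt a)).2 (hn a)).eq
    intro g hg
    have h := Subgroup.mem_centralizer_iff.1 (hle hg)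
    exact ⟨(h X (Set.mem_insert _ _)).symm, (h n (Set.mem_insert_of_mem _ rfl)).symm⟩
  have hFfix : ∀ g ∈ FD.F, ∀ a, act g (fp a) = fp a := by
    rintro _ ⟨i, l, rfl⟩ a
    rw [act_mul, show act (n ^ l) (fp a) = fp a by
      induction l with
      | zero => rw [pow_zero, act_one]
      | succ l ih => rw [pow_succ, act_mul, hn, ih]]
    induction i with
    | zero => rw [pow_zero, act_one]
    | succ i ih => rw [pow_succ, act_mul, (hfix _ (hlt a)).2 ⟨a, rfl⟩, ih]
  have hkS : ∀ g ∈ S, (∀ a, act g (fp a) = fp a) → g = 1 := by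
    intro g hg hfixg
    obtain ⟨hgX, hgn⟩ := hSX g hg
    obtain ⟨i, l, rfl⟩ := hker g hfixg ⟨1, by rw [pow_one, hgX.eq, mul_inv_cancel_right]⟩
    rw [FD.commute_iff_l.1 hgX, mul_one] at hgn ⊢
    exact eq_one_of_commute_n FD hp he hgn.symm
  have hex : ∀ g ∈ S, ∃ σ, Rel L fp g σ := by
    intro g hg
    rw [hSdef] at hg
    induction hg using Subgroup.closure_induction with
    | mem g hg => obtain ⟨a, rfl⟩ := hg; exact ⟨L.tau a, hact a⟩
    | one => exact ⟨1, Rel.one L fp⟩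
    | mul a b _ _ ha hb =>
      obtain ⟨σ, ha⟩ := ha; obtain ⟨τ, hb⟩ := hb; exact ⟨σ * τ, ha.mul L fp hb⟩
    | inv a _ ha => obtain ⟨σ, ha⟩ := ha; exact ⟨σ⁻¹, ha.inv L fp⟩
  have huniq : ∀ {g σ τ}, Rel L fp g σ → Rel L fp g τ → σ = τ := fun {g σ τ} h h' =>
    L.psi_injective h3 (Equiv.ext fun b => hinj ((h b).symm.trans (h' b)))
  choose f hf using hex
  let φ : S →* Equiv.Perm (Fin nn) := MonoidHom.mk' (fun g => f g.1 g.2) fun a b =>
    huniq (hf _ (mul_mem a.2 b.2)) ((hf _ a.2).mul L fp (hf _ b.2))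
  have hsurj : ∀ σ : Equiv.Perm (Fin nn), ∃ g ∈ S, Rel L fp g σ := by
    intro σ
    let R : Subgroup (Equiv.Perm (Fin nn)) :=
      { carrier := {σ | ∃ g ∈ S, Rel L fp g σ}
        one_mem' := ⟨1, one_mem _, Rel.one L fp⟩
        mul_mem' := fun {σ τ} ⟨a, ha, ha'⟩ ⟨b, hb, hb'⟩ => ⟨a * b, mul_mem ha hb, ha'.mul L fp hb'⟩
        inv_mem' := fun {σ} ⟨a, ha, ha'⟩ => ⟨a⁻¹, inv_mem ha, ha'.inv L fp⟩ }
    suffices h : (⊤ : Subgroup (Equiv.Perm (Fin nn))) ≤ R from h (Subgroup.mem_top σ)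
    rw [← Equiv.Perm.closure_isSwap, Subgroup.closure_le]
    rintro _ ⟨i, j, hij, rfl⟩
    refine ⟨tp (fp (L.dec i j)), ?_, ?_⟩
    · rw [hSdef]; exact Subgroup.subset_closure ⟨_, rfl⟩
    · rw [← L.tau_dec hij]; exact hact _
  have hφ : Function.Bijective φ := by
    constructor
    · rw [injective_iff_map_eq_one]
      intro g hg
      refine Subtype.ext (hkS _ g.2 fun a => ?_)
      have := hf _ g.2 a
      rwa [show f g.1 g.2 = 1 from hg, L.map_one] at this
    · intro σ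
      obtain ⟨g, hg, hgσ⟩ := hsurj σ
      exact ⟨⟨g, hg⟩, huniq (hf g hg) hgσ⟩
  refine ⟨FD.F, FD.card_F, FD.zpowers_le, FD.inf_centralizer, ?_, ?_, ?_, ⟨MulEquiv.ofBijective φ hφ⟩⟩
  · rw [eq_bot_iff]
    rintro g ⟨hgF, hgS⟩
    exact Subgroup.mem_bot.2 (hkS g hgS (hFfix g hgF))
  · rintro _ ⟨i, l, rfl⟩ y hy
    obtain ⟨h1, h2⟩ := hSX y hy
    exact (((h1.pow_right i).mul_right (h2.pow_right l)).eq).symm
  · refine le_antisymm (sup_le ?_ ?_) fun g hg => ?_
    · rintro _ ⟨i, l, rfl⟩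
      exact mem_normalizer_zpowers.2 ⟨_, FD.conj_X i l⟩
    · intro g hg
      refine mem_normalizer_zpowers.2 ⟨1, ?_⟩
      rw [pow_one, (hSX g hg).1.eq, mul_inv_cancel_right]
    · obtain ⟨σ, hσ⟩ := exists_rel L fp hc hlt hinj hfix hact hg
      obtain ⟨s, hs, hsσ⟩ := hsurj σ
      have h1 : ∀ a, act (s⁻¹ * g) (fp a) = fp a := fun a => by
        rw [act_mul, hσ, ← hsσ a, act_inv_cancel]
      obtain ⟨j, hj⟩ := mem_normalizer_zpowers.1 hg
      have h2 : s⁻¹ * g ∈ FD.F := hker _ h1 ⟨j, by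
        calc s⁻¹ * g * X * (s⁻¹ * g)⁻¹ = s⁻¹ * (g * X * g⁻¹) * s := by group
          _ = X ^ j := by rw [hj, ((hSX s hs).1.pow_right j).inv_left.eq, inv_mul_cancel_right]⟩
      have h3 := mul_mem (Subgroup.mem_sup_right (S := FD.F) hs) (Subgroup.mem_sup_left (T := S) h2)
      rwa [mul_inv_cancel_left] at h3

end Pairs

end CfsgLib.Sporadic.FiTransfer.Norm23
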