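import Cfsg.Agent.Lib.Sporadic.FiTransfer.Norm23.Inverse
import Cfsg.Agent.Lib.Sporadic.FiTransfer.Norm23.Struct

/-!
Frobenius data and kernels read from certificates.
-/

set_option autoImplicit false
set_option maxRecDepth 100000

open Cfsg.Spor

namespace CfsgLib.Sporadic.FiTransfer.Norm23

open CosetCert.Fi23P.Two (el el_append el_nil el_reverse)
open CosetCert.Fi23P.OutFi (fullWord)

/-- A word normalises the element of another word as a power. -/
noncomputable def conjK (nw w : List ℕ) (k : ℕ) : Bool :=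
  wordK nw && wordK w && sameR (nw.reverse ++ w ++ nw) (powW k w)

theorem conjK_spec {nw w : List ℕ} {k : ℕ} (h : conjK nw w k = true) :
    el nw * el w * (el nw)⁻¹ = el w ^ k := by
  simp only [conjK, Bool.and_eq_true] at h
  obtain ⟨⟨h1, h2⟩, h3⟩ := h
  have hn := wordK_lt h1
  have hw := wordK_lt h2
  rw [← el_powW, ← el_reverse hn, mul_assoc, ← el_append, ← el_append]
  refine eq_of_sameR ?_ (powW_lt hw k) h3
  intro x hx
  simp only [List.mem_append, List.mem_reverse] at hx
  rcases hx with (hx | hx) | hx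
  · exact hn x hx
  · exact hw x hx
  · exact hn x hx

/-- A word has the exponent. -/
noncomputable def expK (nw : List ℕ) (e : ℕ) : Bool := wordK nw && sameR (powW e nw) []

theorem expK_spec {nw : List ℕ} {e : ℕ} (h : expK nw e = true) : el nw ^ e = 1 := by
  simp only [expK, Bool.and_eq_true] at h
  rw [← el_powW, ← el_nil]
  exact eq_of_sameR (powW_lt (wordK_lt h.1) e) (by simp) h.2

/-- A word fixes the listed points. -/
noncomputable def fixWordK (nw : List ℕ) (F : List ℕ) : Bool :=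
  wordK nw && F.all fun f => Nat.blt f 31671 && Nat.beq (run nw f) f

theorem fixWordK_spec {nw F : List ℕ} (h : fixWordK nw F = true) {f : ℕ} (hf : f ∈ F) :
    act (el nw) f = f := by
  simp only [fixWordK, Bool.and_eq_true, List.all_eq_true, Nat.blt_eq, Nat.beq_eq] at h
  rw [act_el (wordK_lt h.1) (h.2 f hf).1, (h.2 f hf).2]

namespace Cert

variable {C : Cert} (V : C.Valid) {nw : List ℕ} {e k : ℕ}
include V

theorem frob (hp : C.p.Prime) (hc : conjK nw C.w k = true) (he : expK nw e = true) (he0 : 0 < e)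
    (hf : ∀ l < e, k ^ l % C.p = 1 → l = 0) : FrobData C.X (el nw) C.p e k :=
  { ord := V.orderOf_X hp, conj := conjK_spec hc, pow_e := expK_spec he, e_pos := he0,
    p_gt := hp.one_lt, faithful := hf }

theorem fp_mem {i : ℕ} (hi : i < C.fix.length) : C.fp i ∈ C.fix := by
  have h := V.fix_lt hi
  unfold fp at *
  rw [List.getD_eq_getElem _ _ hi]
  exact List.getElem_mem _

theorem reduce_fix (FD : FrobData C.X (el nw) C.p e k) (hnF : fixWordK nw C.fix = true) {g : Fi23}
    (hF : ∀ i < C.fix.length, act g (C.fp i) = C.fp i) {j : ℕ} (hj : g * C.X * g⁻¹ = C.X ^ j) {R : List ℕ}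
    (hres : (List.range C.p).all (fun j => Nat.beq j 0 ||
      (List.range e).any fun l => R.contains (k ^ l * j % C.p)) = true) :
    ∃ l r, r ∈ R ∧ el nw ^ l * g * C.X * (el nw ^ l * g)⁻¹ = C.X ^ r ∧
      ∀ i < C.fix.length, act (el nw ^ l * g) (C.fp i) = C.fp i := by
  obtain ⟨l, r, hr, h⟩ := FD.reduce hj hres
  refine ⟨l, r, hr, h, fun i hi => ?_⟩
  rw [act_mul, hF i hi]
  clear h hres
  induction l with
  | zero => rw [pow_zero, act_one]
  | succ l ih => rw [pow_succ, act_mul, fixWordK_spec hnF (fp_mem V hi), ih]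

theorem kernel_mem (FD : FrobData C.X (el nw) C.p e k) (hlen : C.orb.length = C.p)
    (hnF : fixWordK nw C.fix = true)
    (hres : (List.range C.p).all (fun j => Nat.beq j 0 ||
      (List.range e).any fun l => [1].contains (k ^ l * j % C.p)) = true)
    (hal : C.al = [[]]) {g : Fi23} (hF : ∀ i < C.fix.length, act g (C.fp i) = C.fp i)
    (hj : ∃ j : ℕ, g * C.X * g⁻¹ = C.X ^ j) : g ∈ FD.F := by
  obtain ⟨j, hj⟩ := hj
  obtain ⟨l, r, hr, h, hF'⟩ := reduce_fix V FD hnF hF hj hres
  obtain rfl : r = 1 := List.mem_singleton.1 hr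
  rw [pow_one, mul_inv_eq_iff_eq_mul] at h
  obtain ⟨i, a, ha, e'⟩ := V.centralizer_kernel hlen hF' h
  obtain rfl : a = 0 := by rw [hal] at ha; simpa using ha
  have hal0 : C.al.getD 0 [] = [] := by rw [hal]; rfl
  rw [hal0, el_nil, mul_one] at e'
  have hg : g = (el nw ^ l)⁻¹ * C.X ^ i := by rw [← e', inv_mul_cancel_left]
  rw [hg]
  exact mul_mem (inv_mem (pow_mem FD.n_mem l)) (pow_mem FD.X_mem i)

/-- The check for the action of the fixed transpositions on the fixed points. -/
noncomputable def pairK (C : Cert) {nn M : ℕ} (L : PairLabel nn M) : Bool :=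
  Nat.beq C.fix.length M && (List.finRange M).all fun a => (List.finRange M).all fun b =>
    Nat.beq (run (fullWord (C.fh a)) (C.fp b)) (C.fp (L.act a b))

omit V in
theorem pairK_spec (V : C.Valid) {nn M : ℕ} {L : PairLabel nn M} (h : C.pairK L = true) :
    C.fix.length = M ∧ (∀ a : Fin M, C.fp a < 31671) ∧
      (∀ v < 31671, act C.X v = v ↔ ∃ a : Fin M, C.fp a = v) ∧
      ∀ a b : Fin M, act (tp (C.fp a)) (C.fp b) = C.fp (L.act a b) := by
  simp only [pairK, Bool.and_eq_true, List.all_eq_true, Nat.beq_eq, List.mem_finRange, forall_const] at h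
  obtain ⟨hM, h⟩ := h
  have hlt : ∀ a : Fin M, C.fp a < 31671 := fun a => V.fix_lt (hM ▸ a.2)
  refine ⟨hM, hlt, fun v hv => ⟨fun he => ?_, ?_⟩, fun a b => ?_⟩
  · obtain ⟨i, hi, e⟩ := V.fixed hv he
    exact ⟨⟨i, hM ▸ hi⟩, e⟩
  · rintro ⟨a, rfl⟩
    exact V.act_fix (hM ▸ a.2)
  · obtain ⟨-, hl, he⟩ := halfR_spec (V.base'.2.2.2.1 a (hM ▸ a.2)).1
    rw [he, act_el hl (hlt b)]
    exact h a b

end Cert

end CfsgLib.Sporadic.FiTransfer.Norm23
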