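import Cfsg.Agent.Lib.Sporadic.FiTransfer.Norm23.Kernel

/-!
No element fixing the fixed points of the element inverts it, read from mirror images of derived points.
-/

set_option autoImplicit false
set_option maxRecDepth 100000

open Cfsg.Spor

namespace CfsgLib.Sporadic.FiTransfer.Norm23

open CosetCert.Fi23P.Two (el)
open CosetCert.Fi23P.OutFi (fullWord)

namespace Cert

variable (C : Cert)

/-- The seeds after inversion of the element. -/
def mseeds : List ℕ := C.fix ++ (List.range C.p).map fun j => C.orb.getD ((C.p - j) % C.p) 31671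

/-- The derived points. -/
def mirP (ms : List (ℕ × ℕ × ℕ × ℕ × (List ℕ × ℕ) × (List ℕ × ℕ))) : List ℕ :=
  C.seeds ++ ms.map fun d => d.1

/-- Their mirror images. -/
def mirQ (ms : List (ℕ × ℕ × ℕ × ℕ × (List ℕ × ℕ) × (List ℕ × ℕ))) : List ℕ :=
  C.mseeds ++ ms.map fun d => d.2.1

/-- The mirror images are derived alike and one commutation differs. -/
noncomputable def mirrorK (ms : List (ℕ × ℕ × ℕ × ℕ × (List ℕ × ℕ) × (List ℕ × ℕ)))
    (ct : ℕ × ℕ × (List ℕ × ℕ) × (List ℕ × ℕ)) : Bool :=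
  Nat.beq C.orb.length C.p &&
    (List.range ms.length).all (fun m =>
      let d := ms.getD m (31671, 31671, 31671, 31671, ([], 0), ([], 0))
      Nat.blt d.2.2.1 (C.seeds.length + m) && Nat.blt d.2.2.2.1 (C.seeds.length + m) &&
        halfR ((C.mirP ms).getD d.2.2.1 31671) d.2.2.2.2.1 &&
        halfR ((C.mirQ ms).getD d.2.2.1 31671) d.2.2.2.2.2 &&
        Nat.blt ((C.mirP ms).getD d.2.2.2.1 31671) 31671 &&
        Nat.blt ((C.mirQ ms).getD d.2.2.2.1 31671) 31671 &&
        Nat.beq (run (fullWord d.2.2.2.2.1) ((C.mirP ms).getD d.2.2.2.1 31671))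
          ((C.mirP ms).getD (C.seeds.length + m) 31671) &&
        Nat.beq (run (fullWord d.2.2.2.2.2) ((C.mirQ ms).getD d.2.2.2.1 31671))
          ((C.mirQ ms).getD (C.seeds.length + m) 31671)) &&
    Nat.blt ct.1 (C.mirP ms).length && Nat.blt ct.2.1 (C.mirP ms).length &&
    halfR ((C.mirP ms).getD ct.1 31671) ct.2.2.1 && halfR ((C.mirQ ms).getD ct.1 31671) ct.2.2.2 &&
    Nat.blt ((C.mirP ms).getD ct.2.1 31671) 31671 && Nat.blt ((C.mirQ ms).getD ct.2.1 31671) 31671 &&
    !(comR ct.2.2.1 ((C.mirP ms).getD ct.2.1 31671) == comR ct.2.2.2 ((C.mirQ ms).getD ct.2.1 31671))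

variable {C}

namespace Valid

variable (V : C.Valid)
include V

theorem X_inv_pow {j : ℕ} (hj : j ≤ C.p) : (C.X⁻¹) ^ j = C.X ^ ((C.p - j) % C.p) := by
  rw [← pow_eq_pow_mod _ V.X_pow, inv_pow]
  refine inv_eq_of_mul_eq_one_right ?_
  rw [← pow_add, show j + (C.p - j) = C.p by omega, V.X_pow]

theorem no_inversion {ms : List (ℕ × ℕ × ℕ × ℕ × (List ℕ × ℕ) × (List ℕ × ℕ))}
    {ct : ℕ × ℕ × (List ℕ × ℕ) × (List ℕ × ℕ)} (hM : C.mirrorK ms ct = true) {g : Fi23}
    (hF : ∀ i < C.fix.length, act g (C.fp i) = C.fp i) : g * C.X * g⁻¹ ≠ C.X⁻¹ := by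
  intro hg
  simp only [mirrorK, Bool.and_eq_true, List.all_eq_true, List.mem_range, and_assoc, Nat.beq_eq,
    Bool.not_eq_true', beq_eq_false_iff_ne, ne_eq,
    Nat.blt_eq] at hM
  obtain ⟨hlen, hd, hc1, hc2, hhP, hhQ, hbP, hbQ, hne⟩ := hM
  have hpow : ∀ j : ℕ, g * C.X ^ j * g⁻¹ = (C.X⁻¹) ^ j := fun j => by rw [← conj_pow, hg]
  obtain ⟨i, a, ha, e⟩ := V.candidate hF fun j hj => by
    have h1 := com_act g (a := C.s) (b := act (C.X ^ j) C.s)
    have e1 : act g (act (C.X ^ j) C.s) = act ((C.X⁻¹) ^ j) (act g C.s) := by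
      rw [← act_mul, ← hpow j, ← act_mul, inv_mul_cancel_right]
    rw [e1, inv_pow, ← com_act (C.X ^ j), act_cancel_inv, com_comm] at h1
    exact h1
  set h := C.X ^ i * el (C.al.getD a []) with hh
  have hfixh : ∀ k < C.fix.length, act h (C.fp k) = C.fp k := fun k hk => by
    rw [hh, act_mul, V.al_fix ha hk, V.pow_fix i hk]
  have hcX : Commute h C.X := by
    rw [hh]; exact ((Commute.refl C.X).pow_left i).mul_left (V.al_comm ha)
  set g' := h⁻¹ * g with hg'
  have g's : act g' C.s = C.s := by rw [hg', act_mul, e, act_inv_cancel]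
  have g'F : ∀ k < C.fix.length, act g' (C.fp k) = C.fp k := fun k hk => by
    rw [hg', act_mul, hF k hk]; exact act_inv_fix (hfixh k hk)
  have g'X : ∀ j : ℕ, g' * C.X ^ j = (C.X⁻¹) ^ j * g' := fun j => by
    have h2 : g' * C.X ^ j * g'⁻¹ = (C.X⁻¹) ^ j := by
      calc g' * C.X ^ j * g'⁻¹ = h⁻¹ * (g * C.X ^ j * g⁻¹) * h := by rw [hg']; group
        _ = (C.X⁻¹) ^ j := by
          rw [hpow, ((hcX.inv_right.pow_right j).inv_left).eq, inv_mul_cancel_right]
    rw [← h2]; group
  have hPlen : (C.mirP ms).length = C.seeds.length + ms.length := by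
    rw [mirP, List.length_append, List.length_map]
  have hslen : C.mseeds.length = C.seeds.length := by
    rw [mseeds, seeds, List.length_append, List.length_append, List.length_map, List.length_range, hlen]
  have key : ∀ m < C.seeds.length + ms.length,
      act g' ((C.mirP ms).getD m 31671) = (C.mirQ ms).getD m 31671 := by
    intro m
    induction m using Nat.strong_induction_on with
    | _ m ih =>
      intro hm
      rcases lt_or_ge m C.seeds.length with h' | h'
      · rw [mirP, mirQ, List.getD_append _ _ _ _ h', List.getD_append _ _ _ _ (hslen ▸ h'), seeds, mseeds]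
        rcases lt_or_ge m C.fix.length with h'' | h''
        · rw [List.getD_append _ _ _ _ h'', List.getD_append _ _ _ _ h'']
          exact g'F m h''
        · obtain ⟨j, rfl⟩ : ∃ j, m = C.fix.length + j := ⟨m - C.fix.length, by omega⟩
          have hj : j < C.p := by
            rw [seeds, List.length_append, hlen] at h'; omega
          rw [List.getD_append_right _ _ _ _ (by omega), List.getD_append_right _ _ _ _ (by omega),
            Nat.add_sub_cancel_left, ← V.orb_eq hj, ← act_mul, g'X, act_mul, g's,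
            List.getD_eq_getElem _ _ (by rw [List.length_map, List.length_range]; exact hj),
            List.getElem_map, List.getElem_range, ← V.orb_eq (Nat.mod_lt _ (by omega)),
            V.X_inv_pow hj.le]
      obtain ⟨t, rfl⟩ : ∃ t, m = C.seeds.length + t := ⟨m - C.seeds.length, by omega⟩
      have ht : t < ms.length := by omega
      obtain ⟨ha1, hb1, h1, h2, h3, h4, h5, h6⟩ := hd t ht
      generalize ms.getD t (31671, 31671, 31671, 31671, ([], 0), ([], 0)) = d at ha1 hb1 h1 h2 h3 h4 h5 h6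
      obtain ⟨-, hl1, ht1⟩ := halfR_spec h1
      obtain ⟨-, hl2, ht2⟩ := halfR_spec h2
      rw [← h5, ← act_el hl1 h3, ← ht1, ← h6, ← act_el hl2 h4, ← ht2, ← ih _ ha1 (by omega),
        ← ih _ hb1 (by omega), ← conj_tp, ← act_mul, ← act_mul, inv_mul_cancel_right]
  apply hne
  rw [Bool.eq_iff_iff, comR_iff hhP hbP, comR_iff hhQ hbQ, ← key _ (hPlen ▸ hc1), ← key _ (hPlen ▸ hc2)]
  exact (com_act g').symm

end Valid

end Cert

end CfsgLib.Sporadic.FiTransfer.Norm23
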