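import Cfsg.Agent.Lib.Sporadic.FiTransfer.Norm23.Check11Small
import Cfsg.Agent.Lib.Sporadic.FiTransfer.Norm23.Check11Fix
import Cfsg.Agent.Lib.Sporadic.FiTransfer.Norm23.Check11Scan
import Cfsg.Agent.Lib.Sporadic.FiTransfer.Norm23.Check11RepsA
import Cfsg.Agent.Lib.Sporadic.FiTransfer.Norm23.Check11RepsB
import Cfsg.Agent.Lib.Sporadic.FiTransfer.Norm23.Kernel

/-!
The certificate for order 11 is valid.
-/

set_option autoImplicit false
set_option maxRecDepth 100000
set_option maxHeartbeats 0

namespace CfsgLib.Sporadic.FiTransfer.Norm23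

theorem valid11 : cert11.Valid where
  base := base11
  mask := mask11_ok
  close := close11
  fixScan := cover_range (fun h => Cert.fixScan_split h) fixScan11_0 fixScan11_1 fixScan11_2 fixScan11_3
  scan := cover_range (fun h => Cert.scan_split h) scan11_0 scan11_1 scan11_2 scan11_3
  reps := cert11.reps_of_chunks 8 (by decide +kernel) fun i hi => by
    interval_cases i
    · exact reps11_ok0
    · exact reps11_ok1
    · exact reps11_ok2
    · exact reps11_ok3
    · exact reps11_ok4
    · exact reps11_ok5
    · exact reps11_ok6
    · exact reps11_ok7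

end CfsgLib.Sporadic.FiTransfer.Norm23
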