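import Cfsg.Agent.Lib.Sporadic.FiTransfer.Norm23.Instance
import Cfsg.Agent.Lib.Sporadic.FiTransfer.Norm23.Valid11
import Cfsg.Agent.Lib.Sporadic.FiTransfer.Norm23.Elts

/-!
The normaliser of an element of order eleven of Fi23.
-/

set_option autoImplicit false
set_option maxRecDepth 100000

open Cfsg.Spor

namespace CfsgLib.Sporadic.FiTransfer.Norm23

open CosetCert.Fi23P.Two (el el_append el_nil)
open CosetCert.Fi23P.OutFi (fullWord dp_sq)

attribute [local irreducible] CosetCert.PTab.img CosetCert.Forest.cls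

theorem conj11_ok : conjK nW11 cert11.w 3 = true := by decide +kernel
theorem exp11_ok : expK nW11 5 = true := by decide +kernel
theorem fixW11_ok : fixWordK nW11 cert11.fix = true := by decide +kernel
theorem mirror11_ok : cert11.mirrorK mir11 contra11 = true := by decide +kernel
theorem conjS11_ok : conjK sW11 cert11.w 10 = true := by decide +kernel
theorem al11 : cert11.al = [[], fullWord (cert11.fh 0), fullWord (cert11.fh 1),
    fullWord (cert11.fh 1) ++ fullWord (cert11.fh 0)] := by decide +kernel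
theorem commute11_ok : comR (cert11.fh 0) (cert11.fp 1) = true := by decide +kernel
theorem swap11_ok : (run sW11 (cert11.fp 0) == cert11.fp 1 && run sW11 (cert11.fp 1) == cert11.fp 0) = true := by
  decide +kernel
theorem fp11_ne : cert11.fp 0 ≠ cert11.fp 1 := by decide +kernel
theorem len11 : cert11.fix.length = 2 := by decide +kernel

/-- The element of order eleven. -/
noncomputable def X11 : Fi23 := cert11.X

/-- The normalising element. -/
noncomputable def n11 : Fi23 := el nW11

theorem frob11 : FrobData X11 n11 11 5 3 :=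
  Cert.frob (C := cert11) valid11 (show (11 : ℕ).Prime by norm_num) conj11_ok exp11_ok (by norm_num) (by decide)

theorem card_X11 : Nat.card (Subgroup.zpowers X11) = 11 := by
  rw [Nat.card_zpowers, frob11.ord]

theorem fpl (i : ℕ) (hi : i < 2) : cert11.fp i < 31671 := valid11.fix_lt (len11.symm ▸ hi)

theorem tp_word (i : ℕ) (hi : i < 2) : tp (cert11.fp i) = el (fullWord (cert11.fh i)) :=
  (halfR_spec (valid11.base'.2.2.2.1 i (len11.symm ▸ hi)).1).2.2

theorem tp_sq (v : ℕ) : tp v * tp v = 1 := by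
  unfold tp
  split
  · exact dp_sq _
  · exact one_mul 1

theorem fixed11 {v : ℕ} (hv : v < 31671) : act X11 v = v ↔ v = cert11.fp 0 ∨ v = cert11.fp 1 := by
  constructor
  · intro h
    obtain ⟨i, hi, e⟩ := valid11.fixed hv h
    rw [len11] at hi
    interval_cases i
    · exact Or.inl e.symm
    · exact Or.inr e.symm
  · rintro (rfl | rfl)
    · exact valid11.act_fix (len11.symm ▸ by norm_num)
    · exact valid11.act_fix (len11.symm ▸ by norm_num)

theorem kernel11 {g : Fi23} (hF : ∀ i < 2, act g (cert11.fp i) = cert11.fp i)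
    (hj : ∃ j : ℕ, g * X11 * g⁻¹ = X11 ^ j) :
    g ∈ frob11.F ⊔ Subgroup.closure {tp (cert11.fp 0), tp (cert11.fp 1)} := by
  obtain ⟨j, hj⟩ := hj
  obtain ⟨l, r, hr, h, hF'⟩ := Cert.reduce_fix (C := cert11) valid11 frob11 fixW11_ok
    (fun i hi => hF i (len11 ▸ hi)) hj (R := [1, 10]) (by decide +kernel)
  simp only [List.mem_cons, List.not_mem_nil, or_false] at hr
  rcases hr with rfl | rfl
  · rw [pow_one, mul_inv_eq_iff_eq_mul] at h
    obtain ⟨i, a, ha, e'⟩ := valid11.centralizer_kernel (by decide +kernel) hF' h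
    have hmem : el (cert11.al.getD a []) ∈ Subgroup.closure {tp (cert11.fp 0), tp (cert11.fp 1)} := by
      rw [al11] at ha ⊢
      have h0 := Subgroup.subset_closure (k := {tp (cert11.fp 0), tp (cert11.fp 1)})
        (Set.mem_insert _ _)
      have h1 := Subgroup.subset_closure (k := {tp (cert11.fp 0), tp (cert11.fp 1)})
        (Set.mem_insert_of_mem _ (Set.mem_singleton _))
      rw [SetLike.mem_coe] at h0 h1
      rw [tp_word 0 (by norm_num), tp_word 1 (by norm_num)] at h0 h1 ⊢
      simp only [List.length_cons, List.length_nil] at ha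
      interval_cases a
      · rw [show ([[], fullWord (cert11.fh 0), fullWord (cert11.fh 1),
          fullWord (cert11.fh 1) ++ fullWord (cert11.fh 0)] : List (List ℕ)).getD 0 [] = [] from rfl, el_nil]
        exact one_mem _
      · exact h0
      · exact h1
      · rw [show ([[], fullWord (cert11.fh 0), fullWord (cert11.fh 1),
          fullWord (cert11.fh 1) ++ fullWord (cert11.fh 0)] : List (List ℕ)).getD 3 [] =
            fullWord (cert11.fh 1) ++ fullWord (cert11.fh 0) from rfl, el_append]
        exact mul_mem h0 h1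
    have hg : g = (n11 ^ l)⁻¹ * cert11.X ^ i * el (cert11.al.getD a []) := by
      rw [mul_assoc, ← e']; exact (inv_mul_cancel_left _ _).symm
    rw [hg]
    exact mul_mem (Subgroup.mem_sup_left (mul_mem (inv_mem (pow_mem frob11.n_mem l))
      (pow_mem frob11.X_mem i))) (Subgroup.mem_sup_right hmem)
  · refine absurd ?_ (valid11.no_inversion mirror11_ok hF')
    rw [h]
    refine (inv_eq_of_mul_eq_one_right ?_).symm
    rw [← pow_succ']
    exact valid11.X_pow

theorem pair11 : PairShape FiTransfer23.classTr (Subgroup.zpowers X11) := by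
  have : Finite Fi23 := CosetCert.Fi23P.finite
  set d := tp (cert11.fp 0) with hdd
  set b := tp (cert11.fp 1) with hbd
  have h0 := fpl 0 (by norm_num)
  have h1 := fpl 1 (by norm_num)
  have hdb : Commute d b := (comR_iff (valid11.base'.2.2.2.1 0 (len11.symm ▸ by norm_num)).1 h1).1 commute11_ok
  have hXd : Commute X11 d := (commute_tp_iff h0).2 ((fixed11 h0).2 (Or.inl rfl))
  have hXb : Commute X11 b := (commute_tp_iff h1).2 ((fixed11 h1).2 (Or.inr rfl))
  have hnf : ∀ i < 2, act n11 (cert11.fp i) = cert11.fp i := fun i hi =>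
    fixWordK_spec fixW11_ok (Cert.fp_mem valid11 (len11.symm ▸ hi))
  have hnd : Commute n11 d := (commute_tp_iff h0).2 (hnf 0 (by norm_num))
  have hnb : Commute n11 b := (commute_tp_iff h1).2 (hnf 1 (by norm_num))
  set K := Subgroup.closure ({d, b} : Set Fi23) with hK
  have hKcent : K ≤ Subgroup.centralizer {X11, n11, d, b} := by
    rw [hK, Subgroup.closure_le]
    rintro z (rfl | rfl) <;> rw [SetLike.mem_coe, Subgroup.mem_centralizer_iff] <;>
      rintro y (rfl | rfl | rfl | rfl)
    · exact hXd.eq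
    · exact hnd.eq
    · rfl
    · exact hdb.symm.eq
    · exact hXb.eq
    · exact hnb.eq
    · exact hdb.eq
    · rfl
  have hKc : ∀ z ∈ K, Commute X11 z ∧ Commute n11 z ∧ Commute d z ∧ Commute b z := fun z hz => by
    have h := Subgroup.mem_centralizer_iff.1 (hKcent hz)
    exact ⟨h _ (by simp), h _ (by simp), h _ (by simp), h _ (by simp)⟩
  have hKK : ∀ y ∈ K, ∀ z ∈ K, Commute y z := by
    intro y hy z hz
    have hle : K ≤ Subgroup.centralizer {z} := by
      rw [hK, Subgroup.closure_le]
      rintro w (rfl | rfl) <;> rw [SetLike.mem_coe, Subgroup.mem_centralizer_singleton_iff]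
      · exact (hKc z hz).2.2.1.eq
      · exact (hKc z hz).2.2.2.eq
    exact Subgroup.mem_centralizer_singleton_iff.1 (hle hy)
  have hK2 : ∀ z ∈ K, z ^ 2 = 1 := by
    intro z hz
    rw [hK] at hz
    induction hz using Subgroup.closure_induction with
    | mem z hz =>
      rcases hz with rfl | rfl <;> rw [pow_two] <;> exact tp_sq _
    | one => exact one_pow 2
    | mul y z hy hz h h' => rw [(hKK y hy z hz).mul_pow, h, h', one_mul]
    | inv y _ h => rw [inv_pow, h, inv_one]
  have hgfix : ∀ g, Commute g d → g ∈ Subgroup.normalizer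
      ((Subgroup.zpowers X11 : Subgroup Fi23) : Set Fi23) → ∀ i < 2, act g (cert11.fp i) = cert11.fp i := by
    intro g hgd hg
    have e0 : act g (cert11.fp 0) = cert11.fp 0 := (commute_tp_iff h0).1 hgd
    intro i hi
    interval_cases i
    · exact e0
    · rcases (fixed11 (act_lt h1)).1 (fix_map hg ((fixed11 h1).2 (Or.inr rfl))) with h | h
      · exact absurd (act_injective g (e0.trans h.symm)) fp11_ne
      · exact h
  have hle : frob11.F ⊔ K ≤ Subgroup.normalizer ((Subgroup.zpowers X11 : Subgroup Fi23) : Set Fi23) ⊓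
      Subgroup.centralizer {d} := by
    refine sup_le ?_ ?_
    · rintro _ ⟨i, l, rfl⟩
      refine ⟨mem_normalizer_zpowers.2 ⟨_, frob11.conj_X i l⟩, Subgroup.mem_centralizer_singleton_iff.2 ?_⟩
      exact ((hXd.pow_left i).mul_left (hnd.pow_left l)).eq
    · intro z hz
      obtain ⟨hx, -, hd, -⟩ := hKc z hz
      refine ⟨mem_normalizer_zpowers.2 ⟨1, ?_⟩, Subgroup.mem_centralizer_singleton_iff.2 hd.symm.eq⟩
      rw [pow_one, ← hx.eq, mul_inv_cancel_right]
  refine ⟨d, b, mem_class_iff.2 ⟨_, h0, rfl⟩, mem_class_iff.2 ⟨_, h1, rfl⟩,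
    fun h => fp11_ne (tp_injective h0 h1 h), ?_, frob11.F, frob11.card_F, frob11.zpowers_le,
    frob11.inf_centralizer, ?_, ?_, le_antisymm hle fun g hg => ?_, ?_⟩
  · ext y
    rw [Set.mem_inter_iff, SetLike.mem_coe, mem_centralizer_zpowers, mem_class_iff]
    constructor
    · rintro ⟨⟨v, hv, rfl⟩, hy⟩
      rcases (fixed11 hv).1 ((commute_tp_iff hv).1 hy.symm) with rfl | rfl
      · exact Or.inl rfl
      · exact Or.inr rfl
    · rintro (rfl | rfl)
      · exact ⟨⟨_, h0, rfl⟩, hXd.symm⟩
      · exact ⟨⟨_, h1, rfl⟩, hXb.symm⟩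
  · rw [eq_bot_iff]
    rintro z ⟨hzF, hzK⟩
    have h55 : z ^ 55 = 1 := by
      have := congrArg Subtype.val (pow_card_eq_one' (G := frob11.F) (x := ⟨z, hzF⟩))
      rw [frob11.card_F] at this
      exact this
    rw [Subgroup.mem_bot]
    rw [show 55 = 2 * 27 + 1 from rfl, pow_succ, pow_mul, hK2 z hzK, one_pow, one_mul] at h55
    exact h55
  · rintro _ ⟨i, l, rfl⟩ y hy
    obtain ⟨hx, hn, -, -⟩ := hKc y hy
    exact ((hx.pow_left i).mul_left (hn.pow_left l)).eq
  · exact kernel11 (hgfix g (Subgroup.mem_centralizer_singleton_iff.1 hg.2) hg.1)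
      (mem_normalizer_zpowers.1 hg.1)
  · rw [Subgroup.index_eq_two_iff]
    have hw : el sW11 ∈ Subgroup.normalizer ((Subgroup.zpowers X11 : Subgroup Fi23) : Set Fi23) :=
      mem_normalizer_zpowers.2 ⟨10, conjK_spec conjS11_ok⟩
    have hwl : ∀ x ∈ sW11, x < 10 := wordK_lt (by decide +kernel)
    have hsw := swap11_ok
    rw [Bool.and_eq_true, beq_iff_eq, beq_iff_eq, ← act_el hwl h0, ← act_el hwl h1] at hsw
    refine ⟨⟨el sW11, hw⟩, fun y => ?_⟩
    have hmem : ∀ z : Fi23, z ∈ Subgroup.normalizer ((Subgroup.zpowers X11 : Subgroup Fi23) : Set Fi23) →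
        (z ∈ Subgroup.normalizer ((Subgroup.zpowers X11 : Subgroup Fi23) : Set Fi23) ⊓
          Subgroup.centralizer {d} ↔ act z (cert11.fp 0) = cert11.fp 0) := fun z hz =>
      ⟨fun h => (commute_tp_iff h0).1 (Subgroup.mem_centralizer_singleton_iff.1 h.2),
        fun h => ⟨hz, Subgroup.mem_centralizer_singleton_iff.2 ((commute_tp_iff h0).2 h)⟩⟩
    rw [Subgroup.mem_subgroupOf, Subgroup.mem_subgroupOf, Subgroup.coe_mul, hmem _ (mul_mem y.2 hw),
      hmem _ y.2, act_mul, hsw.1]
    have hp0 := (fixed11 (act_lt h0)).1 (fix_map y.2 ((fixed11 h0).2 (Or.inl rfl)))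
    have hp1 := (fixed11 (act_lt h1)).1 (fix_map y.2 ((fixed11 h1).2 (Or.inr rfl)))
    have hne : act (y : Fi23) (cert11.fp 1) ≠ act (y : Fi23) (cert11.fp 0) := fun e =>
      fp11_ne (act_injective _ e).symm
    rcases hp0 with e0 | e0
    · exact Or.inr ⟨e0, fun e => hne (e.trans e0.symm)⟩
    · refine Or.inl ⟨?_, fun e => fp11_ne (e.symm.trans e0)⟩
      exact hp1.resolve_right fun e => hne (e.trans e0.symm)

end CfsgLib.Sporadic.FiTransfer.Norm23
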