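import Cfsg.Agent.Lib.Sporadic.Fi23Out.Main
import Cfsg.Agent.Lib.Sporadic.FiTransfer.Norm23.Instance
import Cfsg.Agent.Lib.Sporadic.FiTransfer.Norm23.Elts

/-!
The normaliser of the element of order thirteen of Fi23.
-/

set_option autoImplicit false
set_option maxRecDepth 100000

open Cfsg.Spor

namespace CfsgLib.Sporadic.FiTransfer.Norm23

open CosetCert.Fi23P.Two (el)
open CosetCert.Fi23P.OutFi (tW tW_lt T P fixT core conj_eq_one orderOf_T trip dp_P_word tripWord
  tripWord_lt trip_spec Corr)
open CosetCert.Fi23Data (table)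

attribute [local irreducible] CosetCert.PTab.img CosetCert.Forest.cls

theorem conj13_ok : conjK nW13 tW 4 = true := by decide +kernel
theorem exp13_ok : expK nW13 6 = true := by decide +kernel
theorem fixW13_ok : fixWordK nW13 trip = true := by decide +kernel

/-- The normalising element. -/
noncomputable def n13 : Fi23 := el nW13

theorem frob13 : FrobData T n13 13 6 4 where
  ord := orderOf_T
  conj := conjK_spec conj13_ok
  pow_e := expK_spec exp13_ok
  e_pos := by norm_num
  p_gt := by norm_num
  faithful := by decide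

/-- The place among the three fixed points of a pair. -/
def pix (a : Fin 3) : Fin 3 := -a

/-- The numbered fixed points. -/
noncomputable def fp13 (a : Fin 3) : ℕ := (P (pix a) : Fin table.N)

theorem fp13_inj : Function.Injective fp13 := fun a b h =>
  neg_injective (CosetCert.Fi23P.OutFi.P_inj (Fin.ext h))

theorem n13_fix (a : Fin 3) : act n13 (fp13 a) = fp13 a := by
  refine fixWordK_spec fixW13_ok ?_
  show trip.getD (pix a : ℕ) 31671 ∈ trip
  revert a
  decide

theorem act13 (a b : Fin 3) : act (tp (fp13 a)) (fp13 b) = fp13 (label3.act a b) := by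
  rw [fp13, fp13, fp13, tp_fin, act_fin, CosetCert.Fi23P.OutFi.dp_P_apply]
  congr 2
  revert a b
  decide +kernel

theorem fixed13 (v : ℕ) (hv : v < 31671) : act T v = v ↔ ∃ a, fp13 a = v := by
  constructor
  · intro h
    have h1 : CosetCert.Fi23P.hom T ⟨v, hv⟩ = ⟨v, hv⟩ := Fin.ext (by
      rw [← act_fin T ⟨v, hv⟩]; exact h)
    obtain ⟨c, hc⟩ := fixT h1
    exact ⟨-c, by rw [fp13, pix, neg_neg, ← hc]⟩
  · rintro ⟨a, rfl⟩
    rw [fp13, act_fin, (trip_spec (pix a)).2.1]

theorem kernel13 {g : Fi23} (hF : ∀ a, act g (fp13 a) = fp13 a) (hj : ∃ j : ℕ, g * T * g⁻¹ = T ^ j) :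
    g ∈ frob13.F := by
  obtain ⟨j, hj⟩ := hj
  obtain ⟨l, r, hr, h⟩ := frob13.reduce hj (R := [1, 2]) (by decide +kernel)
  set g' := n13 ^ l * g with hg'
  have hP : ∀ c, Corr (MulAut.conj g') (P c) (P c) := fun c => by
    show MulAut.conj g' _ = _
    have e : fp13 (-c) = (P c : ℕ) := by rw [fp13, pix, neg_neg]
    have h1 : act g' (P c : ℕ) = (P c : ℕ) := by
      rw [← e, hg', act_mul, hF]
      clear h hg' g'
      induction l with
      | zero => rw [pow_zero, act_one]
      | succ l ih => rw [pow_succ, act_mul, n13_fix, ih]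
    rw [MulAut.conj_apply, ← tp_fin, conj_tp, h1]
  obtain ⟨-, i, hi⟩ := core (β := MulAut.conj g') (j := r) (by simpa using hr)
    (by rw [MulAut.conj_apply]; exact h) hP
  have h2 : (T ^ i)⁻¹ * g' = 1 := conj_eq_one fun x => by
    have hx := DFunLike.congr_fun hi x
    simp only [MulAut.conj_apply] at hx
    calc (T ^ i)⁻¹ * g' * x * ((T ^ i)⁻¹ * g')⁻¹ = (T ^ i)⁻¹ * (g' * x * g'⁻¹) * T ^ i := by group
      _ = x := by rw [hx]; group
  have h3 : g' = T ^ i := (inv_mul_eq_one.1 h2).symm
  have hg : g = (n13 ^ l)⁻¹ * T ^ i := by rw [← h3, hg', inv_mul_cancel_left]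
  rw [hg]
  exact mul_mem (inv_mem (pow_mem frob13.n_mem l)) (pow_mem frob13.X_mem i)

theorem shape13 : NormalShape FiTransfer23.classTr 78 3 (Subgroup.zpowers T) :=
  normalShape label3 _ frob13 (by norm_num) (by norm_num) le_rfl desc3
    (fun a => by
      have := (P (pix a)).2
      exact this) fp13_inj fixed13 n13_fix act13
    fun g => kernel13

theorem card_T : Nat.card (Subgroup.zpowers T) = 13 := by
  rw [Nat.card_zpowers, orderOf_T]

end CfsgLib.Sporadic.FiTransfer.Norm23
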