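import Cfsg.Agent.Lib.Sporadic.FiTransfer.Norm23.Check5Small
import Cfsg.Agent.Lib.Sporadic.FiTransfer.Norm23.Check5Fix
import Cfsg.Agent.Lib.Sporadic.FiTransfer.Norm23.Check5Scan
import Cfsg.Agent.Lib.Sporadic.FiTransfer.Norm23.Kernel

/-!
The certificate for order 5 is valid.
-/

set_option autoImplicit false
set_option maxRecDepth 100000
set_option maxHeartbeats 0

namespace CfsgLib.Sporadic.FiTransfer.Norm23

theorem valid5 : cert5.Valid where
  base := base5
  mask := mask5_ok
  close := close5
  fixScan := cover_range (fun h => Cert.fixScan_split h) fixScan5_0 fixScan5_1 fixScan5_2 fixScan5_3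
  scan := cover_range (fun h => Cert.scan_split h) scan5_0 scan5_1 scan5_2 scan5_3
  reps := cert5.reps_of_chunks 1 (by decide +kernel) fun i hi => by
    obtain rfl : i = 0 := by omega
    exact reps5_ok0

end CfsgLib.Sporadic.FiTransfer.Norm23
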