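import Cfsg.Agent.Lib.Sporadic.FiTransfer.Norm23.Instance
import Cfsg.Agent.Lib.Sporadic.FiTransfer.Norm23.Valid5
import Cfsg.Agent.Lib.Sporadic.FiTransfer.Norm23.Elts

/-!
The normaliser of an element of order five of Fi23.
-/

set_option autoImplicit false
set_option maxRecDepth 100000

open Cfsg.Spor

namespace CfsgLib.Sporadic.FiTransfer.Norm23

open CosetCert.Fi23P.Two (el)

theorem conj5_ok : conjK nW5 cert5.w 2 = true := by decide +kernel
theorem exp5_ok : expK nW5 4 = true := by decide +kernel
theorem fixW5_ok : fixWordK nW5 cert5.fix = true := by decide +kernel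
theorem pair5_ok : cert5.pairK label7 = true := by decide +kernel
theorem inj5 : Function.Injective fun a : Fin 21 => cert5.fp a := by
  have h : ∀ a b : Fin 21, cert5.fp a = cert5.fp b → a = b := by decide +kernel
  exact fun a b => h a b

/-- The element of order five. -/
noncomputable def X5 : Fi23 := cert5.X

/-- The normalising element. -/
noncomputable def n5 : Fi23 := el nW5

theorem frob5 : FrobData X5 n5 5 4 2 :=
  Cert.frob (C := cert5) valid5 (show (5 : ℕ).Prime by norm_num) conj5_ok exp5_ok (by norm_num) (by decide)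

theorem kernel5 {g : Fi23} (hF : ∀ a : Fin 21, act g (cert5.fp a) = cert5.fp a)
    (hj : ∃ j : ℕ, g * X5 * g⁻¹ = X5 ^ j) : g ∈ frob5.F :=
  Cert.kernel_mem (C := cert5) valid5 frob5 (by decide +kernel) fixW5_ok (by decide +kernel) rfl
    (fun i hi => hF ⟨i, lt_of_lt_of_eq hi (Cert.pairK_spec valid5 pair5_ok).1⟩) hj

theorem fix5_n (a : Fin 21) : act n5 (cert5.fp a) = cert5.fp a :=
  fixWordK_spec fixW5_ok (Cert.fp_mem valid5 ((Cert.pairK_spec valid5 pair5_ok).1.symm ▸ a.2))

theorem shape5 : NormalShape FiTransfer23.classTr 20 7 (Subgroup.zpowers X5) := by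
  obtain ⟨-, hlt, hfix, hact⟩ := Cert.pairK_spec valid5 pair5_ok
  exact normalShape label7 _ frob5 (by norm_num) (by norm_num) (by norm_num) desc7 hlt inj5 hfix fix5_n hact
    fun g => kernel5

theorem card_X5 : Nat.card (Subgroup.zpowers X5) = 5 := by
  rw [Nat.card_zpowers, frob5.ord]

end CfsgLib.Sporadic.FiTransfer.Norm23
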