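import Cfsg.Agent.Lib.Sporadic.FiTransfer.Norm23.Check7Small
import Cfsg.Agent.Lib.Sporadic.FiTransfer.Norm23.Check7Fix
import Cfsg.Agent.Lib.Sporadic.FiTransfer.Norm23.Check7Scan
import Cfsg.Agent.Lib.Sporadic.FiTransfer.Norm23.Kernel

/-!
The certificate for order 7 is valid.
-/

set_option autoImplicit false
set_option maxRecDepth 100000
set_option maxHeartbeats 0

namespace CfsgLib.Sporadic.FiTransfer.Norm23

theorem valid7 : cert7.Valid where
  base := base7
  mask := mask7_ok
  close := close7
  fixScan := cover_range (fun h => Cert.fixScan_split h) fixScan7_0 fixScan7_1 fixScan7_2 fixScan7_3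
  scan := cover_range (fun h => Cert.scan_split h) scan7_0 scan7_1 scan7_2 scan7_3
  reps := cert7.reps_of_chunks 1 (by decide +kernel) fun i hi => by
    obtain rfl : i = 0 := by omega
    exact reps7_ok0

end CfsgLib.Sporadic.FiTransfer.Norm23
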