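import Cfsg.Agent.Lib.Sporadic.FiTransfer.Norm23.Instance
import Cfsg.Agent.Lib.Sporadic.FiTransfer.Norm23.Valid7
import Cfsg.Agent.Lib.Sporadic.FiTransfer.Norm23.Elts

/-!
The normaliser of an element of order seven of Fi23.
-/

set_option autoImplicit false
set_option maxRecDepth 100000

open Cfsg.Spor

namespace CfsgLib.Sporadic.FiTransfer.Norm23

open CosetCert.Fi23P.Two (el)

theorem conj7_ok : conjK nW7 cert7.w 3 = true := by decide +kernel
theorem exp7_ok : expK nW7 6 = true := by decide +kernel
theorem fixW7_ok : fixWordK nW7 cert7.fix = true := by decide +kernel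
theorem pair7_ok : cert7.pairK label5 = true := by decide +kernel
theorem inj7 : Function.Injective fun a : Fin 10 => cert7.fp a := by
  have h : ∀ a b : Fin 10, cert7.fp a = cert7.fp b → a = b := by decide +kernel
  exact fun a b => h a b

/-- The element of order seven. -/
noncomputable def X7 : Fi23 := cert7.X

/-- The normalising element. -/
noncomputable def n7 : Fi23 := el nW7

theorem frob7 : FrobData X7 n7 7 6 3 :=
  Cert.frob (C := cert7) valid7 (show (7 : ℕ).Prime by norm_num) conj7_ok exp7_ok (by norm_num) (by decide)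

theorem kernel7 {g : Fi23} (hF : ∀ a : Fin 10, act g (cert7.fp a) = cert7.fp a)
    (hj : ∃ j : ℕ, g * X7 * g⁻¹ = X7 ^ j) : g ∈ frob7.F :=
  Cert.kernel_mem (C := cert7) valid7 frob7 (by decide +kernel) fixW7_ok (by decide +kernel) rfl
    (fun i hi => hF ⟨i, lt_of_lt_of_eq hi (Cert.pairK_spec valid7 pair7_ok).1⟩) hj

theorem fix7_n (a : Fin 10) : act n7 (cert7.fp a) = cert7.fp a :=
  fixWordK_spec fixW7_ok (Cert.fp_mem valid7 ((Cert.pairK_spec valid7 pair7_ok).1.symm ▸ a.2))

theorem shape7 : NormalShape FiTransfer23.classTr 42 5 (Subgroup.zpowers X7) := by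
  obtain ⟨-, hlt, hfix, hact⟩ := Cert.pairK_spec valid7 pair7_ok
  exact normalShape label5 _ frob7 (by norm_num) (by norm_num) (by norm_num) desc5 hlt inj7 hfix fix7_n hact
    fun g => kernel7

theorem card_X7 : Nat.card (Subgroup.zpowers X7) = 7 := by
  rw [Nat.card_zpowers, frob7.ord]

end CfsgLib.Sporadic.FiTransfer.Norm23
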