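import Mathlib

/-!
The centraliser and normaliser of a cycle of length five among the permutations of seven things.
-/

set_option autoImplicit false
set_option maxRecDepth 100000

namespace CfsgLib.Sporadic.FiTransfer.Norm23

/-- The cycle. -/
def cyc : Equiv.Perm (Fin 7) := Equiv.swap 0 1 * Equiv.swap 1 2 * Equiv.swap 2 3 * Equiv.swap 3 4

/-- The transposition of the two fixed things. -/
def tt : Equiv.Perm (Fin 7) := Equiv.swap 5 6

/-- A permutation squaring the cycle. -/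
def sq : Equiv.Perm (Fin 7) := Equiv.swap 1 2 * Equiv.swap 2 4 * Equiv.swap 4 3

theorem cyc_conj : sq * cyc * sq⁻¹ = cyc ^ 2 := by decide +kernel

theorem cyc_ne : cyc ≠ 1 := by decide +kernel

theorem cyc_pow5 : cyc ^ 5 = 1 := by decide +kernel

theorem normal_forms : ∀ q q' : Fin 4, ∀ j j' : Fin 5, ∀ v v' : Fin 2,
    sq ^ (q : ℕ) * cyc ^ (j : ℕ) * tt ^ (v : ℕ) = sq ^ (q' : ℕ) * cyc ^ (j' : ℕ) * tt ^ (v' : ℕ) →
      q = q' ∧ j = j' ∧ v = v' := by decide +kernel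

theorem reach : ∀ a : Fin 7, cyc a ≠ a → ∃ j : Fin 5, (cyc ^ (j : ℕ)) 0 = a := by decide +kernel

theorem fixed_cyc : ∀ a : Fin 7, cyc a = a → a = 5 ∨ a = 6 := by decide +kernel

theorem centralizer_cyc {σ : Equiv.Perm (Fin 7)} (h : Commute σ cyc) :
    ∃ j < 5, ∃ v < 2, σ = cyc ^ j * tt ^ v := by
  have ha : cyc (σ 0) ≠ σ 0 := by
    rw [← Equiv.Perm.mul_apply, ← h.eq, Equiv.Perm.mul_apply]
    exact fun e => absurd (σ.injective e) (by decide +kernel)
  obtain ⟨⟨j, hj⟩, hj0⟩ := reach _ ha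
  refine ⟨j, hj, ?_⟩
  set τ := (cyc ^ j)⁻¹ * σ with hτdef
  have hσ : σ = cyc ^ j * τ := by rw [hτdef, mul_inv_cancel_left]
  have hτ : Commute τ cyc := ((Commute.refl cyc).pow_left j).inv_left.mul_left h
  have h0 : τ 0 = 0 := by
    rw [hτdef, Equiv.Perm.mul_apply, Equiv.Perm.inv_def, Equiv.symm_apply_eq]
    exact hj0.symm
  have hk : ∀ k : ℕ, τ ((cyc ^ k) 0) = (cyc ^ k) 0 := fun k => by
    rw [← Equiv.Perm.mul_apply, (hτ.pow_right k).eq, Equiv.Perm.mul_apply, h0]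
  have hf : ∀ a, cyc a = a → τ a = 5 ∨ τ a = 6 := fun a e => fixed_cyc _ (by
    rw [← Equiv.Perm.mul_apply, ← hτ.eq, Equiv.Perm.mul_apply, e])
  have k0 := hk 0
  have k1 := hk 1
  have k2 := hk 2
  have k3 := hk 3
  have k4 := hk 4
  rw [show (cyc ^ 0) (0 : Fin 7) = 0 by decide +kernel] at k0
  rw [show (cyc ^ 1) (0 : Fin 7) = 1 by decide +kernel] at k1
  rw [show (cyc ^ 2) (0 : Fin 7) = 2 by decide +kernel] at k2
  rw [show (cyc ^ 3) (0 : Fin 7) = 3 by decide +kernel] at k3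
  rw [show (cyc ^ 4) (0 : Fin 7) = 4 by decide +kernel] at k4
  rcases hf 5 (by decide +kernel) with h5 | h5
  · have h6 : τ 6 = 6 := (hf 6 (by decide +kernel)).resolve_left fun e =>
      absurd (τ.injective (e.trans h5.symm)) (by decide +kernel)
    refine ⟨0, by norm_num, ?_⟩
    rw [hσ]
    congr 1
    refine Equiv.ext fun x => ?_
    match x with
    | 0 => exact k0.trans (by decide +kernel)
    | 1 => exact k1.trans (by decide +kernel)
    | 2 => exact k2.trans (by decide +kernel)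
    | 3 => exact k3.trans (by decide +kernel)
    | 4 => exact k4.trans (by decide +kernel)
    | 5 => exact h5.trans (by decide +kernel)
    | 6 => exact h6.trans (by decide +kernel)
  · have h6 : τ 6 = 5 := (hf 6 (by decide +kernel)).resolve_right fun e =>
      absurd (τ.injective (e.trans h5.symm)) (by decide +kernel)
    refine ⟨1, by norm_num, ?_⟩
    rw [hσ]
    congr 1
    refine Equiv.ext fun x => ?_
    match x with
    | 0 => exact k0.trans (by decide +kernel)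
    | 1 => exact k1.trans (by decide +kernel)
    | 2 => exact k2.trans (by decide +kernel)
    | 3 => exact k3.trans (by decide +kernel)
    | 4 => exact k4.trans (by decide +kernel)
    | 5 => exact h5.trans (by decide +kernel)
    | 6 => exact h6.trans (by decide +kernel)

theorem residue_sq : ∀ b < 5, b ≠ 0 → ∃ q < 4, 2 ^ q % 5 = b := by decide

theorem sq_conj_pow (q : ℕ) : sq ^ q * cyc * (sq ^ q)⁻¹ = cyc ^ (2 ^ q) := by
  induction q with
  | zero => simp
  | succ q ih =>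
    calc sq ^ (q + 1) * cyc * (sq ^ (q + 1))⁻¹ = sq * (sq ^ q * cyc * (sq ^ q)⁻¹) * sq⁻¹ := by
          rw [pow_succ']; group
      _ = (sq * cyc * sq⁻¹) ^ (2 ^ q) := by rw [ih, conj_pow]
      _ = cyc ^ (2 ^ (q + 1)) := by rw [cyc_conj, ← pow_mul, ← pow_succ']

theorem cyc_pow_mod (b : ℕ) : cyc ^ (b % 5) = cyc ^ b := by
  conv_rhs => rw [← Nat.mod_add_div b 5, pow_add, pow_mul, cyc_pow5, one_pow, mul_one]

theorem normalizer_cyc {σ : Equiv.Perm (Fin 7)} {b : ℕ} (h : σ * cyc * σ⁻¹ = cyc ^ b) :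
    ∃ q < 4, ∃ j < 5, ∃ v < 2, σ = sq ^ q * cyc ^ j * tt ^ v := by
  have hb : b % 5 ≠ 0 := fun e => cyc_ne (by
    rw [← cyc_pow_mod, e, pow_zero, mul_inv_eq_one, mul_eq_left] at h
    exact h)
  obtain ⟨q, hq, hqb⟩ := residue_sq (b % 5) (Nat.mod_lt _ (by norm_num)) hb
  have hc : Commute ((sq ^ q)⁻¹ * σ) cyc := by
    have e : σ * cyc * σ⁻¹ = sq ^ q * cyc * (sq ^ q)⁻¹ := by
      rw [h, sq_conj_pow, ← cyc_pow_mod b, ← cyc_pow_mod (2 ^ q), hqb]
    show (sq ^ q)⁻¹ * σ * cyc = cyc * ((sq ^ q)⁻¹ * σ)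
    calc (sq ^ q)⁻¹ * σ * cyc = (sq ^ q)⁻¹ * (σ * cyc * σ⁻¹) * σ := by group
      _ = cyc * ((sq ^ q)⁻¹ * σ) := by rw [e]; group
  obtain ⟨j, hj, v, hv, hσ⟩ := centralizer_cyc hc
  exact ⟨q, hq, j, hj, v, hv, by rw [mul_assoc, ← hσ, mul_inv_cancel_left]⟩

end CfsgLib.Sporadic.FiTransfer.Norm23
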