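import Cfsg.Agent.Lib.Sporadic.FiTransfer.Norm23.Order5
import Cfsg.Agent.Lib.Sporadic.FiTransfer.Norm23.Sylow5Perm

/-!
A Sylow subgroup of Fi23 for the prime five, its centraliser and the order of its normaliser; the subgroups
of order five form one class.
-/

set_option autoImplicit false
set_option maxRecDepth 100000

open Cfsg.Spor

namespace CfsgLib.Sporadic.FiTransfer.Norm23

open CosetCert.Fi23P (finite card_eq)
open CosetCert.Fi23P.Two (el el_append el_nil el_reverse)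

attribute [local irreducible] CosetCert.PTab.img CosetCert.Forest.cls

/-- A word acts on the fixed points as a permutation of seven things. -/
noncomputable def relK (w : List ℕ) (σ : Equiv.Perm (Fin 7)) : Bool :=
  wordK w && (List.finRange 21).all fun b => Nat.beq (run w (cert5.fp b)) (cert5.fp (label7.map σ b))

/-- Two words commute. -/
noncomputable def commK (a b : List ℕ) : Bool := wordK a && wordK b && sameR (a ++ b) (b ++ a)

theorem commK_spec {a b : List ℕ} (h : commK a b = true) : Commute (el a) (el b) := by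
  simp only [commK, Bool.and_eq_true] at h
  obtain ⟨⟨ha, hb⟩, h⟩ := h
  have := eq_of_sameR (fun x hx => (List.mem_append.1 hx).elim (wordK_lt ha x) (wordK_lt hb x))
    (fun x hx => (List.mem_append.1 hx).elim (wordK_lt hb x) (wordK_lt ha x)) h
  rw [el_append, el_append] at this
  exact this.symm

/-- The word of the transposition of the last two things. -/
noncomputable def dW : List ℕ := CosetCert.Fi23P.OutFi.fullWord (cert5.fh 20)

theorem relY_ok : relK yW cyc = true := by decide +kernel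
theorem relS_ok : relK sW5 sq = true := by decide +kernel
theorem relD_ok : relK dW tt = true := by decide +kernel
theorem commXY_ok : commK cert5.w yW = true := by decide +kernel
theorem commnY_ok : commK nW5 yW = true := by decide +kernel
theorem commXS_ok : commK cert5.w sW5 = true := by decide +kernel
theorem commnS_ok : commK nW5 sW5 = true := by decide +kernel
theorem commXD_ok : commK cert5.w dW = true := by decide +kernel
theorem commnD_ok : commK nW5 dW = true := by decide +kernel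
theorem commYD_ok : commK yW dW = true := by decide +kernel
theorem conjS_ok : conjK sW5 yW 2 = true := by decide +kernel
theorem expY_ok : expK yW 5 = true := by decide +kernel
theorem m1_ok : (wordK m1W && sameR (m1W.reverse ++ cert5.w ++ m1W) yW) = true := by decide +kernel
theorem m2_ok : (wordK m2W && sameR (m2W.reverse ++ cert5.w ++ m2W) (yW ++ cert5.w)) = true := by
  decide +kernel

/-- The second element of order five. -/
noncomputable def Y5 : Fi23 := el yW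

/-- The element squaring the second one. -/
noncomputable def s5 : Fi23 := el sW5

/-- The transposition commuting with both. -/
noncomputable def d5 : Fi23 := el dW

theorem rel_of_relK {w : List ℕ} {σ : Equiv.Perm (Fin 7)} (h : relK w σ = true) :
    Rel label7 (fun a => cert5.fp a) (el w) σ := by
  intro b
  simp only [relK, Bool.and_eq_true, List.all_eq_true, Nat.beq_eq] at h
  rw [act_el (wordK_lt h.1) ((Cert.pairK_spec valid5 pair5_ok).2.1 b)]
  exact h.2 b (List.mem_finRange b)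

theorem rel_pow {g : Fi23} {σ : Equiv.Perm (Fin 7)} (h : Rel label7 (fun a => cert5.fp a) g σ) :
    ∀ k : ℕ, Rel label7 (fun a => cert5.fp a) (g ^ k) (σ ^ k)
  | 0 => by rw [pow_zero, pow_zero]; exact Rel.one _ _
  | k + 1 => by rw [pow_succ, pow_succ]; exact (rel_pow h k).mul _ _ h

theorem rel_unique {g : Fi23} {σ τ : Equiv.Perm (Fin 7)} (h : Rel label7 (fun a => cert5.fp a) g σ)
    (h' : Rel label7 (fun a => cert5.fp a) g τ) : σ = τ :=
  label7.psi_injective (by norm_num) (Equiv.ext fun b => inj5 ((h b).symm.trans (h' b)))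

theorem rel_X : Rel label7 (fun a => cert5.fp a) X5 1 := fun b => by
  rw [label7.map_one]
  exact valid5.act_fix ((Cert.pairK_spec valid5 pair5_ok).1.symm ▸ b.2)

theorem rel_n : Rel label7 (fun a => cert5.fp a) n5 1 := fun b => by
  rw [label7.map_one]; exact fix5_n b

theorem commXY : Commute X5 Y5 := commK_spec commXY_ok
theorem commnY : Commute n5 Y5 := commK_spec commnY_ok
theorem commXS : Commute X5 s5 := commK_spec commXS_ok
theorem commXD : Commute X5 d5 := commK_spec commXD_ok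
theorem commYD : Commute Y5 d5 := commK_spec commYD_ok

theorem Y_pow5 : Y5 ^ 5 = 1 := expK_spec expY_ok

theorem X_pow5 : X5 ^ 5 = 1 := valid5.X_pow

theorem conjS : s5 * Y5 * s5⁻¹ = Y5 ^ 2 := conjK_spec conjS_ok

theorem d5_eq : d5 = tp (cert5.fp 20) :=
  ((halfR_spec (valid5.base'.2.2.2.1 20
    ((Cert.pairK_spec valid5 pair5_ok).1.symm ▸ (by norm_num : 20 < 21))).1).2.2).symm

theorem d5_sq : d5 * d5 = 1 := by
  rw [d5_eq, tp, dif_pos (show cert5.fp 20 < CosetCert.Fi23Data.table.N from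
    (Cert.pairK_spec valid5 pair5_ok).2.1 20)]
  exact CosetCert.Fi23P.OutFi.dp_sq _

theorem d5_mem : d5 ∈ FiTransfer23.classTr :=
  mem_class_iff.2 ⟨_, (Cert.pairK_spec valid5 pair5_ok).2.1 20, d5_eq.symm⟩

theorem pow_mod_five {g : Fi23} (h : g ^ 5 = 1) (i : ℕ) : g ^ (i % 5) = g ^ i := by
  conv_rhs => rw [← Nat.mod_add_div i 5, pow_add, pow_mul, h, one_pow, mul_one]

/-- The elementary abelian subgroup of order twenty-five. -/
noncomputable def E5 : Subgroup Fi23 where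
  carrier := {z | ∃ i j : ℕ, z = X5 ^ i * Y5 ^ j}
  one_mem' := ⟨0, 0, by simp⟩
  mul_mem' := by
    rintro _ _ ⟨i, j, rfl⟩ ⟨a, b, rfl⟩
    refine ⟨i + a, j + b, ?_⟩
    rw [pow_add, pow_add, mul_assoc, ← mul_assoc (Y5 ^ j), ((commXY.pow_pow a j).symm).eq]
    simp only [mul_assoc]
  inv_mem' := by
    rintro _ ⟨i, j, rfl⟩
    refine ⟨4 * i, 4 * j, inv_eq_of_mul_eq_one_right ?_⟩
    rw [mul_assoc, ← mul_assoc (Y5 ^ j), ((commXY.pow_pow (4 * i) j).symm).eq, mul_assoc, ← pow_add,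
      ← mul_assoc, ← pow_add, show i + 4 * i = 5 * i by ring, show j + 4 * j = 5 * j by ring, pow_mul,
      pow_mul, X_pow5, Y_pow5, one_pow, one_pow, one_mul]

theorem X_mem_E : X5 ∈ E5 := ⟨1, 0, by simp⟩

theorem Y_mem_E : Y5 ∈ E5 := ⟨0, 1, by simp⟩

theorem rel_XY (i j : ℕ) : Rel label7 (fun a => cert5.fp a) (X5 ^ i * Y5 ^ j) (cyc ^ j) := by
  have := (rel_pow rel_X i).mul _ _ (rel_pow (rel_of_relK relY_ok) j)
  rwa [one_pow, one_mul] at this

theorem coords_unique {i i' j j' : ℕ} (h : X5 ^ i * Y5 ^ j = X5 ^ i' * Y5 ^ j') :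
    i % 5 = i' % 5 ∧ j % 5 = j' % 5 := by
  have hc : cyc ^ j = cyc ^ j' := rel_unique (rel_XY i j) (h ▸ rel_XY i' j')
  have hj : j % 5 = j' % 5 := by
    have h0 := (normal_forms 0 0 ⟨j % 5, Nat.mod_lt _ (by norm_num)⟩ ⟨j' % 5, Nat.mod_lt _ (by norm_num)⟩ 0 0
      (by simp [cyc_pow_mod, hc])).2.1
    exact congrArg Fin.val h0
  refine ⟨?_, hj⟩
  rw [← pow_mod_five Y_pow5 j, hj, pow_mod_five Y_pow5] at h
  have := mul_right_cancel h
  rwa [pow_eq_pow_iff_modEq, frob5.ord] at this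

theorem card_E : Nat.card E5 = 25 := by
  let f : Fin 5 × Fin 5 → E5 := fun a => ⟨X5 ^ (a.1 : ℕ) * Y5 ^ (a.2 : ℕ), a.1, a.2, rfl⟩
  have hf : Function.Bijective f := by
    constructor
    · rintro ⟨a, b⟩ ⟨a', b'⟩ h
      obtain ⟨h1, h2⟩ := coords_unique (congrArg Subtype.val h)
      rw [Nat.mod_eq_of_lt a.2, Nat.mod_eq_of_lt a'.2] at h1
      rw [Nat.mod_eq_of_lt b.2, Nat.mod_eq_of_lt b'.2] at h2
      exact Prod.ext (Fin.ext h1) (Fin.ext h2)
    · rintro ⟨_, i, j, rfl⟩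
      exact ⟨(⟨i % 5, Nat.mod_lt _ (by norm_num)⟩, ⟨j % 5, Nat.mod_lt _ (by norm_num)⟩),
        Subtype.ext (by simp [f, pow_mod_five X_pow5, pow_mod_five Y_pow5])⟩
  rw [← Nat.card_congr (Equiv.ofBijective f hf), Nat.card_prod, Nat.card_fin]

theorem mem_centralizer_E {g : Fi23} :
    g ∈ Subgroup.centralizer ((E5 : Subgroup Fi23) : Set Fi23) ↔ Commute g X5 ∧ Commute g Y5 := by
  rw [Subgroup.mem_centralizer_iff]
  constructor
  · intro h
    exact ⟨(h X5 X_mem_E).symm, (h Y5 Y_mem_E).symm⟩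
  · rintro ⟨h1, h2⟩ _ ⟨i, j, rfl⟩
    exact (((h1.pow_right i).mul_right (h2.pow_right j)).eq).symm

theorem E_comm {a b : Fi23} (ha : a ∈ E5) (hb : b ∈ E5) : a * b = b * a := by
  obtain ⟨i, j, rfl⟩ := ha
  obtain ⟨i', j', rfl⟩ := hb
  exact ((((Commute.refl X5).pow_pow i i').mul_right (commXY.pow_pow i j')).mul_left
    (((commXY.symm).pow_pow j i').mul_right ((Commute.refl Y5).pow_pow j j'))).eq

theorem E_exp {a : Fi23} (ha : a ∈ E5) : a ^ 5 = 1 := by
  obtain ⟨i, j, rfl⟩ := ha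
  rw [(commXY.pow_pow i j).mul_pow, ← pow_mul, ← pow_mul, mul_comm i, mul_comm j, pow_mul, pow_mul,
    X_pow5, Y_pow5, one_pow, one_pow, one_mul]

theorem rel_mem_F {g : Fi23} (h : Rel label7 (fun a => cert5.fp a) g 1)
    (hg : ∃ j : ℕ, g * X5 * g⁻¹ = X5 ^ j) : g ∈ frob5.F :=
  kernel5 (fun a => by rw [h a, label7.map_one]) hg

theorem exists_sigma {g : Fi23} (hg : g ∈ Subgroup.normalizer ((Subgroup.zpowers X5 : Subgroup Fi23) : Set Fi23)) :
    ∃ σ, Rel label7 (fun a => cert5.fp a) g σ := by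
  have : Finite Fi23 := finite
  obtain ⟨-, hlt, hfix, hact⟩ := Cert.pairK_spec valid5 pair5_ok
  exact exists_rel label7 _ desc7 hlt inj5 hfix hact hg

theorem centralizer_E {g : Fi23} (h1 : Commute g X5) (h2 : Commute g Y5) :
    ∃ i j v : ℕ, g = X5 ^ i * Y5 ^ j * d5 ^ v := by
  have : Finite Fi23 := finite
  have h1' : g * X5 * g⁻¹ = X5 ^ 1 := by rw [pow_one, h1.eq, mul_inv_cancel_right]
  obtain ⟨σ, hσ⟩ := exists_sigma (mem_normalizer_zpowers.2 ⟨1, h1'⟩)
  have hc : Commute σ cyc := rel_unique (hσ.mul _ _ (rel_of_relK relY_ok))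
    (h2.eq ▸ (rel_of_relK relY_ok).mul _ _ hσ)
  obtain ⟨j, -, v, -, rfl⟩ := centralizer_cyc hc
  set h := Y5 ^ j * d5 ^ v with hh
  have hr : Rel label7 (fun a => cert5.fp a) h (cyc ^ j * tt ^ v) :=
    (rel_pow (rel_of_relK relY_ok) j).mul _ _ (rel_pow (rel_of_relK relD_ok) v)
  have hr' := hσ.mul _ _ (hr.inv _ _)
  rw [mul_inv_cancel] at hr'
  have hhX : Commute (g * h⁻¹) X5 :=
    h1.mul_left (((commXY.pow_right j).mul_right (commXD.pow_right v)).symm.inv_left)
  obtain ⟨i, l, he⟩ := rel_mem_F hr' ⟨1, by rw [pow_one, hhX.eq, mul_inv_cancel_right]⟩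
  rw [he] at hhX
  rw [frob5.commute_iff_l.1 hhX, mul_one] at he
  exact ⟨i, j, v, by rw [mul_assoc, ← hh, ← he, inv_mul_cancel_right]⟩

/-- Conjugation preserving the generators of the subgroup normalises it. -/
theorem mem_normalizer_E {g : Fi23} (hX : g * X5 * g⁻¹ ∈ E5) (hY : g * Y5 * g⁻¹ ∈ E5) :
    g ∈ Subgroup.normalizer ((E5 : Subgroup Fi23) : Set Fi23) := by
  have : Finite Fi23 := finite
  have hle : E5.map (MulAut.conj g).toMonoidHom ≤ E5 := by
    rintro _ ⟨_, ⟨i, j, rfl⟩, rfl⟩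
    show g * (X5 ^ i * Y5 ^ j) * g⁻¹ ∈ E5
    rw [show g * (X5 ^ i * Y5 ^ j) * g⁻¹ = (g * X5 * g⁻¹) ^ i * (g * Y5 * g⁻¹) ^ j by
      rw [conj_pow, conj_pow]; group]
    exact mul_mem (pow_mem hX i) (pow_mem hY j)
  have heq : E5.map (MulAut.conj g).toMonoidHom = E5 :=
    Subgroup.eq_of_le_of_card_ge hle (le_of_eq (Subgroup.card_map_of_injective (MulAut.conj g).injective).symm)
  rw [Subgroup.mem_normalizer_iff]
  intro y
  conv_rhs => rw [← heq, Subgroup.mem_map]
  constructor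
  · intro hy; exact ⟨y, hy, rfl⟩
  · rintro ⟨z, hz, e⟩
    rwa [← (MulAut.conj g).injective e]

theorem conj_eq_of_commute {g h : Fi23} (c : Commute g h) : g * h * g⁻¹ = h := by
  rw [c.eq, mul_inv_cancel_right]

/-- The part of the normaliser fixing the first line. -/
noncomputable def stab5 : Subgroup Fi23 :=
  Subgroup.normalizer ((E5 : Subgroup Fi23) : Set Fi23) ⊓
    Subgroup.normalizer ((Subgroup.zpowers X5 : Subgroup Fi23) : Set Fi23)

theorem n5_normalizer : n5 ∈ Subgroup.normalizer ((E5 : Subgroup Fi23) : Set Fi23) :=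
  mem_normalizer_E (by rw [frob5.conj]; exact pow_mem X_mem_E _) (by
    rw [conj_eq_of_commute commnY]; exact Y_mem_E)

theorem gens_stab : X5 ∈ stab5 ∧ n5 ∈ stab5 ∧ s5 ∈ stab5 ∧ Y5 ∈ stab5 ∧ d5 ∈ stab5 := by
  have : Finite Fi23 := finite
  have hN : ∀ g, Commute g X5 → g ∈ Subgroup.normalizer ((Subgroup.zpowers X5 : Subgroup Fi23) : Set Fi23) :=
    fun g hg => mem_normalizer_zpowers.2 ⟨1, by rw [pow_one, conj_eq_of_commute hg]⟩
  refine ⟨⟨mem_normalizer_E ?_ ?_, hN _ (Commute.refl _)⟩, ⟨n5_normalizer, mem_normalizer_zpowers.2 ⟨2, frob5.conj⟩⟩,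
    ⟨mem_normalizer_E ?_ ?_, hN _ commXS.symm⟩, ⟨mem_normalizer_E ?_ ?_, hN _ commXY.symm⟩,
    ⟨mem_normalizer_E ?_ ?_, hN _ commXD.symm⟩⟩
  · rw [conj_eq_of_commute (Commute.refl _)]; exact X_mem_E
  · rw [conj_eq_of_commute commXY]; exact Y_mem_E
  · rw [conj_eq_of_commute commXS.symm]; exact X_mem_E
  · rw [conjS]; exact pow_mem Y_mem_E _
  · rw [conj_eq_of_commute commXY.symm]; exact X_mem_E
  · rw [conj_eq_of_commute (Commute.refl _)]; exact Y_mem_E
  · rw [conj_eq_of_commute commXD.symm]; exact X_mem_E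
  · rw [conj_eq_of_commute commYD.symm]; exact Y_mem_E

theorem card_stab : Nat.card stab5 = 800 := by
  have : Finite Fi23 := finite
  obtain ⟨hX, hn, hs, hY, hd⟩ := gens_stab
  let f : (Fin 5 × Fin 4) × (Fin 4 × Fin 5 × Fin 2) → stab5 := fun a =>
    ⟨X5 ^ (a.1.1 : ℕ) * n5 ^ (a.1.2 : ℕ) * (s5 ^ (a.2.1 : ℕ) * Y5 ^ (a.2.2.1 : ℕ) * d5 ^ (a.2.2.2 : ℕ)),
      mul_mem (mul_mem (pow_mem hX _) (pow_mem hn _))
        (mul_mem (mul_mem (pow_mem hs _) (pow_mem hY _)) (pow_mem hd _))⟩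
  have hrel : ∀ (i l q j v : ℕ), Rel label7 (fun a => cert5.fp a)
      (X5 ^ i * n5 ^ l * (s5 ^ q * Y5 ^ j * d5 ^ v)) (sq ^ q * cyc ^ j * tt ^ v) := by
    intro i l q j v
    have := ((rel_pow rel_X i).mul _ _ (rel_pow rel_n l)).mul _ _
      (((rel_pow (rel_of_relK relS_ok) q).mul _ _ (rel_pow (rel_of_relK relY_ok) j)).mul _ _
        (rel_pow (rel_of_relK relD_ok) v))
    rwa [one_pow, one_pow, one_mul, one_mul] at this
  have hf : Function.Bijective f := by
    constructor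
    · rintro ⟨⟨i, l⟩, q, j, v⟩ ⟨⟨i', l'⟩, q', j', v'⟩ h
      have h0 := congrArg Subtype.val h
      simp only [f] at h0
      obtain ⟨rfl, rfl, rfl⟩ := normal_forms q q' j j' v v'
        (rel_unique (hrel i l q j v) (h0 ▸ hrel i' l' q' j' v'))
      obtain ⟨h1, h2⟩ := frob5.inj i.2 i'.2 l.2 l'.2 (mul_right_cancel h0)
      rw [Fin.ext h1, Fin.ext h2]
    · rintro ⟨g, hgE, hgX⟩
      obtain ⟨σ, hσ⟩ := exists_sigma hgX
      obtain ⟨a, b, hab⟩ := (Subgroup.mem_normalizer_iff.1 hgE Y5).1 Y_mem_E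
      have hb : σ * cyc * σ⁻¹ = cyc ^ b := rel_unique
        ((hσ.mul _ _ (rel_of_relK relY_ok)).mul _ _ (hσ.inv _ _))
        (by rw [show g * el yW * g⁻¹ = X5 ^ a * Y5 ^ b from hab]; exact rel_XY a b)
      obtain ⟨q, hq, j, hj, v, hv, rfl⟩ := normalizer_cyc hb
      set h := s5 ^ q * Y5 ^ j * d5 ^ v with hh
      have hr : Rel label7 (fun a => cert5.fp a) h (sq ^ q * cyc ^ j * tt ^ v) := by
        have := hrel 0 0 q j v
        rwa [pow_zero, pow_zero, one_mul, one_mul] at this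
      have hr' := hσ.mul _ _ (hr.inv _ _)
      rw [mul_inv_cancel] at hr'
      have hh' : h ∈ stab5 := mul_mem (mul_mem (pow_mem hs _) (pow_mem hY _)) (pow_mem hd _)
      obtain ⟨i, l, he⟩ := rel_mem_F hr' (mem_normalizer_zpowers.1 (mul_mem hgX (inv_mem hh'.2)))
      refine ⟨((⟨i % 5, Nat.mod_lt _ (by norm_num)⟩, ⟨l % 4, Nat.mod_lt _ (by norm_num)⟩),
        ⟨q, hq⟩, ⟨j, hj⟩, ⟨v, hv⟩), Subtype.ext ?_⟩
      show X5 ^ (i % 5) * n5 ^ (l % 4) * h = g
      rw [frob5.pow_mod_p, frob5.pow_mod_e, ← he, inv_mul_cancel_right]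
  rw [← Nat.card_congr (Equiv.ofBijective f hf), Nat.card_prod, Nat.card_prod, Nat.card_prod, Nat.card_prod,
    Nat.card_fin, Nat.card_fin, Nat.card_fin]

/-- The six lines. -/
noncomputable def lineGen : Fin 6 → Fi23
  | 0 => X5
  | 1 => Y5
  | 2 => X5 * Y5
  | 3 => X5 ^ 2 * Y5
  | 4 => X5 ^ 4 * Y5
  | 5 => X5 ^ 3 * Y5

/-- The coordinates of the six lines. -/
def lineCo : Fin 6 → ℕ × ℕ
  | 0 => (1, 0)
  | 1 => (0, 1)
  | 2 => (1, 1)
  | 3 => (2, 1)
  | 4 => (4, 1)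
  | 5 => (3, 1)

theorem lineGen_eq (c : Fin 6) : lineGen c = X5 ^ (lineCo c).1 * Y5 ^ (lineCo c).2 := by
  match c with
  | 0 => simp [lineGen, lineCo]
  | 1 => simp [lineGen, lineCo]
  | 2 => simp [lineGen, lineCo]
  | 3 => simp [lineGen, lineCo]
  | 4 => simp [lineGen, lineCo]
  | 5 => simp [lineGen, lineCo]

theorem lineGen_cases {a b : ℕ} (h : ¬ (a % 5 = 0 ∧ b % 5 = 0)) :
    ∃ (c : Fin 6) (t : ℕ), X5 ^ a * Y5 ^ b = lineGen c ^ t := by
  have key : ∀ a < 5, ∀ b < 5, ¬ (a = 0 ∧ b = 0) → ∃ c : Fin 6, ∃ t < 5,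
      (lineCo c).1 * t % 5 = a ∧ (lineCo c).2 * t % 5 = b := by decide +kernel
  obtain ⟨c, t, -, h1, h2⟩ := key _ (Nat.mod_lt a (by norm_num)) _ (Nat.mod_lt b (by norm_num)) h
  refine ⟨c, t, ?_⟩
  rw [lineGen_eq, (commXY.pow_pow _ _).mul_pow, ← pow_mul, ← pow_mul, ← pow_mod_five X_pow5 a, ← h1,
    ← pow_mod_five Y_pow5 b, ← h2, pow_mod_five X_pow5, pow_mod_five Y_pow5]

theorem lineGen_inj {c c' : Fin 6} {t : ℕ} (h : lineGen c = lineGen c' ^ t) : c = c' := by
  have key : ∀ c c' : Fin 6, ∀ t < 5, (lineCo c).1 % 5 = (lineCo c').1 * t % 5 →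
      (lineCo c).2 % 5 = (lineCo c').2 * t % 5 → c = c' := by decide +kernel
  rw [lineGen_eq, lineGen_eq, (commXY.pow_pow _ _).mul_pow, ← pow_mul, ← pow_mul] at h
  obtain ⟨h1, h2⟩ := coords_unique h
  refine key c c' (t % 5) (Nat.mod_lt _ (by norm_num)) ?_ ?_
  · rw [h1, Nat.mul_mod (lineCo c').1 (t % 5), Nat.mod_mod, ← Nat.mul_mod]
  · rw [h2, Nat.mul_mod (lineCo c').2 (t % 5), Nat.mod_mod, ← Nat.mul_mod]

/-- A Sylow subgroup for the prime five. -/
noncomputable def sylow5 : Sylow 5 Fi23 :=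
  haveI : Finite Fi23 := finite
  haveI : Fact (Nat.Prime 5) := ⟨by norm_num⟩
  (IsPGroup.of_card (p := 5) (n := 2) (G := E5) (by rw [card_E]; norm_num)).toSylow (by
    have h := E5.card_mul_index
    rw [card_E, card_eq.1] at h
    intro hd
    rw [show E5.index = 163578818931720192 by omega] at hd
    norm_num at hd)

theorem sylow5_coe : (sylow5 : Subgroup Fi23) = E5 := rfl

theorem fuse {z m : Fi23} (hz : z ∈ E5) (hm : m * X5 * m⁻¹ = z) :
    ∃ r ∈ Subgroup.normalizer ((E5 : Subgroup Fi23) : Set Fi23), r * X5 * r⁻¹ = z := by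
  have : Finite Fi23 := finite
  have : Fact (Nat.Prime 5) := ⟨by norm_num⟩
  have hc : ∀ y ∈ E5, y ∈ Subgroup.centralizer ((sylow5 : Subgroup Fi23) : Set Fi23) := fun y hy =>
    Subgroup.mem_centralizer_iff.2 fun w hw => E_comm (sylow5_coe ▸ hw) hy
  obtain ⟨r, hr, he⟩ := sylow5.conj_eq_normalizer_conj_of_mem_centralizer X5 m⁻¹ (hc _ X_mem_E)
    (by rw [inv_inv, hm]; exact hc _ hz)
  refine ⟨r⁻¹, inv_mem hr, ?_⟩
  rw [inv_inv, hm] at he
  rw [inv_inv, ← he]

theorem line_fused (c : Fin 6) : ∃ r ∈ Subgroup.normalizer ((E5 : Subgroup Fi23) : Set Fi23),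
    r * X5 * r⁻¹ = lineGen c := by
  have hw : ∀ x ∈ cert5.w, x < 10 := valid5.w_lt
  have hyl : ∀ x ∈ yW, x < 10 := wordK_lt (by decide +kernel)
  have hconj : ∀ {m t : List ℕ}, (wordK m && sameR (m.reverse ++ cert5.w ++ m) t) = true →
      (∀ x ∈ t, x < 10) → el m * X5 * (el m)⁻¹ = el t := by
    intro m t h ht
    rw [Bool.and_eq_true] at h
    have hm := wordK_lt h.1
    rw [X5, Cert.X, ← el_reverse hm, mul_assoc, ← el_append, ← el_append]
    refine eq_of_sameR ?_ ht h.2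
    intro x hx
    simp only [List.mem_append, List.mem_reverse] at hx
    rcases hx with (hx | hx) | hx
    · exact hm x hx
    · exact hw x hx
    · exact hm x hx
  have h1 : el m1W * X5 * (el m1W)⁻¹ = Y5 := hconj m1_ok hyl
  have h2 : el m2W * X5 * (el m2W)⁻¹ = X5 * Y5 := by
    rw [hconj m2_ok fun x hx => (List.mem_append.1 hx).elim (hyl x) (hw x), el_append]
    rfl
  have hmix : ∀ l : ℕ, ∃ r ∈ Subgroup.normalizer ((E5 : Subgroup Fi23) : Set Fi23),
      r * X5 * r⁻¹ = X5 ^ (2 ^ l) * Y5 := by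
    obtain ⟨r, hr, he⟩ := fuse (mul_mem X_mem_E Y_mem_E) h2
    intro l
    refine ⟨n5 ^ l * r, mul_mem (pow_mem n5_normalizer l) hr, ?_⟩
    calc n5 ^ l * r * X5 * (n5 ^ l * r)⁻¹ = n5 ^ l * (r * X5 * r⁻¹) * (n5 ^ l)⁻¹ := by group
      _ = (n5 ^ l * X5 ^ 1 * (n5 ^ l)⁻¹) * (n5 ^ l * Y5 * (n5 ^ l)⁻¹) := by rw [he, pow_one]; group
      _ = X5 ^ (2 ^ l) * Y5 := by
        rw [frob5.conj_pow', mul_one, conj_eq_of_commute (commnY.pow_left l)]
  match c with
  | 0 => exact ⟨1, one_mem _, by simp [lineGen]⟩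
  | 1 => exact fuse Y_mem_E h1
  | 2 => simpa [lineGen] using hmix 0
  | 3 => simpa [lineGen] using hmix 1
  | 4 => simpa [lineGen] using hmix 2
  | 5 =>
    obtain ⟨r, hr, he⟩ := hmix 3
    refine ⟨r, hr, ?_⟩
    rw [he, ← pow_mod_five X_pow5 (2 ^ 3)]
    rfl

theorem card_normalizer_E : Nat.card ↥(Subgroup.normalizer ((E5 : Subgroup Fi23) : Set Fi23)) = 4800 := by
  have : Finite Fi23 := finite
  choose r hr he using line_fused
  let f : Fin 6 × stab5 → ↥(Subgroup.normalizer ((E5 : Subgroup Fi23) : Set Fi23)) := fun a =>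
    ⟨r a.1 * a.2, mul_mem (hr _) a.2.2.1⟩
  have hf : Function.Bijective f := by
    constructor
    · rintro ⟨c, s⟩ ⟨c', s'⟩ h
      have h0 : r c * s = r c' * s' := congrArg Subtype.val h
      obtain ⟨t, ht⟩ := mem_normalizer_zpowers.1 (mul_mem s'.2.2 (inv_mem s.2.2))
      have hc : c = c' := by
        refine lineGen_inj (t := t) ?_
        rw [← he c, ← he c', conj_pow, ← ht,
          show r c = r c' * ((s' : Fi23) * (s : Fi23)⁻¹) by rw [← mul_assoc, ← h0, mul_inv_cancel_right]]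
        group
      subst hc
      exact Prod.ext rfl (Subtype.ext (mul_left_cancel h0))
    · rintro ⟨g, hg⟩
      obtain ⟨a, b, hab⟩ := (Subgroup.mem_normalizer_iff.1 hg X5).1 X_mem_E
      obtain ⟨c, t, hct⟩ := lineGen_cases (a := a) (b := b) fun ⟨h1, h2⟩ => valid5.X_ne_one (by
        show X5 = 1
        rw [← pow_mod_five X_pow5 a, ← pow_mod_five Y_pow5 b, h1, h2, pow_zero, pow_zero, one_mul,
          mul_inv_eq_one, mul_eq_left] at hab
        exact hab)
      refine ⟨(c, ⟨(r c)⁻¹ * g, Subgroup.mem_inf.2 ⟨Subgroup.mul_mem _ (Subgroup.inv_mem _ (hr c)) hg,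
          mem_normalizer_zpowers.2 ⟨t, ?_⟩⟩⟩),
        Subtype.ext (mul_inv_cancel_left _ _)⟩
      calc (r c)⁻¹ * g * X5 * ((r c)⁻¹ * g)⁻¹ = (r c)⁻¹ * (g * X5 * g⁻¹) * r c := by group
        _ = X5 ^ t := by rw [hab, hct, ← he c, conj_pow]; group
  rw [← Nat.card_congr (Equiv.ofBijective f hf), Nat.card_prod, Nat.card_fin, card_stab]

theorem sylowShape5 : SylowShape FiTransfer23.classTr E5 := by
  have : Finite Fi23 := finite
  refine ⟨⟨⟨⟨fun a b => Subtype.ext (E_comm a.2 b.2)⟩⟩, fun a ha => E_exp ha⟩, card_E,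
    ⟨d5, d5_mem, ?_, ?_, le_antisymm (sup_le ?_ ?_) fun g hg => ?_⟩, card_normalizer_E⟩
  · rw [eq_bot_iff]
    rintro z ⟨hz, hzd⟩
    obtain ⟨t, rfl⟩ := Subgroup.mem_zpowers_iff.1 hzd
    have h1 := E_exp hz
    have h2 : (d5 ^ t) ^ 2 = 1 := by
      rw [← zpow_natCast, ← zpow_mul, mul_comm, zpow_mul, zpow_natCast, pow_two, d5_sq, one_zpow]
    rw [Subgroup.mem_bot]
    rwa [show 5 = 2 * 2 + 1 from rfl, pow_succ, pow_mul, h2, one_pow, one_mul] at h1
  · intro z hz y hy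
    obtain ⟨t, rfl⟩ := Subgroup.mem_zpowers_iff.1 hy
    obtain ⟨i, j, rfl⟩ := hz
    exact ((commXD.pow_left i).mul_left (commYD.pow_left j)).zpow_right t |>.eq
  · intro z hz
    exact Subgroup.mem_centralizer_iff.2 fun w hw => E_comm hw hz
  · rw [Subgroup.zpowers_le]
    exact mem_centralizer_E.2 ⟨commXD.symm, commYD.symm⟩
  · obtain ⟨hgX, hgY⟩ := mem_centralizer_E.1 hg
    obtain ⟨i, j, v, rfl⟩ := centralizer_E hgX hgY
    exact mul_mem (Subgroup.mem_sup_left ⟨i, j, rfl⟩)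
      (Subgroup.mem_sup_right (Subgroup.npow_mem_zpowers d5 v))

theorem conj_order_five : ∀ A B : Subgroup Fi23, Nat.card A = 5 → Nat.card B = 5 →
    ∃ g : Fi23, A.map (MulAut.conj g).toMonoidHom = B := by
  have : Finite Fi23 := finite
  have : Fact (Nat.Prime 5) := ⟨by norm_num⟩
  have key : ∀ A : Subgroup Fi23, Nat.card A = 5 →
      ∃ g : Fi23, A.map (MulAut.conj g).toMonoidHom = Subgroup.zpowers X5 := by
    intro A hA
    obtain ⟨Q, hQ⟩ := (IsPGroup.of_card (p := 5) (n := 1) (G := A) (by rw [hA]; norm_num)).exists_le_sylow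
    obtain ⟨u, hu⟩ := MulAction.exists_smul_eq Fi23 Q sylow5
    have hAE : A.map (MulAut.conj u).toMonoidHom ≤ E5 := by
      have h2 := congrArg (fun S : Sylow 5 Fi23 => (S : Subgroup Fi23)) hu
      simp only [Sylow.coe_subgroup_smul, Subgroup.pointwise_smul_def] at h2
      rw [← sylow5_coe, ← h2]
      exact Subgroup.map_mono hQ
    have hcard : Nat.card (A.map (MulAut.conj u).toMonoidHom) = 5 := by
      rw [Subgroup.card_map_of_injective (MulAut.conj u).injective, hA]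
    have hbot : A.map (MulAut.conj u).toMonoidHom ≠ ⊥ := fun h => by
      rw [h, Subgroup.card_bot] at hcard; omega
    obtain ⟨z, hz, hz1⟩ := (Subgroup.ne_bot_iff_exists_ne_one).1 hbot |>.elim
      fun z hz => (⟨z.1, z.2, fun h => hz (Subtype.ext h)⟩ : ∃ z, z ∈ A.map (MulAut.conj u).toMonoidHom ∧ z ≠ 1)
    obtain ⟨a, b, hab⟩ := hAE hz
    obtain ⟨c, t, hct⟩ := lineGen_cases (a := a) (b := b) fun ⟨h1, h2⟩ => hz1 (by
      rw [hab, ← pow_mod_five X_pow5 a, ← pow_mod_five Y_pow5 b, h1, h2, pow_zero, pow_zero, one_mul])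
    obtain ⟨r, -, hr⟩ := line_fused c
    have heq : A.map (MulAut.conj u).toMonoidHom = (Subgroup.zpowers X5).map (MulAut.conj r).toMonoidHom := by
      rw [MonoidHom.map_zpowers]
      show _ = Subgroup.zpowers (r * X5 * r⁻¹)
      rw [hr]
      have hzg : Subgroup.zpowers z = A.map (MulAut.conj u).toMonoidHom :=
        Subgroup.eq_of_le_of_card_ge (Subgroup.zpowers_le.2 hz) (by
          rw [hcard, Nat.card_zpowers, orderOf_eq_prime (E_exp (hAE hz)) hz1])
      have hle : Subgroup.zpowers z ≤ Subgroup.zpowers (lineGen c) := by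
        rw [Subgroup.zpowers_le, hab, hct]; exact Subgroup.npow_mem_zpowers _ t
      rw [← hzg]
      refine Subgroup.eq_of_le_of_card_ge hle ?_
      rw [Nat.card_zpowers, Nat.card_zpowers, orderOf_eq_prime (E_exp (hAE hz)) hz1, ← hr]
      refine Nat.le_of_dvd (by norm_num) (orderOf_dvd_of_pow_eq_one ?_)
      rw [conj_pow, X_pow5, mul_one, mul_inv_cancel]
    refine ⟨r⁻¹ * u, ?_⟩
    have h3 : (MulAut.conj (r⁻¹ * u)).toMonoidHom =
        (MulAut.conj r⁻¹).toMonoidHom.comp (MulAut.conj u).toMonoidHom := by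
      ext x; simp [mul_assoc]
    rw [h3, ← Subgroup.map_map, heq, Subgroup.map_map]
    convert Subgroup.map_id (Subgroup.zpowers X5) using 2
    ext x; simp [mul_assoc]
  intro A B hA hB
  obtain ⟨a, ha⟩ := key A hA
  obtain ⟨b, hb⟩ := key B hB
  refine ⟨b⁻¹ * a, ?_⟩
  have h3 : (MulAut.conj (b⁻¹ * a)).toMonoidHom =
      (MulAut.conj b⁻¹).toMonoidHom.comp (MulAut.conj a).toMonoidHom := by
    ext x; simp [mul_assoc]
  rw [h3, ← Subgroup.map_map, ha, ← hb, Subgroup.map_map]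
  convert Subgroup.map_id B using 2
  ext x; simp [mul_assoc]

end CfsgLib.Sporadic.FiTransfer.Norm23
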