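import Cfsg.Agent.Lib.Sporadic.FiTransfer.Norm23.Free
import Cfsg.Agent.Lib.Sporadic.FiTransfer.Norm23.Order7
import Cfsg.Agent.Lib.Sporadic.FiTransfer.Norm23.Order11
import Cfsg.Agent.Lib.Sporadic.FiTransfer.Norm23.Order13
import Cfsg.Agent.Lib.Sporadic.FiTransfer.Norm23.Sylow5

/-!
Normalisers of the subgroups of prime order at least five in a group isomorphic to Fi23 with its class of
transpositions.
-/

set_option autoImplicit false
set_option maxRecDepth 100000

open Cfsg.Spor

namespace CfsgLib.Sporadic.FiTransfer.Norm23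

open CosetCert.Fi23P (finite card_eq)
open CosetCert.Fi23P.OutFi (T)

/-- All subgroups of one order are conjugate and have the property. -/
theorem all_shape {p : ℕ} (hp : p.Prime) (hp2 : ¬ p ^ 2 ∣ 4089470473293004800) {X : Fi23}
    (hX : Nat.card (Subgroup.zpowers X) = p) (P : Subgroup Fi23 → Prop)
    (hP : ∀ (g : Fi23) (A : Subgroup Fi23), P (A.map (MulAut.conj g).toMonoidHom) → P A)
    (h : P (Subgroup.zpowers X)) :
    (∀ A B : Subgroup Fi23, Nat.card A = p → Nat.card B = p →
      ∃ g : Fi23, A.map (MulAut.conj g).toMonoidHom = B) ∧ ∀ A : Subgroup Fi23, Nat.card A = p → P A := by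
  have : Finite Fi23 := finite
  have hc := conj_of_prime (G := Fi23) hp (by rw [card_eq.1]; exact hp2)
  exact ⟨hc, all_of_conj P hP hc hX h⟩

theorem conj_class (g : Fi23) : MulAut.conj g '' FiTransfer23.classTr = FiTransfer23.classTr :=
  conj_image (fun _ _ hd => FiTransfer23.classTr_conj hd) g

variable {G : Type*} [Group G] {D : Set G}

/-- Transport of a normaliser shape. -/
theorem transport_normal {p m n : ℕ} (h : FiTransfer23.ModelIso G D)
    (hm : (∀ A B : Subgroup Fi23, Nat.card A = p → Nat.card B = p →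
      ∃ g : Fi23, A.map (MulAut.conj g).toMonoidHom = B) ∧
      ∀ A : Subgroup Fi23, Nat.card A = p → NormalShape FiTransfer23.classTr m n A) :
    (∀ A B : Subgroup G, Nat.card A = p → Nat.card B = p →
      ∃ g : G, A.map (MulAut.conj g).toMonoidHom = B) ∧
      ∀ A : Subgroup G, Nat.card A = p → NormalShape D m n A := by
  obtain ⟨e, he⟩ := h
  exact ⟨conj_pull e hm.1, fun A hA => NormalShape.pull e he (hm.2 _ (by rw [card_map_equiv, hA]))⟩

theorem order_five (h : FiTransfer23.ModelIso G D) :
    (∀ A B : Subgroup G, Nat.card A = 5 → Nat.card B = 5 →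
      ∃ g : G, A.map (MulAut.conj g).toMonoidHom = B) ∧
      ∀ A : Subgroup G, Nat.card A = 5 → NormalShape D 20 7 A :=
  transport_normal h ⟨conj_order_five, all_of_conj (NormalShape FiTransfer23.classTr 20 7)
    (fun g _ hA => NormalShape.pull (MulAut.conj g) (conj_class g) hA) conj_order_five card_X5 shape5⟩

theorem order_seven (h : FiTransfer23.ModelIso G D) :
    (∀ A B : Subgroup G, Nat.card A = 7 → Nat.card B = 7 →
      ∃ g : G, A.map (MulAut.conj g).toMonoidHom = B) ∧
      ∀ A : Subgroup G, Nat.card A = 7 → NormalShape D 42 5 A :=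
  transport_normal h (all_shape (by norm_num) (by norm_num) card_X7
    (NormalShape FiTransfer23.classTr 42 5)
    (fun g _ hA => NormalShape.pull (MulAut.conj g) (conj_class g) hA) shape7)

theorem order_thirteen (h : FiTransfer23.ModelIso G D) :
    (∀ A B : Subgroup G, Nat.card A = 13 → Nat.card B = 13 →
      ∃ g : G, A.map (MulAut.conj g).toMonoidHom = B) ∧
      ∀ A : Subgroup G, Nat.card A = 13 → NormalShape D 78 3 A :=
  transport_normal h (all_shape (by norm_num) (by norm_num) card_T
    (NormalShape FiTransfer23.classTr 78 3)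
    (fun g _ hA => NormalShape.pull (MulAut.conj g) (conj_class g) hA) shape13)

theorem order_eleven (h : FiTransfer23.ModelIso G D) :
    (∀ A B : Subgroup G, Nat.card A = 11 → Nat.card B = 11 →
      ∃ g : G, A.map (MulAut.conj g).toMonoidHom = B) ∧
      ∀ A : Subgroup G, Nat.card A = 11 → PairShape D A := by
  obtain ⟨h1, h2⟩ := all_shape (p := 11) (by norm_num) (by norm_num) card_X11
    (PairShape FiTransfer23.classTr)
    (fun g _ hA => PairShape.pull (MulAut.conj g) (conj_class g) hA) pair11
  obtain ⟨e, he⟩ := h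
  exact ⟨conj_pull e h1, fun A hA => PairShape.pull e he (h2 _ (by rw [card_map_equiv, hA]))⟩

theorem order_free (h : FiTransfer23.ModelIso G D) :
    (∀ A : Subgroup G, Nat.card A = 17 → FreeShape (17 * 16) A) ∧
      ∀ A : Subgroup G, Nat.card A = 23 → FreeShape (23 * 11) A := by
  obtain ⟨e, he⟩ := h
  constructor
  · intro A hA
    refine FreeShape.pull e ((all_shape (p := 17) (by norm_num) (by norm_num) card_X17
      (FreeShape (17 * 16))
      (fun g _ hA => FreeShape.pull (MulAut.conj g) hA) shape17).2 _ (by rw [card_map_equiv, hA]))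
  · intro A hA
    refine FreeShape.pull e ((all_shape (p := 23) (by norm_num) (by norm_num) card_X23
      (FreeShape (23 * 11))
      (fun g _ hA => FreeShape.pull (MulAut.conj g) hA) shape23).2 _ (by rw [card_map_equiv, hA]))

theorem sylow_five (h : FiTransfer23.ModelIso G D) (E : Sylow 5 G) : SylowShape D (E : Subgroup G) := by
  have : Finite Fi23 := finite
  have : Fact (Nat.Prime 5) := ⟨by norm_num⟩
  obtain ⟨e, he⟩ := h
  have : Finite G := Finite.of_equiv _ e.symm.toEquiv
  have hcard : Nat.card ((E : Subgroup G).map e.toMonoidHom) = 5 ^ (Nat.card Fi23).factorization 5 := by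
    rw [card_map_equiv, E.card_eq_multiplicity, Nat.card_congr e.toEquiv]
  obtain ⟨g, hg⟩ := MulAction.exists_smul_eq Fi23 (Sylow.ofCard _ hcard) sylow5
  have h2 := congrArg (fun S : Sylow 5 Fi23 => (S : Subgroup Fi23)) hg
  simp only [Sylow.coe_subgroup_smul, Subgroup.pointwise_smul_def] at h2
  refine SylowShape.pull e he (SylowShape.pull (MulAut.conj g) (conj_class g) ?_)
  have h3 : ((E : Subgroup G).map e.toMonoidHom).map (MulAut.conj g).toMonoidHom = E5 := h2.trans sylow5_coe
  rw [h3]
  exact sylowShape5

end CfsgLib.Sporadic.FiTransfer.Norm23
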